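import Cfsg.Agent.H2.CE3
import Cfsg.Prelude.Def_FusionFitting

/-! Components, the layer and the generalized Fitting subsystem of a saturated fusion system. -/

set_option autoImplicit false

namespace H2
open Subgroup Cfsg Cfsg.FusionSystem H7
open scoped commutatorElement

universe u

variable {Ω : Type u} [Group Ω] {S T U V W X Y P Q R : Subgroup Ω} {F : FusionSystem S}
  {E : FusionSystem T} {D : FusionSystem Y} {C : FusionSystem U} {N : FusionSystem W} {p : ℕ}
  {f g : Ω → Ω}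

theorem Nrm.congr_right (h : Nrm C E p) (h1 : E.IsSubsystemOf D) (h2 : D.IsSubsystemOf E) :
    Nrm C D p := by
  cases fs_heq h1 h2; exact h

theorem Nrm.congr_left (h : Nrm E F p) (h1 : E.IsSubsystemOf D) (h2 : D.IsSubsystemOf E) :
    Nrm D F p := by
  cases fs_heq h1 h2; exact h

theorem subnormal_congr (h : E.IsSubnormalIn F p) (h1 : E.IsSubsystemOf D)
    (h2 : D.IsSubsystemOf E) : D.IsSubnormalIn F p := by
  cases fs_heq h1 h2; exact h

theorem comp_sub (h : C.IsComponentIn F p) : C.IsSubsystemOf F := subnormal_sub h.1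

theorem comp_of_nrm [Finite S] (h : C.IsComponentIn E p) (n : Nrm E F p) : C.IsComponentIn F p :=
  ⟨h.1.step (normalIn_iff.2 n), h.2⟩

theorem qs_focal (h : C.Quasisimple p) : U ≤ C.focalSubgroup := h.2.1.ge.trans (hyp_le_focal C p)

theorem Cz.focal_le (h : Cz F T C) : C.focalSubgroup ≤ cenS F E p := focal_le_iff.2 fun P f hf x hx =>
  let ⟨_, g1, g2, g3⟩ := h.ext P f hf
  g2 x hx ▸ mem_cenS_of_fix g1 le_sup_right g3 (mem_sup_left hx) (h.le' (hf.le hx)).2

variable [Fact p.Prime]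

theorem subn_meet (h : C.IsSubnormalIn F p) : ∀ [Finite S] {T : Subgroup Ω} {E : FusionSystem T},
    IsPGroup p S → Nrm E F p →
    ∃ (V : Subgroup Ω) (D : FusionSystem V), V = U ⊓ T ∧ Nrm D C p ∧ D.IsSubnormalIn E p := by
  rename_i hp
  revert hp
  induction h with
  | refl F p => exact fun _ n => ⟨_, _, (inf_eq_right.2 n.le).symm, n, .refl _ _⟩
  | step h0 k ih =>
    intro _ _ T E hS n
    have m := normalIn_iff.1 k
    haveI := finite_of_le m.le
    haveI := finite_of_le n.le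
    obtain ⟨M, -, m2, m3, -⟩ := exists_meet2 hS n.satF m.satE n.satE m.inv n.inv
    obtain ⟨V, D, e, d1, d2⟩ := ih (hS.to_le m.le) m2
    exact ⟨V, D, by rw [e, ← inf_assoc, inf_eq_left.2 (sub_le (subnormal_sub h0))], d1,
      d2.step (normalIn_iff.2 m3)⟩

variable [Finite S]

theorem comp_of_le (hS : IsPGroup p S) (h : C.IsComponentIn F p) (n : Nrm E F p) (l : U ≤ T) :
    C.IsComponentIn E p := by
  obtain ⟨V, D, e, d1, d2⟩ := subn_meet h.1 hS n
  have lU := sub_le (comp_sub h)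
  haveI := finite_of_le lU
  rcases qs_dich (hS.to_le lU) h.2 d1.satE d1.inv with k | k
  · exact ⟨subnormal_congr d2 d1.inv.sub k, h.2⟩
  · exact (qs_not_le (hS.to_le lU) h.2 ((le_inf le_rfl l).trans (e.ge.trans k))).elim

theorem qs_not_abelian (hS : IsPGroup p S) (h : F.Quasisimple p) : ¬ S ≤ cen S := fun k =>
  qs_not_le hS h (qs_core hS h (normal_of_abelian_sc hS h.1 (sc_top F)
    (le_centralizer_iff_isMulCommutative.1 k)))

omit [Finite S] in
/-- a component either lies in a normal subsystem or is centralised by its support -/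
theorem subn_dich (h : C.IsSubnormalIn F p) (hq : C.Quasisimple p) :
    ∀ [Finite S] {T : Subgroup Ω} {E : FusionSystem T}, IsPGroup p S → Nrm E F p → ¬ U ≤ T →
      Cz F T C := by
  rename_i hp
  revert hp hq
  induction h with
  | refl F p =>
    intro _ hq _ T E hS n k
    exact cz_of_central (central_iff_le.2 ((qs_sc hS hq n.satE n.inv).resolve_left
      fun e => k e.ge)) (sub_refl F)
  | @step W S C N F p h0 k ih =>
    intro _ hq _ T E hS n k'
    have m := normalIn_iff.1 k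
    haveI := finite_of_le m.le
    have pW := hS.to_le m.le
    have lU := sub_le (subnormal_sub h0)
    obtain ⟨D₁, d1, d2, -, -⟩ := exists_meet2 hS n.satF m.satE n.satE m.inv n.inv
    have c1 := (ih hq pW d2 fun l => k' (l.trans inf_le_right)).sub_right m.inv.sub
    obtain ⟨Z, z1, z2, -⟩ := d1.exists_cenF hS
    obtain ⟨M, m1, m2, m3, -⟩ := exists_meet2 hS n.satF m.satE z1.satE m.inv z1.inv
    haveI := finite_of_le m1.le
    have cM := comp_sub (comp_of_le pW ⟨h0, hq⟩ m2 (le_inf lU ((qs_focal hq).trans c1.focal_le)))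
    have fx : ∀ P f, Mor M P f → ∀ x ∈ P, x ∈ T → f x = x := fun P f hf x hx hx' =>
      z2.fix (hf.sub m3.inv.sub) hx ⟨(hf.le hx).1, hx'⟩
    have hy := m1.hyp_le_cen hS n.inv.sc (central_of_fix (hS.to_le m1.le) m1.satE inf_le_right
      fun P f hf x hx hx' => fx P f hf x hx hx'.1)
    obtain ⟨O, o1, o2⟩ := m1.exists_pres hS
    exact (o2.cz_of_sc hS n.inv.sc (le_centralizer_iff.1 hy)
      fun P f hf => fx P f (hf.sub o1.sub)).of_sub (o1.ge (hS.to_le m1.le) hq.1 cM
        (hq.2.1.ge.trans (hyp_mono cM)))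

theorem comp_dich (hS : IsPGroup p S) (h : C.IsComponentIn F p) (n : Nrm E F p) :
    C.IsComponentIn E p ∨ Cz F T C :=
  (em (U ≤ T)).imp (comp_of_le hS h n) (subn_dich h.1 h.2 hS n)

/-- the layer -/
structure Lay (E : FusionSystem T) (F : FusionSystem S) (p : ℕ) : Prop where
  nm : Nrm E F p
  comp : ∀ (U : Subgroup Ω) (C : FusionSystem U), C.IsComponentIn F p → C.IsSubsystemOf E
  min : ∀ (R : Subgroup Ω) (D : FusionSystem R), Nrm D F p →
    (∀ (U : Subgroup Ω) (C : FusionSystem U), C.IsComponentIn F p → U ≤ R) → E.IsSubsystemOf D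

theorem lay_iff (hS : IsPGroup p S) : E.IsLayerOf F p ↔ Lay E F p :=
  ⟨fun h => ⟨normalIn_iff.1 h.1, h.2.1, fun R D n k => h.2.2 R D (normalIn_iff.2 n)
    fun U C c => comp_sub (comp_of_le hS c n (k U C c))⟩,
   fun h => ⟨normalIn_iff.2 h.nm, h.comp, fun R D n k => h.min R D (normalIn_iff.1 n)
    fun U C c => sub_le (k U C c)⟩⟩

theorem exists_lay (hS : IsPGroup p S) (hF : F.IsSaturated p) :
    ∃ (T : Subgroup Ω) (E : FusionSystem T), Lay E F p := by
  suffices h : ∀ {T : Subgroup Ω} [Finite T] (E : FusionSystem T), Nrm E F p →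
      (∀ (U : Subgroup Ω) (C : FusionSystem U), C.IsComponentIn F p → U ≤ T) →
      ∃ (T : Subgroup Ω) (E : FusionSystem T), Lay E F p from
    h F (nrm_refl hF) fun U C c => sub_le (comp_sub c)
  intro T _ E
  refine sub_induction (Φ := fun {T} E => Nrm E F p →
    (∀ (U : Subgroup Ω) (C : FusionSystem U), C.IsComponentIn F p → U ≤ T) →
      ∃ (T : Subgroup Ω) (E : FusionSystem T), Lay E F p) (fun E ih n k => ?_) E
  by_contra ne
  refine ne ⟨_, E, n, fun U C c => comp_sub (comp_of_le hS c n (k U C c)), fun R D d k' => ?_⟩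
  by_contra l
  obtain ⟨M, m1, m2, m3, -⟩ := exists_meet2 hS hF n.satE d.satE n.inv d.inv
  exact ne (ih M m2.inv.sub (fun l' => l (sub_trans l' m3.inv.sub)) m1
    fun U C c => le_inf (k U C c) (k' U C c))

omit [Fact p.Prime] [Finite S] in
theorem Lay.unique (h : Lay E F p) (h' : Lay D F p) : E.IsSubsystemOf D :=
  h.min _ _ h'.nm fun U C c => sub_le (h'.comp U C c)

theorem Lay.comp' (h : Lay E F p) (hS : IsPGroup p S) (c : C.IsComponentIn F p) :
    C.IsComponentIn E p := comp_of_le hS c h.nm (sub_le (h.comp _ _ c))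

theorem FSI.comp {Ω' : Type*} [Group Ω'] {S' U' : Subgroup Ω'} {F' : FusionSystem S'}
    {C' : FusionSystem U'} {θ : Ω → Ω'} {θ' : Ω' → Ω} (h : FSI F F' θ θ') (h' : FSI C C' θ θ')
    (hS : IsPGroup p S) (c : C.IsComponentIn F p) : C'.IsComponentIn F' p :=
  haveI := finite_of_le (sub_le (comp_sub c))
  ⟨FSI.subnormal c.1 hS h h', h'.quasisimple (hS.to_le (sub_le (comp_sub c))) c.2⟩

theorem FSI.lay {Ω' : Type u} [Group Ω'] {S' T' : Subgroup Ω'} {F' : FusionSystem S'}
    {E' : FusionSystem T'} {θ : Ω → Ω'} {θ' : Ω' → Ω} (h : FSI F F' θ θ') (h' : FSI E E' θ θ')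
    (hS : IsPGroup p S) (l : Lay E F p) : Lay E' F' p := by
  haveI := h.finite
  have hS' := h.isPGroup hS
  refine ⟨h.nrm h' hS l.nm, fun U C c => ?_, fun R D n k => ?_⟩
  · obtain ⟨C', c1, -⟩ := h.symm.exists_push (comp_sub c) rfl
    exact c1.symm.sub_of h' (l.comp _ _ (h.symm.comp c1 hS' c))
  · obtain ⟨D', d1, -⟩ := h.symm.exists_push n.inv.sub rfl
    refine h'.sub_of d1.symm (l.min _ _ (h.symm.nrm d1 hS' n) fun U C c => ?_)
    obtain ⟨C', c1, -⟩ := h.exists_push (comp_sub c) rfl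
    exact c1.symm.onto.ge.trans (img_mono _ (k _ _ (h.comp c1 hS c)))

/-- the layer of a normal subsystem is normal -/
theorem Lay.nrm_of (h : Lay D E p) (n : Nrm E F p) (hS : IsPGroup p S) : Nrm D F p :=
  haveI := finite_of_le n.le
  h.nm.char n hS fun _ _ _ _ _ j1 j2 _ => (j1.lay j2 (hS.to_le n.le) h).unique h

theorem Lay.self (h : Lay E F p) (hS : IsPGroup p S) : Lay E E p := by
  haveI := finite_of_le h.nm.le
  obtain ⟨V, D, d⟩ := exists_lay (hS.to_le h.nm.le) h.nm.satE
  cases fs_heq d.nm.inv.sub (h.min _ _ (d.nrm_of h.nm hS)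
    fun U C c => sub_le (d.comp U C (h.comp' hS c)))
  exact d

/-- the layer of a normal subsystem is normal in the layer -/
theorem Lay.nrm_lay (h : Lay E F p) (n : Nrm N F p) (h' : Lay D N p) (hS : IsPGroup p S) :
    Nrm D E p := by
  haveI := finite_of_le n.le
  have d := h'.nrm_of n hS
  obtain ⟨M, -, m2, m3, -⟩ := exists_meet2 hS n.satF d.satE h.nm.satE d.inv h.nm.inv
  exact m3.congr_left m2.inv.sub ((h'.self (hS.to_le n.le)).min _ _ m2 fun U C c =>
    le_inf (sub_le (comp_sub c)) (sub_le (h.comp _ _ (comp_of_nrm c d))))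

theorem comp_not_le_normal (hS : IsPGroup p S) (c : C.Quasisimple p) (hC : C.IsSubnormalIn F p)
    (hF : F.IsSaturated p) (hQ : F.IsNormal Q) : ¬ U ≤ Q := fun l =>
  haveI := finite_of_le hQ.1
  haveI := finite_of_le l
  qs_hyp_ne_bot (hS.to_le (l.trans hQ.1)) c
    (comp_sub (comp_of_le hS ⟨hC, c⟩ (inner_nrm hS hF hQ) l)) (hyp_inner (hS.to_le hQ.1))

theorem Lay.cz_normal (h : Lay E F p) (hS : IsPGroup p S) (hQ : F.IsNormal Q) : Cz F Q E := by
  obtain ⟨Z, z⟩ := exists_cen F hQ.1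
  exact z.cz_iff.1 (h.min _ _ (z.nrm_bot hS h.nm.satF hQ) fun U C c =>
    (subn_dich c.1 c.2 hS (inner_nrm hS h.nm.satF hQ)
      (comp_not_le_normal hS c.2 c.1 h.nm.satF hQ)).le')

/-- `E C_F(E)` -/
theorem Nrm.exists_prod_cen (n : Nrm E F p) (hS : IsPGroup p S) :
    ∃ (Z : FusionSystem (cenS F E p)) (D : FusionSystem (T ⊔ cenS F E p)), Nrm Z F p ∧ Cz F T Z ∧
      CP E Z D ∧ Nrm D F p ∧
      ∀ (U : Subgroup Ω) (C : FusionSystem U), C.IsComponentIn F p → U ≤ T ⊔ cenS F E p := by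
  obtain ⟨Z, z1, z2, -⟩ := n.exists_cenF hS
  obtain ⟨D, d1, d2⟩ := n.exists_prod z1 hS z2 (n.cz_cenS hS)
  exact ⟨Z, D, z1, z2, d1, d2, fun U C c => (comp_dich hS c n).elim
    (fun k => (sub_le (comp_sub k)).trans le_sup_left)
    fun k => ((qs_focal c.2).trans k.focal_le).trans le_sup_right⟩

omit [Finite S] in
theorem subn_nrm_lay (h : C.IsSubnormalIn F p) (hq : C.Quasisimple p) :
    ∀ [Finite S] {T : Subgroup Ω} {E : FusionSystem T}, IsPGroup p S → Lay E F p → Nrm C E p := by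
  rename_i hp
  revert hp hq
  induction h with
  | refl F p =>
    intro _ hq _ T E hS l
    exact (nrm_refl hq.1).congr_right (l.comp _ _ ⟨.refl _ _, hq⟩) l.nm.inv.sub
  | @step W S C N F p h0 k ih =>
    intro _ hq _ T E hS l
    have m := normalIn_iff.1 k
    haveI := finite_of_le m.le
    haveI := finite_of_le l.nm.le
    have pT := hS.to_le l.nm.le
    obtain ⟨V, N₀, l0⟩ := exists_lay (hS.to_le m.le) m.satE
    obtain ⟨Z, D, -, -, d1, d2, d3⟩ := (l.nrm_lay m l0 hS).exists_prod_cen pT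
    exact (d1.nrm_of d2.satE (ih hq (hS.to_le m.le) l0)).congr_right d2.inv.sub
      ((l.self hS).min _ _ d2 d3)

theorem Lay.nrm_comp (h : Lay E F p) (hS : IsPGroup p S) (c : C.IsComponentIn F p) : Nrm C E p :=
  subn_nrm_lay c.1 c.2 hS h

theorem gf_iff (hS : IsPGroup p S) : D.IsGeneralizedFittingOf F p ↔
    ∃ (T : Subgroup Ω) (E : FusionSystem T), Lay E F p ∧ CP (innerFusionSystem F.core) E D := by
  haveI := finite_of_le (core_le F)
  refine exists_congr fun T => exists_congr fun E => ?_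
  rw [lay_iff hS]
  refine and_congr_right fun l => ?_
  haveI := finite_of_le l.nm.le
  exact cp_iff

theorem exists_fstar (hS : IsPGroup p S) (hF : F.IsSaturated p) :
    ∃ (U : Subgroup Ω) (D : FusionSystem U), D.IsGeneralizedFittingOf F p := by
  obtain ⟨T, E, l⟩ := exists_lay hS hF
  have z := l.cz_normal hS (normal_core F)
  obtain ⟨D, d, -⟩ := (inner_nrm hS hF (normal_core F)).exists_prod l.nm hS z
    (cz_inner z.le' (core_le F))
  exact ⟨_, D, (gf_iff hS).2 ⟨T, E, l, d⟩⟩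

theorem fstar_nrm (hS : IsPGroup p S) (h : D.IsGeneralizedFittingOf F p) : Nrm D F p :=
  let ⟨_, _, l, d⟩ := (gf_iff hS).1 h
  d.nrm hS (inner_nrm hS l.nm.satF (normal_core F)) l.nm

/-- a normal subsystem containing `O_p` and all components contains its centraliser -/
theorem Nrm.cenS_le (n : Nrm E F p) (hS : IsPGroup p S) (h1 : F.core ≤ T)
    (h2 : ∀ (U : Subgroup Ω) (C : FusionSystem U), C.IsComponentIn F p → U ≤ T) :
    cenS F E p ≤ T := by
  obtain ⟨Z, z1, z2, -⟩ := n.exists_cenF hS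
  haveI := finite_of_le z1.le
  have pZ := hS.to_le z1.le
  have c := constrained_iff.1 ((constrained_iff_no_component pZ z1.satE).2 fun ⟨U, C, c⟩ =>
    haveI := finite_of_le (sub_le (comp_sub c))
    qs_not_abelian (pZ.to_le (sub_le (comp_sub c))) c.2 ((sub_le (comp_sub c)).trans
      (H2.cenS_le.trans (inf_le_right.trans (centralizer_le (h2 U C (comp_of_nrm c z1)))))))
  have l := (le_core (z1.inv.core_normal hS n.satF)).trans h1
  exact le_trans (fun x hx => c.2 ⟨hx, centralizer_le l (H2.cenS_le hx).2⟩) l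

theorem fstar_cz (hS : IsPGroup p S) (h : D.IsGeneralizedFittingOf F p) (z : Cz F X D) :
    X ≤ D.center := by
  have n := fstar_nrm hS h
  obtain ⟨T, E, l, d⟩ := (gf_iff hS).1 h
  haveI := finite_of_le n.le
  exact le_center' (central_of_fix (hS.to_le n.le) n.satE ((z.le_cenS hS).trans (n.cenS_le hS d.le1
    fun U C c => (sub_le (l.comp U C c)).trans d.le2)) fun P f hf x => z.fix hf)

end H2
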