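import Cfsg.Agent.H3.Deg
import Cfsg.Agent.H3.Der
import Cfsg.Agent.H3.Down
import Cfsg.Agent.H1.U1

/-! Character degrees (Isaacs, chapter 12): basic lemmas. -/

set_option autoImplicit false
set_option maxSynthPendingDepth 3

open Cfsg H7 H3 Subgroup
open scoped ComplexConjugate commutatorElement

namespace H2

variable {G : Type*} [Group G] {H K N : Subgroup G} {χ ψ : G → ℂ}

theorem dg_res (χ : G → ℂ) (H : Subgroup G) : dg (χ↾H) = dg χ := rfl

theorem dg_mul (a : Ch G χ) (b : Ch G ψ) : dg (χ * ψ) = dg χ * dg ψ :=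
  dg_eq (by rw [Pi.mul_apply, a.deg, b.deg, Nat.cast_mul])

theorem dg_ind [Fintype G] {θ : H → ℂ} (a : Ch H θ) : dg (indFun H θ) = H.index * dg θ :=
  dg_eq (by rw [indFun_one, a.deg, Nat.cast_mul])

theorem dg_le_over [Fintype H] {θ : H → ℂ} (a : Ch G χ) (b : Irr H θ) (o : ⟪χ↾H, θ⟫ ≠ 0) :
    dg θ ≤ dg χ :=
  (a.res H).deg_le_of_inner_ne_zero b o b.deg a.deg

variable [Finite G]

theorem exists_over_le {θ : H → ℂ} (b : Irr H θ) : ∃ χ, Irr G χ ∧ dg θ ≤ dg χ := by
  haveI := Fintype.ofFinite G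
  haveI := Fintype.ofFinite H
  obtain ⟨χ, a, o⟩ := exists_irr_over H b
  exact ⟨χ, a, dg_le_over a.isCharacter b o⟩

theorem dg_le_ind [Fintype H] {θ : H → ℂ} (a : Irr G χ) (b : Irr H θ) (o : ⟪χ↾H, θ⟫ ≠ 0) :
    dg χ ≤ H.index * dg θ := by
  haveI := Fintype.ofFinite G
  rw [← dg_ind b.isCharacter]
  refine b.isCharacter.ind.deg_le_of_inner_ne_zero a ?_ a.deg b.isCharacter.ind.deg
  rwa [inner_indFun_left H θ a.isClassFunction, Ne, inner_eq_zero_comm]

theorem eq_ind_of_dg [Fintype G] [Fintype H] {θ : H → ℂ} (a : Irr G χ) (b : Irr H θ) (o : ⟪χ↾H, θ⟫ ≠ 0)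
    (e : dg χ = H.index * dg θ) : indFun H θ = χ := by
  refine b.isCharacter.ind.eq_of_inner_ne_zero a ?_ ?_
  · rwa [inner_indFun_left H θ a.isClassFunction, Ne, inner_eq_zero_comm]
  · rw [b.isCharacter.ind.deg, a.deg, dg_ind b.isCharacter, e]

theorem dg_le_index (a : Irr G χ) (c : ∀ x ∈ H, ∀ y ∈ H, x * y = y * x) : dg χ ≤ H.index := by
  haveI := Fintype.ofFinite G
  haveI := Fintype.ofFinite H
  obtain ⟨θ, b, o⟩ := exists_irr_under H a
  have := dg_le_ind a b o
  rwa [b.isCharacter.dg_eq_one.2 (b.deg_eq_one_of_comm fun x y => Subtype.ext (c _ x.2 _ y.2)),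
    mul_one] at this

theorem res_eq_of_le [Fintype H] {θ : H → ℂ} (a : Ch G χ) (b : Irr H θ) (o : ⟪χ↾H, θ⟫ ≠ 0)
    (l : dg χ ≤ dg θ) : χ↾H = θ :=
  (a.res H).eq_of_inner_ne_zero b o (by
    rw [b.deg, le_antisymm (dg_le_over a b o) l]; exact a.deg)

/-- Isaacs 12.17 -/
theorem core_of_max [Fintype H] {θ : H → ℂ} (b : Irr H θ)
    (h : ∀ χ, Irr G χ → ⟪χ↾H, θ⟫ ≠ 0 → dg χ ≤ dg θ) (x : H) (hx : θ x ≠ 0) : (x : G) ∈ H.normalCore := by
  haveI := Fintype.ofFinite G
  obtain ⟨χ, a, o⟩ := exists_irr_over H b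
  have r := res_eq_of_le a.isCharacter b o (h χ a o)
  have k : ∀ y : H, indFun H θ y = (∑ ψ : IrrCharacter G, ⟪indFun H θ, ψ.1⟫) * θ y := by
    intro y
    rw [(isClassFunction_indFun H θ).apply_eq_sum, Finset.sum_mul]
    refine Finset.sum_congr rfl fun ψ _ => ?_
    by_cases o' : ⟪indFun H θ, ψ.1⟫ = 0
    · rw [o', zero_mul, zero_mul]
    · have o2 : ⟪ψ.1↾H, θ⟫ ≠ 0 := by
        rwa [inner_indFun_left H θ ψ.2.isClassFunction, inner_eq_zero_comm] at o'
      rw [← congrFun (res_eq_of_le ψ.2.isCharacter b o2 (h _ ψ.2 o2)) y]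
  have k1 := k 1
  rw [OneMemClass.coe_one, indFun_one] at k1
  have k2 := k x
  rw [← mul_right_cancel₀ b.deg_ne_zero k1] at k2
  have k3 : indFun H θ x = indFun H (fun _ => 1) x * θ x := by
    rw [← r, indFun_res H a.isClassFunction, Pi.mul_apply]
  rw [k3, indFun_one_eq_fixedBy] at k2
  have k4 : Nat.card (MulAction.fixedBy (G ⧸ H) (x : G)) = H.index := by
    exact_mod_cast mul_right_cancel₀ hx k2
  rw [normalCore_eq_ker, MonoidHom.mem_ker]
  ext ω
  exact H3.Der.fix_all k4.ge ω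

/-- the restriction to a supplement of the kernel is irreducible -/
theorem irr_res_of_sup (a : Irr G χ) (s : charKer χ ⊔ H = ⊤) : Irr H χ↾H := by
  haveI := a.isClassFunction.charKer_normal
  obtain ⟨ψ, b, e⟩ := a.exists_quotient (charKer χ) fun g hg => a.isCharacter.mem_charKer.1 hg
  have : χ↾H = fun x : H => ψ (((QuotientGroup.mk' (charKer χ)).comp H.subtype) x) := funext fun x => e x
  rw [this]
  refine b.comp_surjective _ fun z => ?_
  obtain ⟨z, rfl⟩ := QuotientGroup.mk_surjective z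
  have hz : z ∈ H ⊔ charKer χ := by rw [sup_comm, s]; trivial
  obtain ⟨y, hy, k, hk, rfl⟩ := mem_sup_of_normal_right.1 hz
  exact ⟨⟨y, hy⟩, by simp [(QuotientGroup.eq_one_iff k).2 hk]⟩

/-- Broline–Garrison dichotomy -/
theorem bg_core (a : Irr G χ) (m : IsCoatom H) (n : ¬ charKer χ ≤ H) :
    (∃ ψ, Irr G ψ ∧ dg χ < dg ψ ∧ charKer ψ < charKer χ) ∨ ∀ x ∈ H, χ x ≠ 0 → x ∈ H.normalCore := by
  haveI := Fintype.ofFinite G
  haveI := Fintype.ofFinite H
  have s : ∀ L : Subgroup G, ¬ L ≤ H → L ⊔ H = ⊤ := fun L l =>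
    m.2 _ (lt_of_le_of_ne le_sup_right fun e => l (e ▸ le_sup_left))
  have b := irr_res_of_sup a (s _ n)
  by_cases h : ∀ ψ, Irr G ψ → ⟪ψ↾H, χ↾H⟫ ≠ 0 → dg ψ ≤ dg (χ↾H)
  · exact Or.inr fun x hx e => core_of_max b h ⟨x, hx⟩ e
  simp only [not_forall, not_le] at h
  obtain ⟨ψ, c, o, l⟩ := h
  refine Or.inl ⟨ψ, c, l, ?_⟩
  have l1 : charKer ψ ≤ H := by
    by_contra l1
    have := (irr_res_of_sup c (s _ l1)).eq_of_inner_ne_zero b o
    exact l.ne' (congrArg (dg : (H → ℂ) → ℕ) this)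
  refine lt_of_le_of_ne (fun x hx => ?_) fun e => n (e ▸ l1)
  exact a.isCharacter.mem_charKer.2 ((c.isCharacter.res H).eq_deg_of_inner_ne_zero b o (g := ⟨x, l1 hx⟩)
    (c.isCharacter.mem_charKer.1 hx))

theorem bg_a (a : Irr G χ) (h : ¬ charKer χ ≤ fittingSubgroup G) :
    ∃ ψ, Irr G ψ ∧ dg χ < dg ψ ∧ charKer ψ < charKer χ := by
  haveI := a.isClassFunction.charKer_normal
  have : ¬ ∀ p, p.Prime → ∀ P, IsSylowIn p P (charKer χ) → charKer χ ≤ nrm P := fun k =>
    h (haveI := nilp_of_sylow_normal k; H1.le_fitting)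
  simp only [not_forall] at this
  obtain ⟨p, hp, P, hP, n⟩ := this
  haveI := Fact.mk hp
  obtain ⟨H, m, l⟩ := (eq_top_or_exists_le_coatom (nrm P)).resolve_left fun e => n (e ▸ le_top)
  have f : ∀ L : Subgroup G, L.Normal → IsSylowIn p P L → ¬ L ≤ H := fun L _ s k => m.1 (by
    rw [eq_top_iff, ← syl_frattini s le_top le_normalizer_of_normal]
    exact sup_le (inf_le_right.trans l) k)
  refine (bg_core a m (f _ inferInstance hP)).resolve_right fun k => ?_
  refine f (charKer χ ⊓ H.normalCore) inferInstance (H2.IsSylowIn.mono hP (le_inf hP.1 fun x hx => ?_) inf_le_left)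
    (inf_le_right.trans H.normalCore_le)
  refine k x (l (le_normalizer hx)) ?_
  rw [a.isCharacter.mem_charKer.1 (hP.1 hx)]
  exact a.deg_ne_zero

theorem bg_b [s : Group.IsSolvable G] (a : Irr G χ) (h : fittingSubgroup G ≤ charKer χ) (t : charKer χ ≠ ⊤) :
    ∃ ψ, Irr G ψ ∧ dg χ < dg ψ ∧ charKer ψ < charKer χ := by
  classical
  haveI := a.isClassFunction.charKer_normal
  set K := charKer χ with hK
  obtain ⟨L, kl, -, nL, c, q, hq, e⟩ := H1B.exists_chief_above (H := ⊤) (A := ⊤) (N := K) inferInstance t.lt_top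
    le_normalizer_of_normal le_normalizer_of_normal le_normalizer_of_normal
  haveI := Fact.mk hq
  haveI : L.Normal := normalizer_eq_top_iff.1 (top_le_iff.1 nL)
  obtain ⟨Q, hQ⟩ := H2.exists_isSylowIn q L
  have i : PiN {q} (K.relIndex L) := by
    rw [← card_im_qm le_normalizer_of_normal]; exact piN_iff_isPGroup.2 e.isPGroup
  have s1 := syl_sup_normal hQ kl.le i
  obtain ⟨H, m, l⟩ := (eq_top_or_exists_le_coatom (nrm Q)).resolve_left fun e => by
    haveI : Q.Normal := normalizer_eq_top_iff.1 e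
    exact kl.not_ge (s1 ▸ sup_le le_rfl ((H1.le_pCore hQ.2).trans (H1.pCore_le_fitting.trans h)))
  have qH : Q ≤ H := le_normalizer.trans l
  have f : ∀ L : Subgroup G, L.Normal → IsSylowIn q Q L → ¬ L ≤ H := fun L _ s k => m.1 (by
    rw [eq_top_iff, ← syl_frattini s le_top le_normalizer_of_normal]
    exact sup_le (inf_le_right.trans l) k)
  refine (bg_core a m fun k => f L inferInstance hQ (s1 ▸ sup_le k qH)).resolve_right fun k => ?_
  set D := H.normalCore ⊓ L with hD
  rcases c (K ⊔ D) le_sup_left (sup_le kl.le inf_le_right) le_normalizer_of_normal with c | c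
  · haveI := Fintype.ofFinite L
    obtain ⟨y, hy, hy'⟩ := SetLike.exists_of_lt kl
    have z := a.sum_normal_mul_eq_zero L ⟨y, hy, fun e => hy' (a.isCharacter.mem_charKer.2 e)⟩ 1
    have v : ∀ n : L, χ (n * 1) = if (n : G) ∈ K then χ 1 else 0 := by
      intro n
      rw [mul_one]
      split_ifs with hn
      · exact a.isCharacter.mem_charKer.1 hn
      · obtain ⟨u, hu, w, hw, e⟩ := mem_sup_of_normal_left.1 (s1.ge n.2)
        rw [← e, mem_charKer.1 hu]
        by_contra h0
        exact hn (e ▸ mul_mem hu (c.le (mem_sup_right ⟨k w (qH hw) h0, hQ.1 hw⟩)))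
    rw [Finset.sum_congr rfl fun n _ => v n, ← Finset.sum_filter, Finset.sum_const, nsmul_eq_mul,
      mul_eq_zero, Nat.cast_eq_zero, Finset.card_eq_zero, Finset.filter_eq_empty_iff] at z
    exact z.elim (fun z => z (Finset.mem_univ 1) (one_mem K)) a.deg_ne_zero
  · have l1 : Q ⊓ K ≤ D ⊓ K := le_inf (le_inf (fun x hx => k x (qH hx.1) (by
      rw [a.isCharacter.mem_charKer.1 hx.2]; exact a.deg_ne_zero)) (inf_le_left.trans hQ.1)) inf_le_right
    have l2 : Q ≤ D := by
      refine H7.le_of_coprime_relIndex le_normalizer_of_normal hQ.1 inf_le_right ?_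
      obtain ⟨j, hj⟩ := IsPGroup.iff_card.1 hQ.2
      rw [hj, ← c, relIndex_sup_right, ← inf_relIndex_right]
      refine Nat.Coprime.pow_left j (hq.coprime_iff_not_dvd.2 fun d => ?_)
      exact (syl_inf hQ kl.le le_normalizer_of_normal).3
        (d.trans (relIndex_dvd_of_le_left K l1))
    exact f D inferInstance (H2.IsSylowIn.mono hQ l2 inf_le_right) (inf_le_left.trans H.normalCore_le)

omit [Finite G] in
theorem orb_bound {P X : Type*} [Group P] [MulAction P X] [Finite X] {p : ℕ} [hp : Fact p.Prime]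
    (hP : IsPGroup p P) (a : X) (h : ∀ x ∈ MulAction.fixedPoints P X, x = a) :
    p * Nat.card (MulAction.orbitRel.Quotient P X) ≤ Nat.card X + (p - 1) := by
  classical
  haveI := Fintype.ofFinite (MulAction.orbitRel.Quotient P X)
  rw [Nat.card_congr (MulAction.selfEquivSigmaOrbits P X), Nat.card_sigma, Nat.card_eq_fintype_card,
    ← Finset.card_univ, mul_comm, ← smul_eq_mul, ← Finset.sum_const]
  have e : p - 1 = ∑ ω : MulAction.orbitRel.Quotient P X, if ω = Quotient.mk'' a then p - 1 else 0 := by simp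
  rw [e, ← Finset.sum_add_distrib]
  refine Finset.sum_le_sum fun ω _ => ?_
  obtain ⟨k, hk⟩ := hP.card_orbit ω.out
  haveI := Fintype.ofFinite (MulAction.orbit P ω.out)
  rcases k with _ | k
  · have h1 : ω.out = a := h _ (MulAction.mem_fixedPoints_iff_card_orbit_eq_one.2 (by
      rw [← Nat.card_eq_fintype_card, hk, pow_zero]))
    rw [hk, pow_zero, if_pos (by rw [← h1]; exact (Quotient.out_eq' ω).symm)]
    have := hp.out.pos
    omega
  · rw [hk]
    exact (Nat.le_self_pow k.succ_ne_zero p).trans (Nat.le_add_right _ _)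

/-- Isaacs 12.29 -/
theorem syl_normal_of_lt {p : ℕ} [hp : Fact p.Prime] (h : ∀ χ, Irr G χ → dg χ < p) (P : Sylow p G) :
    (P : Subgroup G).Normal := by
  classical
  haveI := Fintype.ofFinite G
  haveI := Fintype.ofFinite (P : Subgroup G)
  set N := MulAction.stabilizer G P with hN
  haveI := Fintype.ofFinite N
  have l : (P : Subgroup G) ≤ N := by rw [hN, Sylow.stabilizer_eq_normalizer]; exact le_normalizer
  have e := card_fixedBy_eq_indFun (G := G) (Sylow p G) P
  rw [← hN] at e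
  have c : Ch G (indFun N fun _ => 1) := isCharacter_one.ind
  have i1 : ⟪indFun N fun _ => 1, fun _ => 1⟫ = 1 := by
    rw [inner_indFun_left N _ (isClassFunction_const 1), inner_one_one]
  have c' := c.sub_of_inner_ne_zero isIrrCharacter_one (by rw [i1]; exact one_ne_zero)
  obtain ⟨m, hm, hs⟩ := c'.exists_coeff
  have ha : ∀ χ : IrrCharacter G, ∃ a : ℕ, ⟪χ.1↾(P : Subgroup G), fun _ => 1⟫ = a ∧ (m χ ≠ 0 → 1 ≤ a) := by
    intro χ
    obtain ⟨a, ea⟩ := (χ.2.isCharacter.res P).inner_nat isCharacter_one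
    refine ⟨a, ea, fun h0 => ?_⟩
    obtain ⟨b, eb⟩ := (isCharacter_one (G := G)).inner_nat χ.2.isCharacter
    have h1 : ⟪χ.1↾N, fun _ => 1⟫ ≠ 0 := by
      have := hm χ
      rw [H3.inner_sub_left, eb, sub_eq_iff_eq_add, inner_indFun_left N _ χ.2.isClassFunction] at this
      rw [Ne, inner_eq_zero_comm, this, ← Nat.cast_add, Nat.cast_eq_zero]
      omega
    obtain ⟨d, ed⟩ := nat_le_inner_of_constituent (inclusion l) (χ.2.isCharacter.res N) isIrrCharacter_one h1
      isCharacter_one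
    rw [inner_one_one] at ed
    have : (a : ℂ) = 1 + d := ea.symm.trans ed
    have : a = 1 + d := by exact_mod_cast this
    omega
  choose a ha1 ha2 using ha
  have d1 : Nat.card (Sylow p G) = 1 + ∑ χ : IrrCharacter G, m χ * dg χ.1 := by
    have := congrFun hs 1
    rw [Pi.sub_apply, ← congrFun e 1, H3.Der.fix_one, Finset.sum_apply, sub_eq_iff_eq_add'] at this
    simp only [Pi.smul_apply, smul_eq_mul, fun χ : IrrCharacter G => χ.2.deg] at this
    exact_mod_cast this
  have d2 : Nat.card (MulAction.orbitRel.Quotient (P : Subgroup G) (Sylow p G)) =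
      1 + ∑ χ : IrrCharacter G, m χ * a χ := by
    have h1 : ⟪(indFun N fun _ => 1)↾(P : Subgroup G), fun _ => 1⟫ =
        Nat.card (MulAction.orbitRel.Quotient (P : Subgroup G) (Sylow p G)) := by
      rw [inner_one_right, ← e, inv_mul_eq_iff_eq_mul₀ (card_ne_zero _), mul_comm]
      have := congrArg (Nat.cast : ℕ → ℂ) (H3.Der.burn (P : Subgroup G) (Sylow p G))
      rw [Nat.cast_sum, Nat.cast_mul] at this
      exact this
    have h2 : (indFun N fun _ => 1)↾(P : Subgroup G) =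
        (fun _ => 1) + ∑ χ : IrrCharacter G, (m χ : ℂ) • χ.1↾(P : Subgroup G) := by
      ext x
      have := congrFun hs x
      rw [Pi.sub_apply, sub_eq_iff_eq_add'] at this
      rw [this, Pi.add_apply, Finset.sum_apply, Finset.sum_apply]; rfl
    rw [h2, H3.inner_add_left, inner_one_one, inner_sum_left] at h1
    simp only [H3.inner_smul_left, ha1] at h1
    exact_mod_cast h1.symm
  have d3 := orb_bound (P.isPGroup') P fun Q hQ =>
    (Sylow.ext (P.is_maximal' Q.isPGroup' (P.isPGroup'.sylow_mem_fixedPoints_iff.1 hQ)))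
  have d4 : ∑ χ : IrrCharacter G, m χ * dg χ.1 ≤ (p - 1) * ∑ χ : IrrCharacter G, m χ := by
    rw [Finset.mul_sum]
    exact Finset.sum_le_sum fun χ _ => by
      rw [mul_comm]; exact Nat.mul_le_mul_right _ (Nat.le_sub_one_of_lt (h _ χ.2))
  have d5 : ∑ χ : IrrCharacter G, m χ ≤ ∑ χ : IrrCharacter G, m χ * a χ :=
    Finset.sum_le_sum fun χ _ => by
      by_cases h0 : m χ = 0
      · rw [h0, zero_mul]
      · exact Nat.le_mul_of_pos_right _ (ha2 χ h0)
  have d6 : Nat.card (Sylow p G) = 1 := by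
    rw [d1, d2] at d3
    rw [d1]
    obtain ⟨q, rfl⟩ : ∃ q, p = q + 1 := ⟨p - 1, (Nat.sub_add_cancel hp.out.pos).symm⟩
    rw [Nat.add_sub_cancel] at d3 d4
    generalize ∑ χ : IrrCharacter G, m χ * dg χ.1 = A at *
    generalize ∑ χ : IrrCharacter G, m χ * a χ = B at *
    generalize ∑ χ : IrrCharacter G, m χ = C at *
    have : C = 0 := by nlinarith
    subst this
    omega
  haveI : Subsingleton (Sylow p G) := (Nat.card_eq_one_iff_unique.1 d6).1
  exact Sylow.normal_of_subsingleton P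

theorem comm_of_pgroup_lt {p : ℕ} [hp : Fact p.Prime] (h : ∀ χ, Irr G χ → dg χ < p) (hH : IsPGroup p H) :
    ∀ x ∈ H, ∀ y ∈ H, x * y = y * x := fun x hx y hy =>
  congrArg Subtype.val (comm_of_forall_deg (G := H) (fun θ b => by
    obtain ⟨χ, a, l⟩ := exists_over_le b
    obtain ⟨k, hk⟩ := IsPGroup.iff_card.1 hH
    obtain ⟨_ | j, -, e⟩ := (Nat.dvd_prime_pow hp.out).1 (hk ▸ b.dg_dvd)
    · exact b.isCharacter.dg_eq_one.1 e
    · exact absurd ((Nat.le_self_pow j.succ_ne_zero p).trans (e ▸ l)) (h χ a).not_ge) ⟨x, hx⟩ ⟨y, hy⟩)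

/-- the set of character degrees -/
def cds (G : Type*) [Group G] : Set ℕ := {d | ∃ χ : IrrCharacter G, dg (χ : G → ℂ) = d}

theorem cds_finite : (cds G).Finite := (Set.finite_range fun χ : IrrCharacter G => dg (χ : G → ℂ))

omit [Finite G] in
theorem one_mem_cds : 1 ∈ cds G := ⟨⟨_, isIrrCharacter_one⟩, dg_eq (by simp)⟩

omit [Finite G] in
theorem cds_quot (N : Subgroup G) [N.Normal] : cds (G ⧸ N) ⊆ cds G :=
  fun _ ⟨χ, e⟩ => ⟨⟨_, χ.2.inflate⟩, e⟩

/-- nilpotent section -/
def NQ (A B : Subgroup G) : Prop := ∀ _ : (A.subgroupOf B).Normal, Group.IsNilpotent (B ⧸ A.subgroupOf B)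

omit [Finite G] in
theorem NQ.comap {G' : Type*} [Group G'] {A B : Subgroup G'} [A.Normal] (h : NQ A B) {f : G →* G'}
    (hf : Function.Surjective f) : NQ (A.comap f) (B.comap f) := fun _ => by
  haveI := h inferInstance
  let g : B.comap f →* B ⧸ A.subgroupOf B := (QuotientGroup.mk' _).comp (f.subgroupComap B)
  have k : g.ker = (A.comap f).subgroupOf (B.comap f) := by
    ext x; simp only [g, MonoidHom.mem_ker, MonoidHom.comp_apply, QuotientGroup.mk'_apply, QuotientGroup.eq_one_iff]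
    rfl
  have e := (QuotientGroup.quotientMulEquivOfEq k).symm.trans (QuotientGroup.quotientKerEquivRange g)
  exact nilpotent_of_mulEquiv e.symm

theorem garrison (n : ℕ) : ∀ (G : Type*) [Group G] [Finite G] [Group.IsSolvable G],
    (Subsingleton G ∨ (cds G).ncard ≤ n) → ∃ N : Fin (n + 1) → Subgroup G, N 0 = ⊥ ∧ N (Fin.last n) = ⊤ ∧
      Monotone N ∧ (∀ i, (N i).Normal) ∧ ∀ i : Fin n, NQ (N i.castSucc) (N i.succ) := by
  induction n with
  | zero =>
    intro G _ _ _ h
    haveI : Subsingleton G := h.resolve_right fun h =>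
      absurd ((Set.ncard_pos (cds_finite (G := G))).2 ⟨1, one_mem_cds⟩) (by omega)
    exact ⟨fun _ => ⊥, rfl, Subsingleton.elim _ _, monotone_const, fun _ => inferInstance, fun i => i.elim0⟩
  | succ n ih =>
    intro G _ _ _ h
    set F := fittingSubgroup G with hF
    obtain ⟨N, n0, n1, n2, n3, n4⟩ := ih (G ⧸ F) (by
      by_cases t : F = ⊤
      · exact Or.inl (QuotientGroup.subsingleton_iff.2 t)
      refine h.imp (fun h => absurd (@Subsingleton.elim _ ((Subgroup.subsingleton_iff (G := G)).2 h) _ _) t) fun h => ?_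
      obtain ⟨b, hb, m⟩ := Set.exists_max_image (cds G) id cds_finite ⟨1, one_mem_cds⟩
      have : cds (G ⧸ F) ⊆ cds G \ {b} := by
        rintro _ ⟨χ, rfl⟩
        refine ⟨cds_quot F ⟨χ, rfl⟩, fun e => ?_⟩
        have a := χ.2.inflate
        have l : F ≤ charKer fun g : G => χ.1 g := fun x hx =>
          a.isCharacter.mem_charKer.2 (by rw [(QuotientGroup.eq_one_iff x).2 hx]; rfl)
        by_cases k : (charKer fun g : G => χ.1 g) = ⊤
        · have b1 : b = 1 := by
            rw [← Set.mem_singleton_iff.1 e]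
            exact a.isCharacter.dg_eq_one.2 (congrFun (a.eq_one_of_const fun g =>
              a.isCharacter.mem_charKer.1 (k ▸ mem_top g)) 1)
          haveI : IsMulCommutative (⊤ : Subgroup G) := ⟨⟨fun x y => Subtype.ext (comm_of_forall_deg (fun ψ c =>
            c.isCharacter.dg_eq_one.1 (le_antisymm (b1 ▸ m _ ⟨⟨ψ, c⟩, rfl⟩) c.dg_pos)) _ _)⟩⟩
          haveI := H1.isNilpotent_of_isMulCommutative (⊤ : Subgroup G)
          exact t (top_le_iff.1 H1.le_fitting)
        · obtain ⟨ψ, c, lt, -⟩ := bg_b a l k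
          exact (m _ ⟨⟨ψ, c⟩, rfl⟩).not_gt (Set.mem_singleton_iff.1 e ▸ lt)
      have := Set.ncard_le_ncard this (cds_finite.subset Set.diff_subset)
      rw [Set.ncard_diff_singleton_of_mem hb] at this
      omega)
    refine ⟨Fin.cons ⊥ fun i => (N i).comap (QuotientGroup.mk' F), rfl, ?_, ?_, fun i => ?_, fun i => ?_⟩
    · rw [← Fin.succ_last, Fin.cons_succ, n1, comap_top]
    · refine Fin.monotone_iff_le_succ.2 fun i => ?_
      refine Fin.cases ?_ (fun j => ?_) i
      · exact bot_le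
      · rw [← Fin.succ_castSucc, Fin.cons_succ, Fin.cons_succ]
        exact comap_mono (n2 Fin.castSucc_lt_succ.le)
    · refine Fin.cases ?_ (fun j => ?_) i
      · exact Subgroup.normal_bot
      · exact (n3 j).comap _
    · refine Fin.cases ?_ (fun j => ?_) i
      · rw [Fin.cons_succ, n0, MonoidHom.comap_bot, QuotientGroup.ker_mk']
        exact fun _ => inferInstance
      · rw [← Fin.succ_castSucc, Fin.cons_succ, Fin.cons_succ]
        haveI := n3 j.castSucc
        exact (n4 j).comap (QuotientGroup.mk'_surjective F)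

end H2
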