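import Cfsg.Agent.H2.Cd1

/-! Character degrees (Isaacs, chapter 12): 12.3, 12.4. -/

set_option autoImplicit false
set_option maxSynthPendingDepth 3

open Cfsg H7 H3 Subgroup
open scoped ComplexConjugate commutatorElement

namespace H2

variable {G Γ : Type*} [Group G] [Group Γ] {H K N : Subgroup G} {χ ψ : G → ℂ} {r : ℕ}

theorem map_der {f : G →* Γ} (hf : Function.Surjective f) : (commutator G).map f = commutator Γ := by
  rw [commutator_def, commutator_def, map_commutator, map_top_of_surjective f hf]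

theorem der_eq_bot_iff : commutator G = ⊥ ↔ ∀ a b : G, a * b = b * a := by
  rw [commutator_def, eq_bot_iff, commutator_le]
  simp only [mem_top, forall_true_left, mem_bot, commutatorElement_eq_one_iff_mul_comm]

/-- non-abelian with all proper quotients abelian -/
structure MinNA (Γ : Type*) [Group Γ] : Prop where
  ne : commutator Γ ≠ ⊥
  le : ∀ M : Subgroup Γ, M.Normal → M ≠ ⊥ → commutator Γ ≤ M

/-- Frobenius group with abelian kernel `N` -/
structure FrQ (r : ℕ) (N : Subgroup G) : Prop where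
  nr : N.Normal
  ne : N ≠ ⊥
  comm : ∀ a ∈ N, ∀ b ∈ N, a * b = b * a
  pg : IsPGroup r N
  cn : ∀ n ∈ N, n ≠ 1 → centralizer ({n} : Set G) ≤ N

variable [Finite G] [Finite Γ]

theorem exists_minNA (K₀ : Subgroup G) [n : K₀.Normal] (h : ¬ commutator G ≤ K₀) :
    ∃ (K : Subgroup G) (_ : K.Normal), K₀ ≤ K ∧ MinNA (G ⧸ K) := by
  obtain ⟨K, l, ⟨a, b⟩, m⟩ := Finite.exists_le_maximal
    (p := fun K : Subgroup G => K.Normal ∧ ¬ commutator G ≤ K) ⟨n, h⟩
  have s := QuotientGroup.mk'_surjective K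
  refine ⟨K, a, l, fun e => b ?_, fun M _ hM => ?_⟩
  · rwa [← map_der s, Subgroup.map_eq_bot_iff, QuotientGroup.ker_mk'] at e
  · rw [← map_der s, map_le_iff_le_comap]
    by_contra c
    have l1 : K ≤ M.comap (QuotientGroup.mk' K) := (QuotientGroup.ker_mk' K).ge.trans (ker_le_comap _ M)
    have l2 := m ⟨inferInstance, c⟩ l1
    apply hM
    rw [← map_comap_eq_self_of_surjective s M, Subgroup.map_eq_bot_iff, QuotientGroup.ker_mk']
    exact l2

theorem MinNA.pgroup (h : MinNA G) (N : Subgroup G) [N.Normal] (n : Group.IsNilpotent N) :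
    ∃ p, p.Prime ∧ IsPGroup p N := by
  obtain ⟨p, hp, d⟩ := Nat.exists_prime_and_dvd (fun e => h.ne (card_eq_one.1 e))
  haveI := Fact.mk hp
  refine ⟨p, hp, H1B.pgroup_of_forall fun q hq e => ?_⟩
  haveI := Fact.mk hq
  obtain ⟨Q, hQ⟩ := H2.exists_isSylowIn q N
  have e1 := nilp_le_Op n hQ.1 hQ.2
  haveI : (Op q N).Normal := normalizer_eq_top_iff.1 (top_le_iff.1
    (nrm_Opi {q} le_normalizer_of_normal))
  have l := h.le (Op q N) inferInstance fun e2 => syl_ne_bot hQ e (eq_bot_iff.2 (e2 ▸ e1))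
  obtain ⟨k, hk⟩ := IsPGroup.iff_card.1 ((isPGroup_Op q N).to_le l)
  exact ((Nat.prime_dvd_prime_iff_eq hp hq).1 (hp.dvd_of_dvd_pow (hk ▸ d))).symm

/-- Isaacs 12.3, group-theoretic part -/
theorem MinNA.cases [s : Group.IsSolvable G] (h : MinNA G) :
    (commutator G ≤ center G ∧ ∃ p, p.Prime ∧ IsPGroup p G) ∨ ∃ r, r.Prime ∧ FrQ r (commutator G) := by
  by_cases z : center G = ⊥
  swap
  · have l := h.le _ inferInstance z
    haveI : Group.IsNilpotent G := ⟨⟨2, by
      rw [eq_top_iff]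
      intro x _
      rw [Subgroup.mem_upperCentralSeries_succ_iff]
      intro y
      rw [Subgroup.upperCentralSeries_one]
      exact l (commutator_mem_commutator (mem_top x) (mem_top y))⟩⟩
    obtain ⟨p, hp, t⟩ := h.pgroup ⊤ inferInstance
    exact Or.inl ⟨l, p, hp, t.of_equiv topEquiv⟩
  right
  set N := commutator G with hN
  have c : ⁅N, N⁆ = ⊥ := by
    by_contra c
    exact h.ne (eq_bot_of_solv_of_perfect inferInstance (le_antisymm (der_le _) (h.le _ inferInstance c)))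
  have cN := isComm_iff'.1 (isComm_of_der c)
  haveI := isComm_of_der c
  obtain ⟨r, hr, t⟩ := h.pgroup N (H1.isNilpotent_of_isMulCommutative N)
  have m : ∀ a b : G, ⁅a, b⁆ ∈ N := fun a b => commutator_mem_commutator (mem_top a) (mem_top b)
  have k : ∀ x, N ⊓ cen1 x = ⊥ ∨ N ≤ cen1 x := fun x => by
    refine (em _).imp_right fun e => (h.le (N ⊓ cen1 x) ⟨fun n hn g =>
      mem_inf.2 ⟨Normal.conj_mem inferInstance n hn.1 g, ?_⟩⟩ e).trans inf_le_right
    have e1 := cN _ hn.1 _ (m g⁻¹ x)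
    have e2 := mem_cen1.1 hn.2
    rw [commutatorElement_def, inv_inv] at e1
    rw [mem_cen1]
    calc _ = g * (n * (g⁻¹ * x * g * x⁻¹)) * x * g⁻¹ := by group
      _ = g * (g⁻¹ * x * g * x⁻¹) * (n * x) * g⁻¹ := by rw [e1]; group
      _ = _ := by rw [e2]; group
  obtain ⟨x, hx⟩ : ∃ x, N ⊓ cen1 x = ⊥ := by
    by_contra e
    refine h.ne (eq_bot_iff.2 (z ▸ fun n hn => mem_center_iff.2 fun g => ?_))
    exact (mem_cen1.1 ((k g).resolve_left (fun e' => e ⟨g, e'⟩) hn)).symm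
  have dec : ∀ g : G, ∃ n ∈ N, n⁻¹ * g ∈ cen1 x := fun g => by
    let f : N → N := fun n => ⟨⁅(n : G), x⁆, m _ _⟩
    have i : Function.Injective f := fun a b e => by
      have e1 : ⁅(a : G), x⁆ = ⁅(b : G), x⁆ := congrArg Subtype.val e
      have : (b : G)⁻¹ * a ∈ N ⊓ cen1 x := mem_inf.2 ⟨mul_mem (inv_mem b.2) a.2, mem_cen1.2 (by
        rw [commutatorElement_def, commutatorElement_def] at e1
        calc _ = (b : G)⁻¹ * (a * x * (a : G)⁻¹ * x⁻¹) * x * a := by group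
          _ = _ := by rw [e1]; group)⟩
      rw [hx, mem_bot, inv_mul_eq_one] at this
      exact Subtype.ext this.symm
    obtain ⟨n, e⟩ := Finite.surjective_of_injective i ⟨⁅g, x⁆, m _ _⟩
    have e1 : ⁅(n : G), x⁆ = ⁅g, x⁆ := congrArg Subtype.val e
    refine ⟨n, n.2, mem_cen1.2 ?_⟩
    rw [commutatorElement_def, commutatorElement_def] at e1
    calc _ = (n : G)⁻¹ * (g * x * g⁻¹ * x⁻¹) * x * g := by group
      _ = _ := by rw [← e1]; group
  refine ⟨r, hr, inferInstance, h.ne, cN, t, fun n hn n1 y hy => ?_⟩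
  have l := (k y).resolve_left fun e => n1 (by
    have : n ∈ N ⊓ cen1 y := ⟨hn, mem_cen1_comm.1 hy⟩
    rwa [e, mem_bot] at this)
  obtain ⟨a, ha, e⟩ := dec y
  have : a⁻¹ * y ∈ center G := mem_center_iff.2 fun g => by
    obtain ⟨b, hb, e'⟩ := dec g
    have c1 : ⁅b⁻¹ * g, a⁻¹ * y⁆ ∈ N ⊓ cen1 x := mem_inf.2 ⟨m _ _, der_le _ (commutator_mem_commutator e' e)⟩
    rw [hx, mem_bot, commutatorElement_eq_one_iff_mul_comm] at c1
    have c2 : b * (a⁻¹ * y) = a⁻¹ * y * b := by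
      rw [← mul_assoc, cN _ hb _ (inv_mem ha), mul_assoc, mem_cen1.1 (l hb), mul_assoc]
    calc _ = b * (b⁻¹ * g * (a⁻¹ * y)) := by group
      _ = _ := by rw [c1, ← mul_assoc, c2]; group
  rw [z, mem_bot, inv_mul_eq_one] at this
  exact this ▸ ha

omit [Finite G] in
theorem FrQ.dvd [Fact r.Prime] [Finite N] (h : FrQ r N) : r ∣ ord N := by
  obtain ⟨_ | k, hk⟩ := IsPGroup.iff_card.1 h.pg
  · exact absurd (card_eq_one.1 hk) h.ne
  · exact hk ▸ dvd_pow_self r k.succ_ne_zero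

theorem FrQ.index_dvd (h : FrQ r N) : N.index ∣ ord N - 1 := by
  rw [← relIndex_top_right]
  exact relIndex_dvd_card_sub_one (fun x _ a ha => h.nr.conj_mem a ha x) fun k hk k1 =>
    inf_le_right.trans (h.cn k hk k1)

theorem FrQ.index_lt (h : FrQ r N) : N.index < ord N := by
  have := (one_lt_card_iff_ne_bot N).2 h.ne
  have := Nat.le_of_dvd (by omega) h.index_dvd
  omega

theorem FrQ.not_dvd [hr : Fact r.Prime] (h : FrQ r N) : ¬ r ∣ N.index := fun d => by
  have := (Nat.dvd_sub_iff_right Nat.card_pos h.dvd).1 (d.trans h.index_dvd)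
  exact hr.out.one_lt.ne' (Nat.dvd_one.1 this)

theorem exists_plift {p : ℕ} [Fact p.Prime] {f : G →* Γ} (hf : Function.Surjective f) (h : IsPGroup p Γ) (y : Γ) :
    ∃ x : G, f x = y ∧ ∃ k, x ^ p ^ k = 1 := by
  let P : Sylow p G := default
  have := (P.mapSurjective hf).is_maximal' (Q := ⊤) (h.to_subgroup ⊤) le_top
  obtain ⟨x, hx, e⟩ : y ∈ (P : Subgroup G).map f := by
    rw [← Sylow.coe_mapSurjective hf, ← this]; trivial
  obtain ⟨k, hk⟩ := P.isPGroup' ⟨x, hx⟩
  exact ⟨x, e, k, congrArg Subtype.val hk⟩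

/-- key step of Isaacs 12.4 -/
theorem FrQ.inv {M : Subgroup Γ} (h : FrQ r M) {f : G →* Γ} [(M.comap f).Normal]
    {θ : M.comap f → ℂ} {l l' : M →* ℂˣ} {x : G}
    (a : x ∈ inertia (θ * lf (l.comp (f.subgroupComap M)))) (b : x ∈ inertia (θ * lf (l'.comp (f.subgroupComap M))))
    (n : M.comap f) (h0 : θ n ≠ 0) :
    (l / l') ⟨f x * f n * (f x)⁻¹, h.nr.conj_mem _ n.2 _⟩ = (l / l') ⟨f n, n.2⟩ := by
  have a1 := mem_inertia'.1 a n
  have b1 := mem_inertia'.1 b n
  simp only [Pi.mul_apply, lf_apply, MonoidHom.comp_apply] at a1 b1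
  have e : f.subgroupComap M ⟨x * n * x⁻¹, Normal.conj_mem inferInstance _ n.2 x⟩ =
      ⟨f x * f n * (f x)⁻¹, h.nr.conj_mem _ n.2 _⟩ := Subtype.ext (by
    show f (x * n * x⁻¹) = _
    rw [map_mul, map_mul, map_inv])
  rw [e] at a1 b1
  have h1 : θ ⟨x * n * x⁻¹, Normal.conj_mem inferInstance _ n.2 x⟩ ≠ 0 := fun e0 => by
    rw [e0, zero_mul] at a1
    exact mul_ne_zero h0 (Units.ne_zero _) a1.symm
  rw [MonoidHom.div_apply, MonoidHom.div_apply, div_eq_div_iff_mul_eq_mul]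
  ext
  rw [Units.val_mul, Units.val_mul]
  refine mul_left_cancel₀ (mul_ne_zero h0 h1) ?_
  have e2 : f.subgroupComap M n = ⟨f n, n.2⟩ := rfl
  rw [e2] at a1 b1
  linear_combination (θ n * (l' ⟨f n, n.2⟩ : ℂ)) * a1 - (θ n * (l ⟨f n, n.2⟩ : ℂ)) * b1

/-- Isaacs 12.4, weak form -/
theorem FrQ.weak [Fact r.Prime] {M : Subgroup Γ} (h : FrQ r M) {f : G →* Γ} (hf : Function.Surjective f)
    {θ : M.comap f → ℂ} (a : Irr _ θ) : M.index * dg θ ∈ cds G ∨ r ∣ dg θ := by
  haveI := h.nr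
  haveI := Fintype.ofFinite G
  by_cases c : ∃ l : M →* ℂˣ, inertia (θ * lf (l.comp (f.subgroupComap M))) ≤ M.comap f
  · obtain ⟨l, c⟩ := c
    refine Or.inl ⟨⟨_, isIrr_indFun_of_inertia_le (a.mul_lf _) c⟩, ?_⟩
    rw [dg_ind (a.mul_lf _).isCharacter, index_comap_of_surjective _ hf, dg_mul a.isCharacter (lf_ch _), dg_lf,
      mul_one]
  right
  simp only [not_exists, SetLike.not_le_iff_exists] at c
  choose x hx hx' using c
  obtain ⟨l, l', ne, e⟩ : ∃ l l', l ≠ l' ∧ (f (x l) : Γ ⧸ M) = f (x l') := by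
    haveI := Fintype.ofFinite (M →* ℂˣ)
    haveI := Fintype.ofFinite (Γ ⧸ M)
    refine Fintype.exists_ne_map_eq_of_card_lt _ ?_
    rw [← Nat.card_eq_fintype_card, ← Nat.card_eq_fintype_card, card_lin,
      der_eq_bot_iff.2 fun a b => Subtype.ext (h.comm _ a.2 _ b.2), index_bot]
    exact h.index_lt
  have m : x l ∈ inertia (θ * lf (l'.comp (f.subgroupComap M))) := by
    have : (x l)⁻¹ * x l' ∈ M.comap f := by
      rw [mem_comap, map_mul, map_inv]; exact QuotientGroup.eq.1 e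
    have := mul_mem (hx l') (inv_mem (le_inertia (a.mul_lf _).isClassFunction this))
    rwa [mul_inv_rev, inv_inv, mul_inv_cancel_left] at this
  have n : f (x l) ∉ inertia (lf (l / l')) := fun k => hx' l (inertia_le_of_centralizer_le h.cn (lf_irr _)
    (fun e => ne (div_eq_one.1 (lf_injective (e.trans (by ext; simp))))) k)
  rw [mem_inertia', not_forall] at n
  obtain ⟨y, hy⟩ := n
  obtain ⟨y, rfl, k, hk⟩ := exists_plift (comapHom_surj hf M) h.pg y
  refine a.isCharacter.dvd_deg_of_eq_zero Fact.out hk (by_contra fun h0 => hy ?_) a.deg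
  exact congrArg Units.val (h.inv (hx l) m y h0)

end H2
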