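import Cfsg.Agent.H2.Cd2

/-! Character degrees (Isaacs, chapter 12): 12.5, 12.6. -/

set_option autoImplicit false
set_option maxSynthPendingDepth 3

open Cfsg H7 H3 Subgroup
open scoped ComplexConjugate commutatorElement

namespace H2

variable {G Γ : Type*} [Group G] [Group Γ] {H K N : Subgroup G} {χ ψ : G → ℂ} {r m : ℕ}

theorem mem_cds (a : Irr G χ) : dg χ ∈ cds G := ⟨⟨χ, a⟩, rfl⟩

theorem cds_surj {f : G →* Γ} (hf : Function.Surjective f) : cds Γ ⊆ cds G :=
  fun _ ⟨χ, e⟩ => ⟨⟨_, χ.2.comp_surjective f hf⟩, by rw [← e]; exact dg_congr (congrArg χ.1 (map_one f))⟩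

variable [Finite G] [Finite Γ]

theorem der_le_of_lin (N : Subgroup G) [N.Normal] (h : ∀ χ, Irr G χ → (∀ n ∈ N, χ n = χ 1) → dg χ = 1) :
    commutator G ≤ N := fun g hg => by
  by_contra c
  obtain ⟨χ, a, b, d⟩ := exists_irr_ker_not_mem N c
  exact d (a.isCharacter.commutator_of_deg_one (a.isCharacter.dg_eq_one.1 (h χ a b)) hg)

theorem exists_nonlin (h : commutator G ≠ ⊥) : ∃ χ, Irr G χ ∧ dg χ ≠ 1 := by
  by_contra c
  exact h (eq_bot_iff.2 (der_le_of_lin ⊥ fun χ a _ => by_contra fun e => c ⟨χ, a, e⟩))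

theorem comm_of_dg (h : ∀ θ, Irr N θ → dg θ = 1) : ∀ a ∈ N, ∀ b ∈ N, a * b = b * a := fun a x b y =>
  congrArg Subtype.val (comm_of_forall_deg (G := N) (fun θ e => e.isCharacter.dg_eq_one.1 (h θ e)) ⟨a, x⟩ ⟨b, y⟩)

theorem comm_of_cop [N.Normal] (h : ∀ d ∈ cds G, d ∣ m) (c : (ord N).Coprime m) :
    ∀ a ∈ N, ∀ b ∈ N, a * b = b * a := comm_of_dg fun θ e => by
  obtain ⟨χ, f, g⟩ := exists_over_dvd e
  exact (c.coprime_dvd_left e.dg_dvd).eq_one_of_dvd (g.trans (h _ (mem_cds f)))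

theorem two_dvd (h : ∀ d ∈ cds G, d = 1 ∨ d = m) : ∀ d ∈ cds G, d ∣ m := fun d hd =>
  (h d hd).elim (fun e => e ▸ one_dvd m) fun e => e ▸ dvd_rfl

theorem two_npc (h : ∀ d ∈ cds G, d = 1 ∨ d = m) {q : ℕ} (hq : q.Prime) (d : q ∣ m) : ¬ q ∣ ord (pResidual q G) :=
  H3.thompson_npc hq fun _ a e => (h _ (mem_cds a)).resolve_left e ▸ d

theorem exists_perf_res (H : Subgroup G) :
    ∃ R ≤ H, nrm H ≤ nrm R ∧ ⁅R, R⁆ = R ∧ (Group.IsSolvable R → Group.IsSolvable H) := by
  obtain ⟨R, ⟨h1, h2, h3⟩, hm⟩ := (wellFounded_lt (α := Subgroup G)).has_min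
    {R | R ≤ H ∧ nrm H ≤ nrm R ∧ (Group.IsSolvable R → Group.IsSolvable H)} ⟨H, le_rfl, le_rfl, id⟩
  refine ⟨R, h1, h2, ?_, h3⟩
  have l : ⁅R, R⁆ ≤ R := comm_le_of_le le_rfl le_rfl
  by_contra hne
  exact hm ⁅R, R⁆ ⟨l.trans h1, nrm_commutator h2 h2, fun h => h3 (solv_of_comm_solv h)⟩ (lt_of_le_of_ne l hne)

theorem two_solv (h : ∀ d ∈ cds G, d = 1 ∨ d = m) : Group.IsSolvable G := by
  obtain ⟨R, -, n, p, s⟩ := exists_perf_res (⊤ : Subgroup G)
  haveI : R.Normal := normalizer_eq_top_iff.1 (top_le_iff.1 (le_normalizer.trans n))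
  refine H1B.solv_top.1 (s (solv_of_comm (isComm_iff'.2 (comm_of_cop (two_dvd h)
    (Nat.coprime_of_dvd fun q hq d e => ?_)))))
  haveI := Fact.mk hq
  exact two_npc h hq e (d.trans (card_dvd_of_le ((pRes_of_perfect p).ge.trans (pRes_le_pResidual R))))

theorem two_frob (h : ∀ d ∈ cds G, d = 1 ∨ d = m) [hr : Fact r.Prime] {M : Subgroup Γ} (k : FrQ r M) (t : M ≠ ⊤)
    {f : G →* Γ} (hf : Function.Surjective f) :
    (∀ a ∈ M.comap f, ∀ b ∈ M.comap f, a * b = b * a) ∧ (M.comap f).index = m := by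
  haveI := k.nr
  have i : M.index = m := by
    have := (k.weak hf isIrrCharacter_one).resolve_right (by
      rw [dg_eq (n := 1) (by simp)]; exact hr.out.one_lt.ne' ∘ Nat.dvd_one.1)
    rw [dg_eq (n := 1) (by simp), mul_one] at this
    exact (h _ this).resolve_left fun e => t (index_eq_one.1 e)
  refine ⟨comm_of_dg fun θ a => ?_, by rw [index_comap_of_surjective _ hf, i]⟩
  rcases k.weak hf a with e | e
  · rcases h _ e with e | e
    · exact Nat.eq_one_of_mul_eq_one_left e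
    · rw [← i] at e
      exact Nat.eq_of_mul_eq_mul_left (Nat.pos_of_ne_zero M.index_ne_zero_of_finite) (by rw [e, mul_one])
  · obtain ⟨χ, b, d⟩ := exists_over_dvd a
    exact absurd (i ▸ e.trans (d.trans (two_dvd h _ (mem_cds b)))) k.not_dvd

theorem exists_lin_move [N.Normal] (c : ∀ a ∈ N, ∀ b ∈ N, a * b = b * a) {z : G} (hz : z ∉ cen N) :
    ∃ l : N →* ℂˣ, z ∉ inertia (lf l) := by
  rw [mem_cen] at hz
  simp only [not_forall] at hz
  obtain ⟨a, ha, e⟩ := hz
  obtain ⟨l, hl⟩ := exists_lin_ne_one (G := N) (g := ⟨z * a * z⁻¹, Normal.conj_mem inferInstance a ha z⟩ * (⟨a, ha⟩ : N)⁻¹) (by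
    rw [der_eq_bot_iff.2 fun a b => Subtype.ext (c _ a.2 _ b.2), mem_bot, mul_inv_eq_one]
    exact fun k => e (mul_inv_eq_iff_eq_mul.1 (congrArg Subtype.val k)).symm)
  refine ⟨l, fun k => hl ?_⟩
  rw [map_mul, map_inv, mul_inv_eq_one]
  exact Units.ext (mem_inertia'.1 k ⟨a, ha⟩)

/-- characters of the inertia group of a linear character of an abelian normal Hall subgroup -/
theorem inert_deg [N.Normal] (c : N.index.Coprime (ord N)) (l : N →* ℂˣ)
    {β : inertia (lf l) → ℂ} (b : Irr _ β) (k : ∀ n ∈ N.subgroupOf (inertia (lf l)), β n = β 1) :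
    (inertia (lf l)).index * dg β ∈ cds G := by
  haveI := Fintype.ofFinite G
  haveI := Fintype.ofFinite N
  have n := le_inertia (lf_irr l).isClassFunction
  let l' : N.subgroupOf (inertia (lf l)) →* ℂˣ := l.comp (subgroupOfEquivOfLe n).toMonoidHom
  obtain ⟨μ, e, -⟩ := exists_ext_orderOf (l := l') ((inertia_toSub _ (lf l) n).trans (subgroupOf_self _))
    ((c.coprime_dvd_left (relIndex_dvd_index_of_normal N _)).coprime_dvd_right
      ((orderOf_lin_dvd_card l').trans (Nat.card_congr (subgroupOfEquivOfLe n).toEquiv).dvd))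
  have o : ⟪fun x : N => (β * lf μ) ⟨x, n x.2⟩, lf l⟫ ≠ 0 := by
    have : (fun x : N => (β * lf μ) ⟨x, n x.2⟩) = β 1 • lf l := funext fun x => by
      rw [Pi.mul_apply, k ⟨x, n x.2⟩ x.2, lf_apply, e ⟨⟨x, n x.2⟩, x.2⟩]; rfl
    rw [this, H3.inner_smul_left, (lf_irr l).inner_self, mul_one]
    exact b.deg_ne_zero
  have := mem_cds (isIrr_indFun_inertia (lf_irr l) (b.mul_lf μ) o)
  rwa [dg_ind (b.mul_lf μ).isCharacter, dg_mul b.isCharacter (lf_ch _), dg_lf, mul_one] at this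

theorem two_der_le_cen (h : ∀ d ∈ cds G, d = 1 ∨ d = m) {p : ℕ} [hp : Fact p.Prime] [N.Normal]
    (c : ∀ a ∈ N, ∀ b ∈ N, a * b = b * a) (o : (ord N).Coprime p) {k : ℕ} (i : N.index = p ^ k) :
    commutator G ≤ cen N := by
  set C := cen N with hC
  have nc : N ≤ C := isComm_iff.1 (isComm_iff'.2 c)
  have s := QuotientGroup.mk'_surjective C
  by_contra n
  have n1 : commutator (G ⧸ C) ≠ ⊥ := fun e => n (by
    rwa [← map_der s, Subgroup.map_eq_bot_iff, QuotientGroup.ker_mk'] at e)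
  haveI : Nontrivial (G ⧸ C) := by
    by_contra e
    rw [not_nontrivial_iff_subsingleton] at e
    exact n1 (Subsingleton.elim _ _)
  obtain ⟨j, -, hj⟩ := (Nat.dvd_prime_pow hp.out).1 (i ▸ index_dvd_of_le nc)
  haveI := (IsPGroup.of_card (G := G ⧸ C) hj).center_nontrivial
  obtain ⟨⟨z, hz⟩, z1⟩ := exists_ne (1 : center (G ⧸ C))
  obtain ⟨z, rfl⟩ := s z
  have zc : z ∉ C := fun e => z1 (Subtype.ext ((QuotientGroup.eq_one_iff z).2 e))
  obtain ⟨l, hl⟩ := exists_lin_move c zc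
  have co : N.index.Coprime (ord N) := i ▸ o.symm.pow_left k
  set T := inertia (lf l) with hT
  have t1 : T.index ≠ 1 := fun e => hl (index_eq_one.1 e ▸ mem_top z)
  have tm : T.index = m := by
    have := inert_deg co l isIrrCharacter_one fun _ _ => rfl
    rw [dg_eq (n := 1) (by simp), mul_one] at this
    exact (h _ this).resolve_left t1
  have td : commutator T ≤ N.subgroupOf T := der_le_of_lin _ fun β b k => by
    rcases h _ (inert_deg co l b k) with e | e
    · exact Nat.eq_one_of_mul_eq_one_left e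
    · rw [← tm] at e
      exact Nat.eq_of_mul_eq_mul_left (Nat.pos_of_ne_zero T.index_ne_zero_of_finite) (by rw [e, mul_one])
  have ct : C ≤ T := fun x hx => mem_inertia'.2 fun n => by
    congr 1
    exact Subtype.ext (by rw [mul_inv_eq_iff_eq_mul]; exact (mem_cen.1 hx n n.2).symm)
  have a1 : IsMulCommutative (T.map (QuotientGroup.mk' C)) := isComm_iff'.2 (by
    rintro _ ⟨x, hx, rfl⟩ _ ⟨y, hy, rfl⟩
    rw [← commutatorElement_eq_one_iff_mul_comm, ← map_commutatorElement]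
    exact (QuotientGroup.eq_one_iff _).2 (nc (td (commutator_mem_commutator (mem_top ⟨x, hx⟩) (mem_top ⟨y, hy⟩)))))
  have a2 := isComm_sup a1 (isComm_zpowers (QuotientGroup.mk' C z)) (by
    rw [cen_zpowers]; exact fun x _ => mem_cen1.2 (mem_center_iff.1 hz x))
  obtain ⟨χ, a, d⟩ := exists_nonlin n1
  have l1 := dg_le_index a (isComm_iff'.1 a2)
  rw [(h _ (cds_quot C (mem_cds a))).resolve_left d, ← tm,
    ← index_map_eq T s (by rwa [QuotientGroup.ker_mk'])] at l1
  refine l1.not_gt (index_strictAnti (lt_of_le_of_ne le_sup_left fun e => hl ?_))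
  have : QuotientGroup.mk' C z ∈ T.map (QuotientGroup.mk' C) := e ▸ mem_sup_right (mem_zpowers _)
  rwa [← mem_comap, comap_map_eq_self (by rwa [QuotientGroup.ker_mk'])] at this

/-- Isaacs 12.5 -/
theorem two_main (h : ∀ d ∈ cds G, d = 1 ∨ d = m) (n : commutator G ≠ ⊥) :
    (∃ A : Subgroup G, A.Normal ∧ (∀ a ∈ A, ∀ b ∈ A, a * b = b * a) ∧ A.index = m) ∨
    ∃ p e : ℕ, p.Prime ∧ m = p ^ e ∧ ∃ P A : Subgroup G, P.Normal ∧ A.Normal ∧ IsPGroup p P ∧
      (∀ a ∈ A, ∀ b ∈ A, a * b = b * a) ∧ P ⊓ A = ⊥ ∧ P ⊔ A = ⊤ := by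
  haveI := two_solv h
  by_contra c
  rw [not_or] at c
  have key : ∀ K₀ : Subgroup G, K₀.Normal → ¬ commutator G ≤ K₀ → ∃ (K : Subgroup G) (_ : K.Normal), K₀ ≤ K ∧
      ¬ commutator G ≤ K ∧ ∃ p e, p.Prime ∧ IsPGroup p (G ⧸ K) ∧ e ≠ 0 ∧ m = p ^ e := by
    intro K₀ _ k
    obtain ⟨K, _, l, M⟩ := exists_minNA K₀ k
    have s := QuotientGroup.mk'_surjective K
    refine ⟨K, inferInstance, l, fun e => M.ne (by
      rwa [← map_der s, Subgroup.map_eq_bot_iff, QuotientGroup.ker_mk']), ?_⟩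
    rcases M.cases with ⟨-, p, hp, t⟩ | ⟨r, hr, t⟩
    · haveI := Fact.mk hp
      obtain ⟨χ, a, d⟩ := exists_nonlin M.ne
      obtain ⟨k, hk⟩ := IsPGroup.iff_card.1 t
      obtain ⟨e, -, he⟩ := (Nat.dvd_prime_pow hp).1 (hk ▸ a.dg_dvd)
      exact ⟨p, e, hp, t, fun e0 => d (by rw [he, e0, pow_zero]),
        he ▸ ((h _ (cds_quot K (mem_cds a))).resolve_left d).symm⟩
    · haveI := Fact.mk hr
      have := two_frob h t (fun e => M.ne (eq_top_iff.1 e |>.antisymm' le_top ▸ eq_bot_of_solv_of_perfect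
        inferInstance e)) s
      exact absurd ⟨_, inferInstance, this⟩ c.1
  obtain ⟨-, -, -, -, p, e, hp, -, e0, rfl⟩ := key ⊥ inferInstance fun e => n (eq_bot_iff.2 e)
  haveI := Fact.mk hp
  set A := pResidual p G with hA
  have o : (ord A).Coprime p := (hp.coprime_iff_not_dvd.2 (two_npc h hp (dvd_pow_self p e0))).symm
  have a := comm_of_cop (two_dvd h) (o.pow_right e)
  obtain ⟨k, i⟩ := index_pResidual (p := p) (G := G)
  have d := two_der_le_cen h a o i
  let P : Sylow p G := default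
  have s := pResidual_sup_sylow P
  have z : (P : Subgroup G) ⊓ A = ⊥ := inf_eq_bot_of_isPGroup P.isPGroup' o
  by_cases pc : (P : Subgroup G) ≤ cen A
  · exact c.2 ⟨p, e, hp, rfl, P, A, normal_of_sup s (le_nrm_of_le_cen (le_cen_symm pc)) le_normalizer,
      inferInstance, P.isPGroup', a, z, by rw [sup_comm, s]⟩
  obtain ⟨K, _, l, n, q, j, hq, t, j0, ej⟩ := key (P ⊓ cen A) (normal_of_sup s
    (le_nrm_of_le_cen (le_cen_symm inf_le_right)) (nrm_inf le_normalizer le_normalizer_of_normal)) fun k => pc (by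
      rw [← comm_eq_bot, eq_bot_iff, ← z]
      exact le_inf ((commutator_mono le_top le_top).trans (k.trans inf_le_left)) (commutator_le_right _ _))
  obtain rfl : p = q := (Nat.prime_dvd_prime_iff_eq hp hq).1 (hp.dvd_of_dvd_pow (ej ▸ dvd_pow_self p e0))
  refine n ((commutator_le_pResidual_sup P).trans (sup_le (pResidual_le_of_isPGroup_quotient t) ?_))
  exact (le_inf (der_le _) ((commutator_mono le_top le_top).trans d)).trans l

theorem dg_lt_index [Fintype H] (a : Irr G χ) (o : ⟪χ↾H, fun _ => 1⟫ ≠ 0) (n : χ ≠ fun _ => 1) : dg χ < H.index := by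
  haveI := Fintype.ofFinite G
  have b := (isCharacter_one (G := H)).ind
  have c := b.sub_of_inner_ne_zero isIrrCharacter_one (by
    rw [inner_indFun_left _ _ (isClassFunction_const 1), inner_one_one]; exact one_ne_zero)
  have d := c.deg_le_of_inner_ne_zero a (by
    rwa [H3.inner_sub_left, isIrrCharacter_one.inner_of_ne a n.symm, sub_zero,
      inner_indFun_left _ _ a.isClassFunction, Ne, inner_eq_zero_comm]) a.deg c.deg
  have e := c.deg
  rw [Pi.sub_apply, indFun_one, mul_one, sub_eq_iff_eq_add] at e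
  have : H.index = dg (indFun H (fun _ => 1) - fun _ => 1) + 1 := by exact_mod_cast e
  omega

theorem der_le_of_index (h : ∀ d ∈ cds G, d < H.index → d = 1) : commutator G ≤ H := fun g hg => by
  haveI := Fintype.ofFinite G
  haveI := Fintype.ofFinite H
  refine (mem_of_indFun_eq_deg (isCharacter_one (G := H)) isIrrCharacter_one.ne_zero
    ((isCharacter_one (G := H)).ind.eq_deg_of_constituents fun ψ a o => ?_)).1
  by_cases e : ψ = fun _ => 1
  · rw [e]
  rw [inner_indFun_left _ _ a.isClassFunction, Ne, inner_eq_zero_comm] at o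
  exact a.isCharacter.commutator_of_deg_one (a.isCharacter.dg_eq_one.1 (h _ (mem_cds a) (dg_lt_index a o e))) hg

theorem ker_of_lin_ind [Fintype G] (l : H →* ℂˣ) [N.Normal] (n : N ≤ H) {g : G} (hg : g ∈ ⁅N, N⁆) :
    indFun H (lf l) g = indFun H (lf l) 1 :=
  indFun_eq_deg_of_normal (θ := lf l) (N := ⁅N, N⁆) ((commutator_le_left N N).trans n) (fun x hx =>
    (lf_ch l).commutator_of_deg_one (g := x) (by simp) (by
      have : (x : G) ∈ (commutator H).map H.subtype := by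
        rw [map_subtype_commutator]; exact commutator_mono n n hx
      obtain ⟨y, hy, e⟩ := this
      exact Subtype.ext e ▸ hy)) hg

/-- Isaacs 12.6 -/
theorem two_der_comm (h : ∀ d ∈ cds G, d = 1 ∨ d = m) : ∀ a ∈ commutator G, ∀ b ∈ commutator G, a * b = b * a := by
  have k : ∀ H : Subgroup G, H.index = m → commutator G ≤ H := fun H e =>
    der_le_of_index fun d hd l => (h d hd).resolve_right (e ▸ l.ne)
  by_cases n : commutator G = ⊥
  · intro a ha b _
    rw [n, mem_bot] at ha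
    rw [ha, one_mul, mul_one]
  rcases two_main h n with ⟨A, -, c, i⟩ | ⟨p, -, hp, -, P, A, _, _, t, c, -, s⟩
  · exact fun a ha b hb => c a (k A i ha) b (k A i hb)
  haveI := Fact.mk hp
  haveI := Fintype.ofFinite G
  have := nilp_sup (A := P) (B := A) le_normalizer_of_normal le_normalizer_of_normal t.isNilpotent
    (nilp_of_comm (isComm_iff'.2 c))
  rw [s] at this
  haveI := Group.nilpotent_of_mulEquiv (topEquiv (G := G))
  rw [← isComm_iff', isComm_iff, ← comm_eq_bot, eq_bot_iff]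
  intro g hg
  by_contra c
  obtain ⟨χ, a, -, d⟩ := exists_irr_ker_not_mem ⊥ c
  rcases h _ (mem_cds a) with e | e
  · exact d (a.isCharacter.commutator_of_deg_one (a.isCharacter.dg_eq_one.1 e) (commutator_le_left _ _ hg))
  · obtain ⟨H, l, rfl⟩ := exists_lin_ind_of_nilpotent a
    exact d (ker_of_lin_ind l (k H (by
      rw [← e]; exact ((dg_ind (lf_ch l)).trans (by rw [dg_lf, mul_one])).symm)) hg)

end H2
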