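import Cfsg.Agent.H2.Cd3
import Cfsg.Agent.H1.Misc

/-! Character degrees (Isaacs, chapter 12): 12.11. -/

set_option autoImplicit false
set_option maxSynthPendingDepth 3

open Cfsg H7 H3 Subgroup
open scoped ComplexConjugate commutatorElement

namespace H2

variable {G Γ : Type*} [Group G] [Group Γ] {H K N Z : Subgroup G} {χ ψ : G → ℂ} {r m p : ℕ}
variable [Finite G] [Finite Γ]

theorem MinNA.faithful (h : MinNA G) (a : Irr G χ) (d : dg χ ≠ 1) : charKer χ = ⊥ := by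
  by_contra c
  exact d (a.isCharacter.dg_eq_one.2 (a.deg_eq_one_of_commutator fun x y => a.isCharacter.mem_charKer.1
    (h.le _ a.isClassFunction.charKer_normal c (commutator_mem_commutator (mem_top x) (mem_top y)))))

theorem MinNA.cen_case (h : MinNA Γ) (c : commutator Γ ≤ center Γ) {f : G →* Γ} (hf : Function.Surjective f) :
    ∃ β, Irr G β ∧ dg β ≠ 1 ∧ dg β ∣ Nat.card Γ ∧ dg β ^ 2 = ((center Γ).comap f).index ∧
      ∀ ψ, Ch G ψ → Irr _ (ψ↾((center Γ).comap f)) → Irr G (β * ψ) := by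
  obtain ⟨χ, a, d⟩ := exists_nonlin h.ne
  have z := a.charCenter_eq_center (h.faithful a d)
  obtain ⟨l, hl⟩ := exists_lin_of_le_charCenter a.deg_ne_zero z.ge
  have b := a.comp_surjective f hf
  have e : dg (fun g => χ (f g)) = dg χ := dg_congr (congrArg χ (map_one f))
  refine ⟨_, b, e ▸ d, e ▸ a.dg_dvd, ?_, fun ψ x y => Lov.irr_mul (φ := l.comp (f.subgroupComap _))
    (fun n g => (congrArg χ (map_mul f (n : G) g)).trans (hl ⟨f n, n.2⟩ (f g))) b x y⟩
  rw [e, index_comap_of_surjective _ hf]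
  exact a.deg_sq_eq_index a.deg z.ge fun x hx => a.eq_zero_of_commutator_le
    (fun y => z ▸ c (commutator_mem_commutator (mem_top y) (mem_top x))) (z ▸ hx)

theorem ext_of_max {θ : H → ℂ} (a : Irr H θ) (h : ∀ d ∈ cds G, d ≤ dg θ) : ∃ χ, Irr G χ ∧ χ↾H = θ := by
  haveI := Fintype.ofFinite H
  haveI := Fintype.ofFinite G
  obtain ⟨χ, b, o⟩ := exists_irr_over H a
  exact ⟨χ, b, res_eq_of_le b.isCharacter a o (h _ (mem_cds b))⟩

theorem dg_lt_of_gal {β : G → ℂ} (a : Irr G β) (d : dg β ≠ 1) (g : ∀ ψ, Ch G ψ → Irr H ψ↾H → Irr G (β * ψ))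
    (h : ∀ d ∈ cds G, d ≤ m) {θ : H → ℂ} (b : Irr H θ) : dg θ < m := by
  by_contra! k
  obtain ⟨ψ, u, rfl⟩ := ext_of_max b fun d hd => (h d hd).trans k
  have := h _ (mem_cds (g ψ u.isCharacter b))
  rw [dg_mul a.isCharacter u.isCharacter] at this
  rw [dg_res] at k
  have := a.dg_pos
  have := u.dg_pos
  nlinarith [show 2 ≤ dg β by omega]

omit [Finite G] [Finite Γ] in
theorem MinNA.sup_ne (h : MinNA Γ) {f : G →* Γ} (hf : Function.Surjective f) (x : G) :
    (center Γ).comap f ⊔ zpowers x ≠ ⊤ := fun e => by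
  have := congrArg (Subgroup.map f) e
  rw [Subgroup.map_sup, map_comap_eq_self_of_surjective hf, MonoidHom.map_zpowers, map_top_of_surjective f hf] at this
  have c := isComm_sup (A := center Γ) inferInstance (isComm_zpowers (f x))
    (by rw [cen_zpowers]; exact fun a ha => mem_cen1.2 (mem_center_iff.1 ha _).symm)
  rw [this, isComm_iff'] at c
  exact h.ne (der_eq_bot_iff.2 fun a b => c a trivial b trivial)

theorem onep_cen (hp : p.Prime) (h : ∀ d ∈ cds G, d = 1 ∨ d = p) (n : commutator G ≠ ⊥)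
    (c : ¬ ∃ A : Subgroup G, A.Normal ∧ (∀ a ∈ A, ∀ b ∈ A, a * b = b * a) ∧ A.index = p) :
    ∃ Z : Subgroup G, (∀ a ∈ Z, ∀ b ∈ Z, a * b = b * a) ∧ Z.index = p ^ 2 ∧ commutator G ≤ Z ∧ center G ≤ Z ∧
      ∀ x, Z ⊔ zpowers x ≠ ⊤ := by
  haveI := two_solv h
  obtain ⟨K, _, -, M⟩ := exists_minNA (G := G) ⊥ fun e => n (eq_bot_iff.2 e)
  have s := QuotientGroup.mk'_surjective K
  rcases M.cases with ⟨z, -⟩ | ⟨r, hr, t⟩
  swap
  · haveI := Fact.mk hr
    exact absurd ⟨_, inferInstance, two_frob h t (fun e => M.ne (eq_top_iff.1 e |>.antisymm' le_top ▸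
      eq_bot_of_solv_of_perfect inferInstance e)) s⟩ c
  obtain ⟨β, a, d, -, i, g⟩ := M.cen_case z s
  have e := (h _ (mem_cds a)).resolve_left d
  rw [e] at i
  refine ⟨(center (G ⧸ K)).comap (QuotientGroup.mk' K), comm_of_dg fun θ b => ?_, i.symm,
    by rw [← map_le_iff_le_comap, map_der s]; exact z, fun x hx => mem_comap.2 (mem_center_iff.2 fun y => ?_), M.sup_ne s⟩
  · obtain ⟨χ, u, v⟩ := exists_over_dvd b
    exact ((Nat.dvd_prime hp).1 (v.trans (two_dvd h _ (mem_cds u)))).resolve_right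
      (dg_lt_of_gal a d g (fun d hd => Nat.le_of_dvd hp.pos (two_dvd h d hd)) b).ne
  · obtain ⟨y, rfl⟩ := s y
    rw [← map_mul, ← map_mul, mem_center_iff.1 hx y]

theorem index_inertia_dvd [N.Normal] {θ : N → ℂ} (a : Irr N θ) : ∃ d ∈ cds G, (inertia θ).index ∣ d := by
  haveI := Fintype.ofFinite G
  haveI := Fintype.ofFinite N
  obtain ⟨χ, b, o⟩ := exists_irr_over N a
  obtain ⟨e, -, -, k⟩ := dg_eq_mul a b o
  exact ⟨_, mem_cds b, k ▸ (dvd_mul_left _ e).mul_right _⟩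

theorem card_fix_lin [N.Normal] (c : ∀ a ∈ N, ∀ b ∈ N, a * b = b * a) (x : G) :
    Nat.card {l : N →* ℂˣ // x ∈ inertia (lf l)} = ord (N ⊓ cen1 x) := by
  let φ : N →* N := MonoidHom.mk' (fun z => ⟨x * z * x⁻¹, Normal.conj_mem inferInstance _ z.2 x⟩ * z⁻¹) fun a b => by
    refine Subtype.ext ?_
    have := c _ (inv_mem a.2) _ (mul_mem (Normal.conj_mem inferInstance _ b.2 x) (inv_mem b.2))
    push_cast
    rw [mul_assoc (x * a * x⁻¹) (a : G)⁻¹, this]; group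
  have d : commutator N = ⊥ := der_eq_bot_iff.2 fun a b => Subtype.ext (c _ a.2 _ b.2)
  have e1 := card_triv φ.range (d ▸ bot_le)
  rw [index_range] at e1
  have e2 : φ.ker = (cen1 x).subgroupOf N := Subgroup.ext fun z => by
    rw [MonoidHom.mem_ker, mem_subgroupOf, mem_cen1]
    exact mul_inv_eq_one.trans (Subtype.ext_iff.trans (mul_inv_eq_iff_eq_mul.trans eq_comm))
  rw [e2, ← inf_subgroupOf_left, Nat.card_congr (subgroupOfEquivOfLe inf_le_left).toEquiv] at e1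
  rw [← e1]
  refine Nat.card_congr (Equiv.subtypeEquivRight fun l => ?_)
  rw [mem_inertia', mem_triv]
  refine ⟨fun k u ⟨z, hz⟩ => ?_, fun k z => ?_⟩
  · rw [← hz]
    change l (_ * _) = 1
    rw [map_mul, map_inv, mul_inv_eq_one]
    exact Units.ext (k z)
  · have : l (_ * _) = 1 := k _ ⟨z, rfl⟩
    rw [map_mul, map_inv, mul_inv_eq_one] at this
    exact congrArg Units.val this

omit [Finite G] in
theorem lin_both {a b : G} [Finite G] (c : commutator G = ⊥) (ha : a ≠ 1) (hb : b ≠ 1) :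
    ∃ l : G →* ℂˣ, l a ≠ 1 ∧ l b ≠ 1 := by
  obtain ⟨l, hl⟩ := exists_lin_ne_one (g := a) (by rwa [c, mem_bot])
  obtain ⟨k, hk⟩ := exists_lin_ne_one (g := b) (by rwa [c, mem_bot])
  by_cases e : l b = 1
  · by_cases e' : k a = 1
    · exact ⟨l * k, by simpa [e'] using hl, by simpa [e] using hk⟩
    · exact ⟨k, e', hk⟩
  · exact ⟨l, hl, e⟩

/-- Isaacs 12.11 -/
theorem onep_main (hp : p.Prime) (h : ∀ d ∈ cds G, d = 1 ∨ d = p) (n : commutator G ≠ ⊥)
    (c : ¬ ∃ A : Subgroup G, A.Normal ∧ (∀ a ∈ A, ∀ b ∈ A, a * b = b * a) ∧ A.index = p) :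
    (center G).index = p ^ 3 := by
  haveI := Fact.mk hp
  obtain ⟨Z, a, i, d, z, s⟩ := onep_cen hp h n c
  haveI : Z.Normal := Normal.of_commutator_le G d
  have dz : commutator Z = ⊥ := der_eq_bot_iff.2 fun x y => Subtype.ext (a _ x.2 _ y.2)
  have t : ∀ l : Z →* ℂˣ, (inertia (lf l)).index ∣ p := fun l => by
    obtain ⟨d, hd, e⟩ := index_inertia_dvd (lf_irr l)
    exact e.trans (two_dvd h d hd)
  have ix : ∀ x ∉ Z, (Z ⊔ zpowers x).index = p := fun x hx => by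
    obtain ⟨j, hj, e⟩ := (Nat.dvd_prime_pow hp).1 (i ▸ index_dvd_of_le (le_sup_left : Z ≤ Z ⊔ zpowers x))
    have := index_strictAnti (lt_of_le_of_ne (le_sup_left : Z ≤ Z ⊔ zpowers x) fun e =>
      hx (e ▸ mem_sup_right (mem_zpowers x)))
    rw [e, i, Nat.pow_lt_pow_iff_right hp.one_lt] at this
    obtain rfl | rfl : j = 0 ∨ j = 1 := by omega
    · exact absurd (index_eq_one.1 e) (s x)
    · rw [e, pow_one]
  have nc : ∀ x ∉ Z, ∃ u ∈ Z, x * u * x⁻¹ ≠ u := fun x hx => by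
    by_contra! k
    exact c ⟨_, Normal.of_commutator_le G (d.trans le_sup_left), isComm_iff'.1 (isComm_sup (isComm_iff'.2 a)
      (isComm_zpowers x) (by
        rw [cen_zpowers]; exact fun u hu => mem_cen1.2 (mul_inv_eq_iff_eq_mul.1 (k u hu)).symm)), ix x hx⟩
  have mv : ∀ (x : G) (u : Z), x * u * x⁻¹ ≠ u →
      (⟨x * u * x⁻¹, Normal.conj_mem inferInstance _ u.2 x⟩ * u⁻¹ : Z) ≠ 1 := fun x u e k =>
    e (congrArg Subtype.val (mul_inv_eq_one.1 k))
  have cz : ∀ x ∉ Z, Z ⊓ cen1 x ≤ center G := fun x hx b hb => mem_center_iff.2 fun y => by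
    by_contra e
    obtain ⟨u, hu, e'⟩ := nc x hx
    obtain ⟨l, l1, l2⟩ := lin_both dz (mv x ⟨u, hu⟩ e') (mv y ⟨b, hb.1⟩ fun k => e (mul_inv_eq_iff_eq_mul.1 k))
    rw [map_mul, map_inv, Ne, mul_inv_eq_one] at l1 l2
    haveI : (Z ⊔ zpowers x).Normal := Normal.of_commutator_le G (d.trans le_sup_left)
    rcases H1.eq_or_eq_of_index_prime ((ix x hx).symm ▸ hp)
      (le_sup_left : Z ⊔ zpowers x ≤ Z ⊔ zpowers x ⊔ inertia (lf l)) with k | k
    · have k1 : inertia (lf l) ≤ Z ⊔ zpowers x := k ▸ le_sup_right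
      have k2 : inertia (lf l) = Z ⊔ zpowers x := k1.eq_of_not_lt fun e =>
        (index_strictAnti e).not_ge ((ix x hx).symm ▸ Nat.le_of_dvd hp.pos (t l))
      exact l1 (Units.ext (mem_inertia'.1 (k2 ▸ mem_sup_right (mem_zpowers x) : x ∈ inertia (lf l)) ⟨u, hu⟩))
    · obtain ⟨w, hw, v, hv, rfl⟩ := fac_of_sup k y
      have : v * b * v⁻¹ = b := mul_inv_eq_iff_eq_mul.2 (mem_cen1.1 ((sup_le (fun q hq => mem_cen1.2 (a q hq b hb.1))
        (zpowers_le.2 (mem_cen1_comm.1 hb.2)) : Z ⊔ zpowers x ≤ cen1 b) hv))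
      refine l2 (Eq.trans (congrArg l (Subtype.ext ?_)) (Units.ext (mem_inertia'.1 hw ⟨b, hb.1⟩)))
      change w * v * b * (w * v)⁻¹ = w * b * w⁻¹
      conv_rhs => rw [← this]
      group
  have ex : ∀ l : Z →* ℂˣ, ∃ x ∈ inertia (lf l), x ∉ Z := fun l => SetLike.not_le_iff_exists.1 fun k => by
    have := Nat.le_of_dvd hp.pos ((i ▸ index_dvd_of_le k).trans (t l))
    nlinarith [hp.two_le]
  choose g g1 g2 using ex
  have cnt := card_le_mul_of_fib (n := ord (center G))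
    (fun l : Z →* ℂˣ => (⟨(g l : G ⧸ Z), fun e => g2 l ((QuotientGroup.eq_one_iff _).1 e)⟩ : {q : G ⧸ Z // q ≠ 1}))
    fun ⟨q, hq⟩ => by
      obtain ⟨x, rfl⟩ := QuotientGroup.mk_surjective q
      have hx : x ∉ Z := fun e => hq ((QuotientGroup.eq_one_iff _).2 e)
      refine le_trans ?_ ((card_fix_lin a x).le.trans (card_le_of_le (cz x hx)))
      refine Nat.card_le_card_of_injective (Subtype.map id fun l hl => ?_) (Subtype.map_injective _ Function.injective_id)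
      have := mul_mem (g1 l) (le_inertia (lf_irr l).isClassFunction (QuotientGroup.eq.1 (congrArg Subtype.val hl)))
      rwa [mul_inv_cancel_left] at this
  have lt : Nat.card {q : G ⧸ Z // q ≠ 1} < p ^ 2 := i ▸ Finite.card_subtype_lt (x := 1) (by simp)
  rw [card_lin_of_comm' (der_eq_bot_iff.1 dz), ← relIndex_mul_card' z, mul_comm] at cnt
  have l1 := (Nat.le_of_mul_le_mul_left cnt (card_pos' _)).trans_lt lt
  obtain ⟨q, e, hq, eq, P, A, _, _, tP, cA, z1, s1⟩ := (two_main h n).resolve_left c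
  obtain rfl : q = p := by
    obtain rfl | e0 := eq_or_ne e 0
    · exact absurd eq hp.one_lt.ne'
    · exact (Nat.prime_dvd_prime_iff_eq hq hp).1 (eq ▸ dvd_pow_self q e0)
  have az : A ≤ center G := by
    rw [← cen_top, ← s1, cen_sup]
    exact le_inf (comm_eq_bot.1 (eq_bot_iff.2 (z1 ▸ le_inf (commutator_le_right _ _) (commutator_le_left _ _))))
      (isComm_iff.1 (isComm_iff'.2 cA))
  obtain ⟨k, hk⟩ := IsPGroup.iff_card.1 tP
  have dv : (center G).index ∣ q ^ k := (index_dvd_of_le az).trans (by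
    rw [← relIndex_top_right, ← s1, relIndex_sup_right, ← hk]; exact index_dvd_card _)
  rw [← relIndex_mul_index z] at dv ⊢
  obtain ⟨j, -, hj⟩ := (Nat.dvd_prime_pow hp).1 ((dvd_mul_right _ _).trans dv)
  rw [hj, Nat.pow_lt_pow_iff_right hp.one_lt] at l1
  obtain rfl | rfl : j = 0 ∨ j = 1 := by omega
  · obtain ⟨x, hx⟩ : ∃ x, x ∉ Z := ⟨_, g2 1⟩
    obtain ⟨u, hu, e⟩ := nc x hx
    exact absurd (mul_inv_eq_iff_eq_mul.2 (mem_center_iff.1 (relIndex_eq_one.1 hj hu) x)) e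
  · rw [hj, i]; ring

end H2
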