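import Cfsg.Agent.H2.Cd4
import Cfsg.Agent.S0168

/-! Character degrees (Isaacs, chapter 12): 12.15. -/

set_option autoImplicit false
set_option maxSynthPendingDepth 3

open Cfsg H7 H3 Subgroup
open scoped ComplexConjugate commutatorElement

namespace H2

universe u
variable {G Γ : Type*} [Group G] [Group Γ] {H K N Z : Subgroup G} {χ ψ η α : G → ℂ} {r m n p : ℕ}
variable [Finite G] [Finite Γ]

theorem deg_split [Fintype G] (a : Ch G α) (h : ∀ χ, Irr G χ → ⟪α, χ⟫ ≠ 0 → dg χ = m ∨ dg χ = n) :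
    ∃ x y, dg α = x * m + y * n ∧ (∀ χ, Irr G χ → ⟪α, χ⟫ ≠ 0 → dg χ = m → x ≠ 0) ∧
      ∀ χ, Irr G χ → ⟪α, χ⟫ ≠ 0 → dg χ ≠ m → y ≠ 0 := by
  classical
  choose c hc using fun χ : IrrCharacter G => a.inner_nat χ.2.isCharacter
  refine ⟨∑ χ with dg χ.1 = m, c χ, ∑ χ with ¬ dg χ.1 = m, c χ, ?_, fun χ b o e k => ?_, fun χ b o e k => ?_⟩
  · have := a.isClassFunction.apply_eq_sum 1
    simp only [hc, a.deg, fun χ : IrrCharacter G => χ.2.deg] at this
    have e : dg α = ∑ χ : IrrCharacter G, c χ * dg χ.1 := by exact_mod_cast this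
    rw [e, ← Finset.sum_filter_add_sum_filter_not _ fun χ : IrrCharacter G => dg χ.1 = m, Finset.sum_mul, Finset.sum_mul]
    congr 1
    · exact Finset.sum_congr rfl fun χ k => by rw [(Finset.mem_filter.1 k).2]
    · refine Finset.sum_congr rfl fun χ k => ?_
      by_cases z : c χ = 0
      · rw [z, zero_mul, zero_mul]
      · rw [(h _ χ.2 (by rw [hc]; exact_mod_cast z)).resolve_left (Finset.mem_filter.1 k).2]
  · exact o (by rw [hc ⟨χ, b⟩, Finset.sum_eq_zero_iff.1 k ⟨χ, b⟩ (by simpa using e), Nat.cast_zero])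
  · exact o (by rw [hc ⟨χ, b⟩, Finset.sum_eq_zero_iff.1 k ⟨χ, b⟩ (by simpa using e), Nat.cast_zero])

theorem dg_conj (a : Ch G χ) : dg (fun g => conj (χ g)) = dg χ := dg_congr (by simp [a.deg])

theorem inner_flip [Fintype G] (o : ⟪η * χ, ψ⟫ ≠ 0) : ⟪(fun g => conj (χ g)) * ψ, η⟫ ≠ 0 := by
  rwa [inner_mul_left, Ne, inner_eq_zero_comm] at o

theorem eq_of_lin_const [Fintype G] (a : Irr G χ) (b : Irr G η) (c : Irr G ψ) (d : dg ψ = 1) (o : ⟪η * χ, ψ⟫ ≠ 0) :
    dg η = dg χ ∧ ∀ g ∈ commutator G, η g = conj (χ g) := by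
  obtain ⟨l, rfl⟩ := c.isCharacter.exists_lf (c.isCharacter.dg_eq_one.1 d)
  obtain rfl := (a.conj.mul_lf l).eq_of_inner_ne_zero b (inner_flip o)
  refine ⟨by rw [dg_mul a.conj.isCharacter (lf_ch l), dg_lf, mul_one, dg_conj a.isCharacter], fun g hg => ?_⟩
  rw [Pi.mul_apply, lf_apply, lin_commutator l hg, Units.val_one, mul_one]

theorem three_sq [Fintype G] (h : ∀ d ∈ cds G, d = 1 ∨ d = m ∨ d = n) (co : m.Coprime n) (lt : m < n)
    (a : Irr G χ) (b : Irr G η) (c : Irr G ψ) (d : dg χ = m) (e : dg η = m) (f : dg ψ = n) (o : ⟪η * χ, ψ⟫ ≠ 0) :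
    ∀ g ∈ commutator G, η g = conj (χ g) := by
  by_contra k
  obtain ⟨x, y, s, -, t⟩ := deg_split (m := m) (n := n) (b.isCharacter.mul a.isCharacter) fun ξ u v =>
    (h _ (mem_cds u)).resolve_left fun w => k (eq_of_lin_const a b u w v).2
  have y0 := t ψ c o (f ▸ lt.ne')
  rw [dg_mul b.isCharacter a.isCharacter, d, e] at s
  have : m ∣ y := co.dvd_of_dvd_mul_right ((Nat.dvd_add_right (dvd_mul_left m x)).1 (s ▸ dvd_mul_left m m))
  have := Nat.le_of_dvd (Nat.pos_of_ne_zero y0) this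
  have := d ▸ a.dg_pos
  nlinarith

theorem MinNA.three_zero [Fintype G] (M : MinNA G) (h : ∀ d ∈ cds G, d = 1 ∨ d = m ∨ d = n) (co : m.Coprime n)
    (lt : m < n) (m1 : m ≠ 1) (a : Irr G χ) (b : Irr G η) (c : Irr G ψ) (d : dg χ = m) (e : dg η = m) (f : dg ψ = n) :
    ⟪η * χ, ψ⟫ = 0 := by
  by_contra o
  have m0 : 0 < m := d ▸ a.dg_pos
  have A := a.conj.isCharacter.mul c.isCharacter
  have dA : dg ((fun g => conj (χ g)) * ψ) = m * n := by
    rw [dg_mul a.conj.isCharacter c.isCharacter, dg_conj a.isCharacter, d, f]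
  have nl : ∀ ξ, Irr G ξ → ⟪(fun g => conj (χ g)) * ψ, ξ⟫ ≠ 0 → dg ξ = m ∨ dg ξ = n := fun ξ u v =>
    (h _ (mem_cds u)).resolve_left fun w => by
      have := (eq_of_lin_const c a.conj u w v).1
      rw [dg_conj a.isCharacter] at this
      omega
  obtain ⟨x, y, s, t, t'⟩ := deg_split A nl
  have x0 := t η b (inner_flip o) e
  rw [dA] at s
  have : n ∣ x := co.symm.dvd_of_dvd_mul_right ((Nat.dvd_add_left (dvd_mul_left n y)).1 (s ▸ dvd_mul_left n m))
  have := Nat.le_of_dvd (Nat.pos_of_ne_zero x0) this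
  have y0 : y = 0 := by
    by_contra y0
    nlinarith [Nat.pos_of_ne_zero y0]
  have key : ∀ g ∈ commutator G, conj (χ g) * ψ g =
      (∑ ξ : IrrCharacter G, ⟪(fun g => conj (χ g)) * ψ, ξ.1⟫) * conj (χ g) := fun g hg => by
    rw [Finset.sum_mul]
    refine (A.isClassFunction.apply_eq_sum g).trans (Finset.sum_congr rfl fun ξ _ => ?_)
    by_cases v : ⟪(fun g => conj (χ g)) * ψ, ξ.1⟫ = 0
    · rw [v, zero_mul, zero_mul]
    · rw [three_sq h co lt a ξ.2 c d (by_contra fun w => t' _ ξ.2 v w y0) f (by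
        have := inner_flip (η := ψ) (χ := fun g => conj (χ g)) (by rwa [mul_comm])
        simp only [Complex.conj_conj] at this
        rwa [mul_comm]) g hg]
  have k1 := key 1 (one_mem _)
  rw [mul_comm] at k1
  replace k1 := mul_right_cancel₀ ((_root_.map_ne_zero _).2 a.deg_ne_zero) k1
  haveI := Fintype.ofFinite (commutator G)
  have z := card_mul_inner_of_supp (χ := χ) (K := commutator G) fun g hg g1 => by
    by_contra z
    have := key g hg
    rw [← k1, mul_comm] at this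
    have := c.isCharacter.mem_charKer.2 (mul_right_cancel₀ ((_root_.map_ne_zero _).2 z) this)
    rw [M.faithful c (by omega)] at this
    exact g1 this
  refine M.ne (eq_bot_iff.2 fun g hg => ?_)
  rw [← M.faithful a (d ▸ m1)]
  exact a.isCharacter.mem_charKer.2 (eq_deg_of_inner_res_one a (fun k => a.deg_ne_zero (by rw [← z, k, mul_zero])) hg)

theorem MinNA.three_solv (M : MinNA G) (h : ∀ d ∈ cds G, d = 1 ∨ d = m ∨ d = n) (co : m.Coprime n) (lt : m < n) :
    Group.IsSolvable G := by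
  haveI := Fintype.ofFinite G
  by_cases k : m ≠ 1 ∧ m ∈ cds G
  swap
  · exact two_solv (m := n) fun d hd => by
      rcases h d hd with e | rfl | e
      exacts [Or.inl e, Or.inl (by_contra fun e => k ⟨e, hd⟩), Or.inr e]
  obtain ⟨m1, ⟨χ, a⟩, d⟩ := k
  have m0 : 0 < m := d ▸ a.dg_pos
  refine two_solv (m := m) fun _ ⟨⟨ψ, c⟩, e⟩ => ?_
  rcases h _ (mem_cds c) with f | f | f
  · exact Or.inl (e ▸ f)
  · exact Or.inr (e ▸ f)
  replace d : dg χ = m := d
  have key : ∀ i : ℕ, ∀ ψ, Irr G ψ → dg ψ = n → ⟪χ ^ i, ψ⟫ = 0 := fun i => by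
    induction i with
    | zero => exact fun ψ c f => isIrrCharacter_one'.inner_of_ne c fun e => by
                rw [← e, dg_eq (n := 1) (by simp)] at f; omega
    | succ i ih =>
      intro ψ c f
      rw [pow_succ, (a.isCharacter.pow i).isClassFunction.eq_sum, Finset.sum_mul, inner_sum_left]
      refine Finset.sum_eq_zero fun η _ => ?_
      rw [smul_mul_assoc, H3.inner_smul_left]
      rcases h _ (mem_cds η.2) with g | g | g
      · obtain ⟨l, hl⟩ := η.2.isCharacter.exists_lf (η.2.isCharacter.dg_eq_one.1 g)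
        rw [hl, (a.lf_mul l).inner_of_ne c fun e => by
          rw [← e, dg_mul (lf_ch l) a.isCharacter, dg_lf, one_mul] at f; omega, mul_zero]
      · rw [M.three_zero h co lt m1 a η.2 c d g f, mul_zero]
      · rw [ih _ η.2 g, zero_mul]
  have z := M.faithful a (d ▸ m1)
  obtain ⟨k, ρ, -, rfl⟩ := a
  rw [charKer_character, MonoidHom.ker_eq_bot_iff] at z
  obtain ⟨i, -, o⟩ := Cfsg.Agent.S0168.result ρ z ψ c
  exact absurd (key i ψ c f) o

theorem two_sub (h : ∀ d ∈ cds N, d = 1 ∨ d = m) : ⁅⁅N, N⁆, ⁅N, N⁆⁆ = ⊥ := by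
  rw [← map_subtype_commutator N, ← map_commutator, comm_eq_bot.2 (isComm_iff.1 (isComm_iff'.2 (two_der_comm h))),
    Subgroup.map_bot]

theorem two_quot [N.Normal] (h : ∀ d ∈ cds (G ⧸ N), d = 1 ∨ d = m) : ⁅commutator G, commutator G⁆ ≤ N := by
  have := comm_eq_bot.2 (isComm_iff.1 (isComm_iff'.2 (two_der_comm h)))
  rw [← map_der (QuotientGroup.mk'_surjective N), ← map_commutator, Subgroup.map_eq_bot_iff, QuotientGroup.ker_mk'] at this
  exact this

omit [Finite G] in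
theorem der3_eq : derivedSeries G 3 = ⁅⁅commutator G, commutator G⁆, ⁅commutator G, commutator G⁆⁆ := rfl

theorem two_der3 (h : ∀ d ∈ cds G, d = 1 ∨ d = m) : derivedSeries G 3 = ⊥ := by
  rw [der3_eq, comm_eq_bot.2 (isComm_iff.1 (isComm_iff'.2 (two_der_comm h))), commutator_bot_left]

theorem three_frob (h : ∀ d ∈ cds G, d = 1 ∨ d = m ∨ d = n) (co : m.Coprime n) [hr : Fact r.Prime] {M : Subgroup Γ}
    (k : FrQ r M) (i : M.index = m) (m1 : m ≠ 1) {f : G →* Γ} (hf : Function.Surjective f) :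
    ∀ d ∈ cds (M.comap f), d = 1 ∨ d = n := by
  rintro _ ⟨⟨θ, a⟩, rfl⟩
  haveI := k.nr
  haveI := Fintype.ofFinite G
  haveI := Fintype.ofFinite (M.comap f)
  have m0 : 0 < m := i ▸ Nat.pos_of_ne_zero M.index_ne_zero_of_finite
  rcases k.weak hf a with e | e
  · rw [i] at e
    rcases h _ e with e | e | e
    · exact absurd (Nat.eq_one_of_mul_eq_one_right e) m1
    · exact Or.inl (Nat.eq_of_mul_eq_mul_left m0 (e.trans (mul_one m).symm))
    · exact absurd (co.eq_one_of_dvd ⟨_, e.symm⟩) m1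
  obtain ⟨χ, b, o⟩ := exists_irr_over _ a
  obtain ⟨j, j1, j2⟩ := dg_eq_mul' a b o
  rw [index_comap_of_surjective _ hf, i] at j1
  have d : r ∣ dg χ := j2 ▸ e.mul_left j
  rcases h _ (mem_cds b) with g | g | g
  · exact absurd (Nat.dvd_one.1 (g ▸ d)) hr.out.ne_one
  · exact absurd (i ▸ g ▸ d) k.not_dvd
  · rw [(co.coprime_dvd_left j1).eq_one_of_dvd (g ▸ j2 ▸ dvd_mul_right _ _), one_mul] at j2
    exact Or.inr (j2 ▸ g)

theorem three_cen (h : ∀ d ∈ cds G, d = 1 ∨ d = m ∨ d = n) (co : m.Coprime n) (m1 : m ≠ 1) (n1 : n ≠ 1)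
    [Z.Normal] {β : G → ℂ} (a : Irr G β) (d : dg β = m) (i : dg β ^ 2 = Z.index)
    (g : ∀ ψ, Ch G ψ → Irr _ ψ↾Z → Irr G (β * ψ)) : n ∉ cds G := by
  rintro ⟨⟨ψ, c⟩, e⟩
  replace e : dg ψ = n := e
  have := h _ (mem_cds (g ψ c.isCharacter (res_irr_of_coprime c (by rw [← i, d, e]; exact co.pow_left 2))))
  rw [dg_mul a.isCharacter c.isCharacter, d, e] at this
  have m0 := d ▸ a.dg_pos
  have n0 := e ▸ c.dg_pos
  rcases this with t | t | t
  · exact m1 (Nat.eq_one_of_mul_eq_one_right t)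
  · exact n1 (Nat.eq_of_mul_eq_mul_left m0 (t.trans (mul_one m).symm))
  · exact m1 (Nat.eq_of_mul_eq_mul_right n0 (t.trans (one_mul n).symm))

theorem three_cop (h : ∀ d ∈ cds G, d = 1 ∨ d = m ∨ d = n) (co : m.Coprime n) (lt : m < n) :
    derivedSeries G 3 = ⊥ := by
  have h' : ∀ d ∈ cds G, d = 1 ∨ d = n ∨ d = m := fun d hd => (h d hd).imp_right Or.symm
  by_cases k : m ≠ 1 ∧ m ∈ cds G
  swap
  · exact two_der3 (m := n) fun d hd => by
      rcases h d hd with e | rfl | e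
      exacts [Or.inl e, Or.inl (by_contra fun e => k ⟨e, hd⟩), Or.inr e]
  by_cases k' : n ≠ 1 ∧ n ∈ cds G
  swap
  · exact two_der3 (m := m) fun d hd => by
      rcases h d hd with e | e | rfl
      exacts [Or.inl e, Or.inr e, Or.inl (by_contra fun e => k' ⟨e, hd⟩)]
  by_cases c : commutator G = ⊥
  · rw [der3_eq, c, commutator_bot_left, commutator_bot_left]
  obtain ⟨K, _, -, M⟩ := exists_minNA (G := G) ⊥ fun e => c (eq_bot_iff.2 e)
  have s := QuotientGroup.mk'_surjective K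
  haveI := M.three_solv (fun d hd => h d (cds_quot K hd)) co lt
  rcases M.cases with ⟨z, -⟩ | ⟨r, hr, t⟩
  · obtain ⟨β, a, d, -, i, g⟩ := M.cen_case z s
    rcases (h _ (mem_cds a)).resolve_left d with e | e
    · exact absurd k'.2 (three_cen h co k.1 k'.1 a e i g)
    · exact absurd k.2 (three_cen h' co.symm k'.1 k.1 a e i g)
  haveI := Fact.mk hr
  have l : commutator G ≤ (commutator (G ⧸ K)).comap (QuotientGroup.mk' K) := by
    rw [← map_le_iff_le_comap, map_der s]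
  have : ∃ j, ∀ d ∈ cds ((commutator (G ⧸ K)).comap (QuotientGroup.mk' K)), d = 1 ∨ d = j := by
    have := (t.weak s isIrrCharacter_one).resolve_right (by
      rw [dg_eq (n := 1) (by simp)]; exact hr.one_lt.ne' ∘ Nat.dvd_one.1)
    rw [dg_eq (n := 1) (by simp), mul_one] at this
    rcases h _ this with e | e | e
    · exact absurd (index_eq_one.1 e) fun e => M.ne (eq_top_iff.1 e |>.antisymm' le_top ▸
        eq_bot_of_solv_of_perfect inferInstance e)
    · exact ⟨n, three_frob h co t e k.1 s⟩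
    · exact ⟨m, three_frob h' co.symm t e k'.1 s⟩
  obtain ⟨j, hj⟩ := this
  rw [der3_eq, eq_bot_iff, ← two_sub hj]
  exact commutator_mono (commutator_mono l l) (commutator_mono l l)

theorem qp_deg_one (hχ : Irr G χ) (h : IsQuasiPrimitive χ) [(charCenter χ).Normal]
    [Group.IsNilpotent (G ⧸ charCenter χ)] : χ 1 = 1 := by
  apply hχ.deg_eq_one_of_charCenter
  haveI hK := hχ.isClassFunction.charKer_normal
  by_contra hZ
  haveI : Nontrivial (G ⧸ charCenter χ) := QuotientGroup.nontrivial_iff.2 hZ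
  haveI := (Subgroup.nontrivial_iff_ne_bot _).2 (Group.IsNilpotent.center_ne_bot (G ⧸ charCenter χ))
  obtain ⟨⟨q, hq⟩, hq1⟩ := exists_ne (1 : Subgroup.center (G ⧸ charCenter χ))
  induction q using QuotientGroup.induction_on with
  | H y =>
  have hy : y ∉ charCenter χ := fun h => hq1 (Subtype.ext ((QuotientGroup.eq_one_iff y).2 h))
  let A : Subgroup G := (Subgroup.zpowers (y : G ⧸ charCenter χ)).comap (QuotientGroup.mk' _)
  have hAn : A.Normal := by
    refine Subgroup.Normal.comap ⟨fun n hn g => ?_⟩ _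
    have : n ∈ Subgroup.center _ := (Subgroup.zpowers_le.2 hq) hn
    rwa [Subgroup.mem_center_iff.1 this g, mul_inv_cancel_right]
  have hA : ∀ a ∈ A, ∃ z ∈ charCenter χ, ∃ k : ℤ, a = z * y ^ k := by
    rintro a ⟨k, hk⟩
    refine ⟨a * (y ^ k)⁻¹, ?_, k, by simp⟩
    rw [← QuotientGroup.eq_one_iff]
    simp only [QuotientGroup.mk'_apply] at hk
    simp [← hk]
  refine hy (h.le_charCenter hχ hAn (fun a ha b hb => ?_) (Subgroup.mem_zpowers _))
  obtain ⟨z, hz, k, rfl⟩ := hA a ha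
  obtain ⟨w, hw, l, rfl⟩ := hA b hb
  have hc : ∀ z ∈ charCenter χ, ∀ g : G, Commute (z : G ⧸ charKer χ) g := fun z hz g => by
    have := hχ.isClassFunction.commutator_mem_charKer hz g
    rw [← QuotientGroup.eq_one_iff] at this
    simp only [QuotientGroup.mk_mul, QuotientGroup.mk_inv] at this
    rwa [mul_inv_eq_one, mul_inv_eq_iff_eq_mul] at this
  have : Commute ((z * y ^ k : G) : G ⧸ charKer χ) (w * y ^ l : G) := by
    rw [QuotientGroup.mk_mul _ z]
    refine (hc z hz _).mul_left ?_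
    rw [QuotientGroup.mk_mul _ w]
    refine (hc w hw _).symm.mul_right ?_
    simp only [QuotientGroup.mk_zpow]
    exact Commute.zpow_zpow_self _ _ _
  rw [← QuotientGroup.eq_one_iff, QuotientGroup.mk_mul, QuotientGroup.mk_mul,
    QuotientGroup.mk_mul _ _ (w * y ^ l), this.eq, QuotientGroup.mk_inv, QuotientGroup.mk_inv]
  group

theorem mono_of_ab [Fintype G] [Fact p.Prime] [N.Normal] (c : ∀ a ∈ N, ∀ b ∈ N, a * b = b * a) {k : ℕ}
    (i : N.index = p ^ k) (a : Irr G χ) : ∃ (H : Subgroup G) (l : H →* ℂˣ), χ = indFun H (lf l) := by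
  obtain ⟨H, _, ψ, h1, h2, h3⟩ := exists_primitive a
  have q := h3.isQuasiPrimitive h1
  haveI := h1.isClassFunction.charCenter_normal
  have l := q.le_charCenter h1 (A := N.subgroupOf H) inferInstance fun x hx y hy => by
    rw [show x * y = y * x from Subtype.ext (c _ hx _ hy), mul_inv_cancel_right, mul_inv_cancel]; exact one_mem _
  obtain ⟨j, -, e⟩ := (Nat.dvd_prime_pow Fact.out).1
    ((index_dvd_of_le l).trans (i ▸ relIndex_dvd_index_of_normal N H))
  haveI := (IsPGroup.of_card (G := H ⧸ charCenter ψ) e).isNilpotent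
  obtain ⟨μ, rfl⟩ := h1.isCharacter.exists_lf (qp_deg_one h1 q)
  exact ⟨H, μ, h2.symm⟩

theorem mem_of_ker_lt {g : G} (h : ∀ ψ, Irr G ψ → dg ψ < H.index → ψ g = ψ 1) : g ∈ H := by
  haveI := Fintype.ofFinite G
  haveI := Fintype.ofFinite H
  refine (mem_of_indFun_eq_deg (isCharacter_one (G := H)) isIrrCharacter_one.ne_zero
    ((isCharacter_one (G := H)).ind.eq_deg_of_constituents fun ψ a o => ?_)).1
  by_cases e : ψ = fun _ => 1
  · rw [e]
  rw [inner_indFun_left _ _ a.isClassFunction, Ne, inner_eq_zero_comm] at o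
  exact h ψ a (dg_lt_index a o e)

theorem taketa3 [Fintype G] (h : ∀ d ∈ cds G, d = 1 ∨ d = m ∨ d = n) (lt : m ≤ n)
    (t : ∀ χ, Irr G χ → ∃ (H : Subgroup G) (l : H →* ℂˣ), χ = indFun H (lf l)) : derivedSeries G 3 = ⊥ := by
  have s : ∀ (N : Subgroup G) [N.Normal] (b : ℕ), (∀ ψ, Irr G ψ → dg ψ < b → ∀ g ∈ N, ψ g = ψ 1) →
      ∀ ψ, Irr G ψ → dg ψ ≤ b → ∀ g ∈ ⁅N, N⁆, ψ g = ψ 1 := fun N _ b k ψ a d g hg => by
    obtain ⟨H, l, rfl⟩ := t ψ a
    rw [dg_ind (lf_ch l), dg_lf, mul_one] at d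
    exact ker_of_lin_ind l (fun x hx => mem_of_ker_lt fun η u v => k η u (v.trans_le d) x hx) hg
  have s1 := s ⊤ 1 fun ψ a d => absurd a.dg_pos (by omega)
  have s2 := s ⁅⊤, ⊤⁆ m fun ψ a d => s1 ψ a (by have := h _ (mem_cds a); omega)
  have s3 := s ⁅⁅⊤, ⊤⁆, ⁅⊤, ⊤⁆⁆ n fun ψ a d g hg => by
    rcases h _ (mem_cds a) with e | e | e
    exacts [s1 ψ a e.le g (der_le _ hg), s2 ψ a e.le g hg, absurd e d.ne]
  refine eq_bot_iff.2 fun g hg => by_contra fun c => ?_
  obtain ⟨χ, a, -, d⟩ := exists_irr_ker_not_mem ⊥ c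
  rcases h _ (mem_cds a) with e | e | e
  exacts [d (s1 χ a e.le g (der_le _ (der_le _ hg))), d (s3 χ a (e ▸ lt) g hg), d (s3 χ a e.le g hg)]

theorem cds_npc [hp : Fact p.Prime] [N.Normal] (o : ¬ p ∣ ord N) {k : ℕ} (i : N.index = p ^ k) :
    (∀ d ∈ cds N, ∃ e ∈ cds G, d = ordCompl[p] e) ∧ ∀ d ∈ cds (G ⧸ ⁅N, N⁆), ordCompl[p] d = 1 := by
  haveI := Fintype.ofFinite G
  haveI := Fintype.ofFinite N
  have key : ∀ j x, j ∣ p ^ k → ¬ p ∣ x → ordCompl[p] (j * x) = x := fun j x a b => by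
    obtain ⟨e, -, rfl⟩ := (Nat.dvd_prime_pow hp.out).1 a
    exact Nat.ordCompl_pow_mul_of_not_dvd e hp.out b
  refine ⟨fun _ ⟨⟨θ, a⟩, e⟩ => ?_, fun _ ⟨⟨χ, a⟩, e⟩ => ?_⟩
  · obtain ⟨χ, b, c⟩ := exists_irr_over _ a
    obtain ⟨j, j1, j2⟩ := dg_eq_mul' a b c
    exact ⟨_, mem_cds b, by rw [j2, key j _ (i ▸ j1) fun d => o (d.trans a.dg_dvd), ← e]⟩
  · have s := QuotientGroup.mk'_surjective ⁅N, N⁆
    haveI := Subgroup.Normal.map ‹N.Normal› _ s
    have := a.dg_dvd_index (N.map (QuotientGroup.mk' ⁅N, N⁆)) (by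
      rintro _ ⟨x, hx, rfl⟩ _ ⟨y, hy, rfl⟩
      rw [← commutatorElement_eq_one_iff_mul_comm, ← map_commutatorElement]
      exact (QuotientGroup.eq_one_iff _).2 (commutator_mem_commutator hx hy))
    rw [← e, ← mul_one (dg _)]
    exact key _ 1 (this.trans (i ▸ index_map_dvd N s)) hp.out.not_dvd_one

/-- Isaacs 12.15 -/
theorem three_der (k : ℕ) : ∀ (G : Type u) [Group G] [Finite G], Nat.card G = k → ∀ m n : ℕ,
    (∀ d ∈ cds G, d = 1 ∨ d = m ∨ d = n) → derivedSeries G 3 = ⊥ := by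
  induction k using Nat.strong_induction_on with
  | _ k ih =>
  intro G _ _ hk m n h
  wlog lt : m ≤ n generalizing m n
  · exact this n m (fun d hd => (h d hd).imp_right Or.symm) (le_of_not_ge lt)
  rcases lt.eq_or_lt with rfl | lt'
  · exact two_der3 fun d hd => (h d hd).imp_right fun e => e.elim id id
  by_cases co : m.Coprime n
  · exact three_cop h co lt'
  obtain ⟨p, hp, pm, pn⟩ := Nat.Prime.not_coprime_iff_dvd.1 co
  haveI := Fact.mk hp
  haveI := Fintype.ofFinite G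
  have o := H3.thompson_npc (G := G) hp fun χ a e =>
    ((h _ (mem_cds a)).resolve_left e).elim (fun e => e ▸ pm) fun e => e ▸ pn
  obtain ⟨j, i⟩ := index_pResidual (p := p) (G := G)
  set N := pResidual p G with hN
  obtain ⟨c1, c2⟩ := cds_npc o i
  have c3 : ∀ d ∈ cds N, d = 1 ∨ d = ordCompl[p] m ∨ d = ordCompl[p] n := fun d hd => by
    obtain ⟨e, he, rfl⟩ := c1 d hd
    rcases h e he with rfl | rfl | rfl <;> simp
  have c4 : ∀ d ∈ cds (G ⧸ ⁅N, N⁆), d = 1 ∨ (d = m ∧ ordCompl[p] m = 1) ∨ (d = n ∧ ordCompl[p] n = 1) :=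
    fun d hd => (h d (cds_quot _ hd)).imp_right fun e => e.imp (fun e => ⟨e, e ▸ c2 d hd⟩) fun e => ⟨e, e ▸ c2 d hd⟩
  have fin : ∀ a b, (∀ d ∈ cds (G ⧸ ⁅N, N⁆), d = 1 ∨ d = a) → (∀ d ∈ cds N, d = 1 ∨ d = b) →
      derivedSeries G 3 = ⊥ := fun a b x y => by
    rw [der3_eq, eq_bot_iff, ← two_sub y]
    exact commutator_mono (two_quot x) (two_quot x)
  by_cases m1 : ordCompl[p] m = 1 <;> by_cases n1 : ordCompl[p] n = 1
  · exact taketa3 h lt fun χ a => mono_of_ab (comm_of_dg fun θ b => by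
      have := c3 _ (mem_cds b); omega) i a
  · exact fin m (ordCompl[p] n) (fun d hd => by have := c4 d hd; omega) fun d hd => by have := c3 d hd; omega
  · exact fin n (ordCompl[p] m) (fun d hd => by have := c4 d hd; omega) fun d hd => by have := c3 d hd; omega
  have l : commutator G ≤ ⁅N, N⁆ := by
    rw [← QuotientGroup.ker_mk' ⁅N, N⁆, ← Subgroup.map_eq_bot_iff, map_der (QuotientGroup.mk'_surjective _)]
    by_contra c
    obtain ⟨χ, a, d⟩ := exists_nonlin c
    have := c4 _ (mem_cds a)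
    omega
  by_cases t : N = ⊤
  · refine two_der3 (m := 1) fun _ ⟨χ, e⟩ => Or.inl (by_contra fun c => o ?_)
    rw [t, card_top]
    exact (((h _ ⟨χ, e⟩).resolve_left c).elim (fun f => f ▸ pm) fun f => f ▸ pn).trans (e ▸ χ.2.dg_dvd)
  have := congrArg (Subgroup.map N.subtype) (ih _ (hk ▸ card_lt_of_ne_top t) N rfl _ _ c3)
  rw [Subgroup.map_bot, der3_eq, map_commutator, map_commutator, map_subtype_commutator] at this
  rw [der3_eq, eq_bot_iff, ← this]
  exact commutator_mono (commutator_mono l l) (commutator_mono l l)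

end H2
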