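import Cfsg.Agent.H2.Cd4

/-! Character degrees (Isaacs, chapter 12): 12.22, 12.23. -/

set_option autoImplicit false
set_option maxSynthPendingDepth 3

open Cfsg H7 H3 Subgroup
open scoped ComplexConjugate commutatorElement Nat

namespace H2

universe u
variable {G Γ : Type*} [Group G] [Group Γ] {H K N B : Subgroup G} {χ ψ α : G → ℂ} {r b p : ℕ}
variable [Finite G] [Finite Γ]

theorem index_le_of_vanish (a : Irr G χ) (v : ∀ g ∉ H, χ g = 0) : H.index ≤ dg χ ^ 2 := by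
  haveI := Fintype.ofFinite G
  haveI := Fintype.ofFinite H
  have h1 := congrArg Complex.re ((inner_res_self_eq_iff H χ).2 v)
  rw [a.inner_self, mul_one, inner_self_re, Complex.natCast_re,
    inv_mul_eq_iff_eq_mul₀ (by exact_mod_cast (card_pos' H).ne')] at h1
  have h2 : ∑ g : H, ‖χ g‖ ^ 2 ≤ ∑ _g : H, (dg χ : ℝ) ^ 2 := Finset.sum_le_sum fun g _ =>
    pow_le_pow_left₀ (norm_nonneg _) (a.isCharacter.norm_le' a.deg g) 2
  rw [h1, Finset.sum_const, nsmul_eq_mul, Finset.card_univ, ← Nat.card_eq_fintype_card] at h2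
  exact_mod_cast le_of_mul_le_mul_left h2 (by exact_mod_cast card_pos' H)

theorem dg_le_inner [Fintype G] (c : ∀ x y : G, x * y = y * x) (a : Ch G α) : (dg α : ℝ) ≤ (⟪α, α⟫).re := by
  choose k hk using fun χ : IrrCharacter G => a.inner_nat χ.2.isCharacter
  have := a.isClassFunction.apply_eq_sum 1
  simp only [hk, a.deg, fun χ : IrrCharacter G => χ.2.deg_eq_one_of_comm c, mul_one] at this
  have e : dg α = ∑ χ : IrrCharacter G, k χ := by exact_mod_cast this
  rw [a.isClassFunction.inner_self_re_eq_sum, e, Nat.cast_sum]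
  refine Finset.sum_le_sum fun χ _ => ?_
  rw [hk, Complex.norm_natCast]
  exact_mod_cast Nat.le_self_pow two_ne_zero _

/-- Isaacs 12.22 -/
theorem sum_cen_ge [Fintype B] (c : ∀ x ∈ B, ∀ y ∈ B, x * y = y * x) (h : ∀ d ∈ cds G, d ≤ b) :
    ord B * Nat.card G ≤ b * ∑ a : B, ord (cen1 (a : G)) := by
  have e : ((∑ a : B, ord (cen1 (a : G)) : ℕ) : ℝ) = ∑ χ : IrrCharacter G, ord B * (⟪χ.1↾B, χ.1↾B⟫).re := by
    simp only [card_mul_inner_self_re]
    rw [Finset.sum_comm, Nat.cast_sum]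
    exact Finset.sum_congr rfl fun a _ => (sum_normSq_irr _).symm
  have : (ord B * Nat.card G : ℝ) ≤ b * (∑ a : B, ord (cen1 (a : G)) : ℕ) := by
    rw [e, ← sum_dg_sq (G := G), Nat.cast_sum, Finset.mul_sum, Finset.mul_sum]
    refine Finset.sum_le_sum fun χ _ => ?_
    have a1 := dg_le_inner (fun x y : B => Subtype.ext (c _ x.2 _ y.2)) (χ.2.isCharacter.res B)
    rw [dg_res] at a1
    have a2 : (dg χ.1 : ℝ) ≤ b := by exact_mod_cast h _ (mem_cds χ.2)
    rw [mul_left_comm, Nat.cast_pow, sq]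
    gcongr
  exact_mod_cast this

theorem exists_big_cen (c : ∀ x ∈ B, ∀ y ∈ B, x * y = y * x) (h : ∀ d ∈ cds G, d ≤ b) (l : b < ord B) :
    ∃ a : G, a ≠ 1 ∧ (cen1 a).index ≤ b ^ 2 := by
  classical
  haveI := Fintype.ofFinite B
  by_contra! k
  have s := sum_cen_ge c h
  rw [← Finset.add_sum_erase _ _ (Finset.mem_univ 1)] at s
  have s1 : ord (cen1 ((1 : B) : G)) ≤ Nat.card G := card_le_card_group _
  have s2 : (b ^ 2 + 1) * ∑ a ∈ Finset.univ.erase (1 : B), ord (cen1 (a : G)) ≤ (ord B - 1) * Nat.card G := by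
    rw [Finset.mul_sum, Nat.card_eq_fintype_card (α := B), ← Finset.card_univ,
      ← Finset.card_erase_of_mem (Finset.mem_univ 1), ← smul_eq_mul]
    refine Finset.sum_le_card_nsmul _ _ _ fun a ha => ?_
    rw [← (cen1 (a : G)).index_mul_card]
    exact Nat.mul_le_mul_right _ (k a fun e => (Finset.mem_erase.1 ha).1 (Subtype.ext e))
  obtain ⟨t, e⟩ := Nat.exists_eq_add_of_lt l
  have b0 : 1 ≤ b := h 1 one_mem_cds
  have g0 : 0 < Nat.card G := Nat.card_pos
  rw [e] at s s2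
  generalize Nat.card G = g at *
  generalize ∑ a ∈ Finset.univ.erase (1 : B), ord (cen1 (a : G)) = S at *
  generalize ord (cen1 ((1 : B) : G)) = o at *
  rw [Nat.add_sub_cancel] at s2
  have s3 : (t + 1) * g ≤ b * S := by nlinarith
  have s4 : (b ^ 2 + 1) * ((t + 1) * g) ≤ b * ((b + t) * g) := by nlinarith
  have s5 : (b ^ 2 + 1) * (t + 1) ≤ b * (b + t) := Nat.le_of_mul_le_mul_right (by nlinarith) g0
  nlinarith [Nat.mul_le_mul_right (b * t) b0]

theorem card_dvd_fact (h : ∀ B : Subgroup G, (∀ x ∈ B, ∀ y ∈ B, x * y = y * x) → ord B ≤ b) : Nat.card G ∣ b ! := by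
  classical
  refine (Nat.dvd_iff_prime_pow_dvd_dvd _ _).2 fun p k hp d => ?_
  haveI := Fact.mk hp
  let P : Sylow p G := default
  obtain ⟨A, -, a1, a2, a3⟩ := exists_scn (S := (P : Subgroup G)) (B := ⊥) P.isPGroup'.isNilpotent bot_le inferInstance
    le_normalizer_of_normal
  haveI := Fintype.ofFinite A
  refine (P.pow_dvd_card_of_pow_dvd_card d).trans (Dvd.dvd.trans ?_ (Nat.factorial_dvd_factorial
    (h A (isComm_iff'.1 (isComm_iff.2 (a3.ge.trans inf_le_right))))))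
  let ρ : P →* Equiv.Perm A := (MulAut.toPerm A).comp (A.normalizerMonoidHom.comp (inclusion a2))
  have e : A.subgroupOf P ≥ ρ.ker := fun x hx => a3.le ⟨x.2, mem_cen.2 fun y hy => by
    have := congrArg Subtype.val (DFunLike.congr_fun (MonoidHom.mem_ker.1 hx) ⟨y, hy⟩)
    exact (mul_inv_eq_iff_eq_mul.1 this).symm⟩
  have l : ρ.range ≤ MulAction.stabilizer (Equiv.Perm A) (1 : A) := by
    rintro _ ⟨x, rfl⟩
    exact map_one (A.normalizerMonoidHom (inclusion a2 x))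
  have s := (MulAction.stabilizer (Equiv.Perm A) (1 : A)).card_mul_index
  rw [MulAction.index_stabilizer_of_transitive, Nat.card_perm] at s
  rw [← s, ← relIndex_mul_card' a1]
  exact Nat.mul_dvd_mul_right (((index_dvd_of_le e).trans (index_ker ρ).dvd).trans (card_dvd_of_le l)) _

theorem two_mul_dg_le [K.Normal] (n : commutator (G ⧸ K) ≠ ⊥) (h : ∀ d ∈ cds G, d ≤ b) : ∀ d ∈ cds K, d ≤ b / 2 := by
  rintro _ ⟨⟨θ, a⟩, rfl⟩
  haveI := Fintype.ofFinite G
  haveI := Fintype.ofFinite K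
  obtain ⟨χ, c, o⟩ := exists_irr_over _ a
  obtain ⟨j, -, e⟩ := dg_eq_mul' a c o
  have l := h _ (mem_cds c)
  have := c.dg_pos
  rw [Nat.le_div_iff_mul_le two_pos]
  change dg θ * 2 ≤ b
  obtain rfl | rfl | j2 : j = 0 ∨ j = 1 ∨ 2 ≤ j := by omega
  · omega
  · obtain rfl := res_eq_of_le c.isCharacter a o (by omega)
    obtain ⟨β, u, d⟩ := exists_nonlin n
    have := h _ (mem_cds (gallagher_irr' c.isCharacter a u.inflate fun n hn => by
      rw [(QuotientGroup.eq_one_iff n).2 hn]; rfl))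
    rw [dg_mul u.inflate.isCharacter c.isCharacter, show dg (fun g : G => β g) = dg β from rfl] at this
    have := u.dg_pos
    rw [dg_res]
    nlinarith [show 2 ≤ dg β by omega]
  · nlinarith

theorem FrQ.relIndex_le {M : Subgroup Γ} (k : FrQ r M) (t : M ≠ ⊤) {f : G →* Γ} (hf : Function.Surjective f)
    {θ : M.comap f → ℂ} (a : Irr _ θ) (h : ∀ d ∈ cds G, d ≤ dg θ) : f.ker.relIndex (M.comap f) ≤ dg θ ^ 2 := by
  haveI := k.nr
  refine index_le_of_vanish a fun n hn => by_contra fun h0 => ?_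
  have i : ∀ l : M →* ℂˣ, inertia (θ * lf (l.comp (f.subgroupComap M))) = ⊤ := fun l => by
    haveI := Fintype.ofFinite G
    obtain ⟨χ, c, e⟩ := ext_of_max (a.mul_lf (l.comp (f.subgroupComap M))) (by
      rwa [dg_mul a.isCharacter (lf_ch _), dg_lf, mul_one])
    rw [← e]; exact inertia_res c.isClassFunction
  obtain ⟨y, -, hy⟩ := SetLike.exists_of_lt t.lt_top
  obtain ⟨x, rfl⟩ := hf y
  refine hy (k.cn _ n.2 hn (mem_cen1.2 (mul_inv_eq_iff_eq_mul.1 (by_contra fun e => ?_))))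
  obtain ⟨l, hl⟩ := exists_lin_ne_one (G := M) (g := ⟨f x * f n * (f x)⁻¹, k.nr.conj_mem _ n.2 _⟩ * (⟨f n, n.2⟩ : M)⁻¹) (by
    rw [der_eq_bot_iff.2 fun a b => Subtype.ext (k.comm _ a.2 _ b.2), mem_bot, mul_inv_eq_one]
    exact fun k => e (congrArg Subtype.val k))
  have := k.inv (l := l) (l' := 1) (x := x) (i l ▸ mem_top x) (i 1 ▸ mem_top x) n h0
  rw [div_one] at this
  exact hl (by rw [map_mul, map_inv, this, mul_inv_cancel])

theorem MinNA.five_le (M : MinNA G) (s : ¬ Group.IsSolvable G) (h : ∀ d ∈ cds G, d ≤ b) : 5 ≤ b := by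
  by_contra! l
  refine s (burnside_pq (a := Nat.card G) (b := Nat.card G) Nat.prime_two Nat.prime_three
    ((Nat.dvd_iff_prime_pow_dvd_dvd _ _).2 fun p k hp d => ?_))
  have k0 : k ≤ Nat.card G := (Nat.lt_pow_self hp.one_lt).le.trans (Nat.le_of_dvd Nat.card_pos d)
  by_cases p2 : p = 2
  · exact p2 ▸ (pow_dvd_pow p k0).mul_right _
  by_cases p3 : p = 3
  · exact p3 ▸ (pow_dvd_pow p k0).mul_left _
  haveI := Fact.mk hp
  let P : Sylow p G := default
  have p5 : 5 ≤ p := hp.five_le_of_ne_two_of_ne_three p2 p3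
  have q : ∀ χ, Irr G χ → dg χ < p := fun χ a => (h _ (mem_cds a)).trans_lt (by omega)
  by_cases e : (P : Subgroup G) = ⊥
  · have := P.pow_dvd_card_of_pow_dvd_card d
    rw [e, card_bot, Nat.dvd_one] at this
    exact this ▸ one_dvd _
  · have l := M.le P (syl_normal_of_lt q P) e
    have c := comm_of_pgroup_lt q P.isPGroup'
    exact absurd (H1B.solv_top.1 (solv_of_comm_solv (solv_of_comm (isComm_iff'.2 fun x hx y hy =>
      c x (l hx) y (l hy))))) s

omit [Finite G] in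
theorem MinNA.core_cen (M : MinNA G) (s : ¬ Group.IsSolvable G) {a : G} (a1 : a ≠ 1) [N.Normal] (l : N ≤ cen1 a) :
    N = ⊥ := by
  by_contra c
  have l1 : a ∈ cen (commutator G) := le_cen1_iff.1 ((M.le N inferInstance c).trans l)
  have l2 := M.le (cen (commutator G)) inferInstance fun e => a1 (by rwa [e, mem_bot] at l1)
  exact s (H1B.solv_top.1 (solv_of_comm_solv (solv_of_comm (isComm_iff.2 l2))))

theorem fact_half (b : ℕ) : b ! * (b / 2)! ^ 2 ≤ b ! ^ 2 := by
  rw [sq b !, sq]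
  refine Nat.mul_le_mul_left _ (le_trans (Nat.mul_le_mul_left _ (Nat.factorial_le (by omega : b / 2 ≤ b - b / 2)))
    (Nat.le_of_dvd b.factorial_pos (Nat.factorial_mul_factorial_dvd_factorial (Nat.div_le_self b 2))))

theorem fact_three (h : 3 ≤ b) : b ^ 3 * (b / 2)! ^ 2 ≤ b ! ^ 2 := by
  obtain ⟨c, rfl⟩ := Nat.exists_eq_add_of_le' h
  rw [Nat.factorial_succ, Nat.factorial_succ, ← mul_assoc, mul_pow]
  exact Nat.mul_le_mul (by nlinarith [Nat.zero_le (c ^ 4), Nat.zero_le (c ^ 3), Nat.zero_le (c ^ 2)])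
    (Nat.pow_le_pow_left (Nat.factorial_le (by omega)) 2)

theorem fact_five (h : 5 ≤ b) : b ^ 4 * (b / 2)! ^ 2 ≤ b ! ^ 2 := by
  obtain ⟨c, rfl⟩ := Nat.exists_eq_add_of_le' h
  rw [Nat.factorial_succ, Nat.factorial_succ, Nat.factorial_succ, ← mul_assoc, ← mul_assoc, mul_pow,
    show 4 = 2 * 2 from rfl, pow_mul]
  exact Nat.mul_le_mul (Nat.pow_le_pow_left (by nlinarith [Nat.zero_le (c ^ 3), Nat.zero_le (c ^ 2)]) 2)
    (Nat.pow_le_pow_left (Nat.factorial_le (by omega)) 2)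

theorem bg_step [K.Normal] (M : MinNA (G ⧸ K)) (h : ∀ d ∈ cds G, d ≤ b) :
    K.index * (b / 2)! ^ 2 ≤ b ! ^ 2 ∨ ∃ L : Subgroup G, L.index ≤ b ^ 2 ∧ ∀ d ∈ cds L, d < b := by
  have s := QuotientGroup.mk'_surjective K
  have hq : ∀ d ∈ cds (G ⧸ K), d ≤ b := fun d hd => h d (cds_quot K hd)
  have up : ∀ (L : Subgroup G) (θ : L → ℂ), Irr L θ → dg θ ≤ b := fun L θ a => by
    obtain ⟨χ, c, l⟩ := exists_over_le a
    exact l.trans (h _ (mem_cds c))
  rw [or_iff_not_imp_right]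
  intro c
  have c' : ∀ L : Subgroup G, L.index ≤ b ^ 2 → ∃ θ, Irr L θ ∧ dg θ = b := fun L l => by
    by_contra! k
    exact c ⟨L, l, fun _ ⟨θ, e⟩ => e ▸ lt_of_le_of_ne (up L _ θ.2) (k _ θ.2)⟩
  by_cases sv : Group.IsSolvable (G ⧸ K)
  · rcases M.cases with ⟨z, -⟩ | ⟨r, hr, t⟩
    · obtain ⟨β, a, d, -, i, g⟩ := M.cen_case z s
      exact absurd ⟨_, i ▸ Nat.pow_le_pow_left (h _ (mem_cds a)) 2, fun _ ⟨θ, e⟩ => e ▸ dg_lt_of_gal a d g h θ.2⟩ c
    haveI := Fact.mk hr
    have nt : commutator (G ⧸ K) ≠ ⊤ := fun e => M.ne (eq_top_iff.1 e |>.antisymm' le_top ▸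
      eq_bot_of_solv_of_perfect inferInstance e)
    have i := (t.weak s isIrrCharacter_one).resolve_right (by
      rw [dg_eq (n := 1) (by simp)]; exact hr.one_lt.ne' ∘ Nat.dvd_one.1)
    rw [dg_eq (n := 1) (by simp), mul_one] at i
    have i1 := h _ i
    have i2 : (commutator (G ⧸ K)).index ≠ 1 := fun e => nt (index_eq_one.1 e)
    have i3 := (commutator (G ⧸ K)).index_ne_zero_of_finite
    have i4 := index_comap_of_surjective (commutator (G ⧸ K)) s
    obtain ⟨θ, a, e⟩ := c' _ (i4 ▸ i1.trans (Nat.le_self_pow two_ne_zero b))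
    have l := t.relIndex_le nt s a (e ▸ h)
    rw [QuotientGroup.ker_mk', e] at l
    have b3 : 3 ≤ b := by
      by_contra! k
      obtain rfl : b = 2 := by omega
      rcases t.weak s a with w | w
      · have := h _ w
        rw [e] at this; omega
      · exact t.not_dvd (by rwa [e, ← show (commutator (G ⧸ K)).index = 2 by omega] at w)
    refine le_trans (Nat.mul_le_mul_right _ ?_) (fact_three b3)
    rw [← relIndex_mul_index ((QuotientGroup.ker_mk' K).ge.trans (ker_le_comap _ (commutator (G ⧸ K)))), i4, pow_succ]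
    exact Nat.mul_le_mul l i1
  by_cases ab : ∀ B : Subgroup (G ⧸ K), (∀ x ∈ B, ∀ y ∈ B, x * y = y * x) → ord B ≤ b
  · exact le_trans (Nat.mul_le_mul_right _ (Nat.le_of_dvd b.factorial_pos (card_dvd_fact ab))) (fact_half b)
  push Not at ab
  obtain ⟨B, cB, l⟩ := ab
  obtain ⟨a, a1, i⟩ := exists_big_cen cB hq l
  rw [← index_comap_of_surjective _ s] at i
  set L := (cen1 a).comap (QuotientGroup.mk' K) with hL
  obtain ⟨θ, u, e⟩ := c' L i
  haveI := Fintype.ofFinite L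
  have co : L.normalCore ≤ K := by
    haveI := Subgroup.Normal.map (inferInstance : L.normalCore.Normal) _ s
    rw [← QuotientGroup.ker_mk' K, ← Subgroup.map_eq_bot_iff]
    exact M.core_cen sv a1 (map_le_iff_le_comap.2 (normalCore_le L))
  have v := index_le_of_vanish (H := K.subgroupOf L) u fun x hx => by_contra fun h0 =>
    hx (co (core_of_max u (fun χ c _ => e ▸ h _ (mem_cds c)) x h0))
  refine le_trans (Nat.mul_le_mul_right _ ?_) (fact_five (M.five_le sv hq))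
  rw [← relIndex_mul_index ((QuotientGroup.ker_mk' K).ge.trans (ker_le_comap _ (cen1 a))), show 4 = 2 + 2 from rfl, pow_add]
  exact Nat.mul_le_mul (e ▸ v) i

/-- Isaacs 12.23 -/
theorem bg_index (b : ℕ) : ∀ (G : Type u) [Group G] [Finite G], (∀ d ∈ cds G, d ≤ b) →
    ∃ A : Subgroup G, (∀ x ∈ A, ∀ y ∈ A, x * y = y * x) ∧ A.index ≤ b ! ^ 2 := by
  induction b using Nat.strong_induction_on with
  | _ b ih =>
  intro G _ _ h
  by_cases n : commutator G = ⊥
  · exact ⟨⊤, fun x _ y _ => der_eq_bot_iff.1 n x y, by rw [index_top]; exact Nat.one_le_pow _ _ b.factorial_pos⟩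
  have b0 : 1 ≤ b := h 1 one_mem_cds
  have key : ∀ (L : Subgroup G) (c : ℕ), c < b → (∀ d ∈ cds L, d ≤ c) → L.index * c ! ^ 2 ≤ b ! ^ 2 →
      ∃ A : Subgroup G, (∀ x ∈ A, ∀ y ∈ A, x * y = y * x) ∧ A.index ≤ b ! ^ 2 := fun L c l k i => by
    obtain ⟨A, a1, a2⟩ := ih c l L k
    refine ⟨A.map L.subtype, ?_, ?_⟩
    · rintro _ ⟨x, hx, rfl⟩ _ ⟨y, hy, rfl⟩
      rw [← map_mul, ← map_mul, a1 x hx y hy]
    · rw [index_map_subtype, mul_comm]
      exact (Nat.mul_le_mul_left _ a2).trans i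
  obtain ⟨K, _, -, M⟩ := exists_minNA (G := G) ⊥ fun e => n (eq_bot_iff.2 e)
  rcases bg_step M h with i | ⟨L, i, k⟩
  · exact key K (b / 2) (by omega) (two_mul_dg_le M.ne h) i
  · refine key L (b - 1) (by omega) (fun d hd => Nat.le_sub_one_of_lt (k d hd)) ?_
    rw [← Nat.mul_factorial_pred (by omega : b ≠ 0), mul_pow]
    exact Nat.mul_le_mul_right _ i

end H2
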