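import Cfsg.Agent.H2.Cd5
import Cfsg.Agent.H2.Cd6
import Cfsg.Agent.H3.Iso

/-! Character degrees: solvable quotients; groups with prime degrees. -/

set_option autoImplicit false
set_option maxSynthPendingDepth 3

open Cfsg H7 H3 Subgroup
open scoped ComplexConjugate commutatorElement

namespace H2

universe u
variable {G Γ : Type*} [Group G] [Group Γ] {H K N P Y : Subgroup G} {χ ψ α : G → ℂ} {r b p : ℕ}
variable [Finite G] [Finite Γ]

theorem solv_cases [Group.IsSolvable G] (n : commutator G ≠ ⊥) : ∃ r f, r.Prime ∧ f ∈ cds G ∧ f ≠ 1 ∧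
    ∀ d ∈ cds G, ∃ e t, d = e * t ∧ e ∣ f ∧ (f * t ∈ cds G ∨ r ∣ t) := by
  obtain ⟨K, _, -, M⟩ := exists_minNA (G := G) ⊥ fun e => n (eq_bot_iff.2 e)
  have s := QuotientGroup.mk'_surjective K
  haveI := Fintype.ofFinite G
  rcases M.cases with ⟨z, p, hp, t⟩ | ⟨r, hr, t⟩
  · haveI := Fact.mk hp
    obtain ⟨β, a, d, v, i, g⟩ := M.cen_case z s
    obtain ⟨k, hk⟩ := IsPGroup.iff_card.1 t
    refine ⟨p, _, hp, mem_cds a, d, fun _ ⟨⟨ψ, c⟩, e⟩ => ⟨1, _, (one_mul _).symm, one_dvd _, (em _).symm.imp_left fun o => ?_⟩⟩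
    subst e
    rw [← dg_mul a.isCharacter c.isCharacter]
    exact mem_cds (g ψ c.isCharacter (res_irr_of_coprime c (i ▸
      ((((hp.coprime_iff_not_dvd.2 o).pow_left k).coprime_dvd_left (hk ▸ v)).pow_left 2))))
  haveI := Fact.mk hr
  have i := (t.weak s isIrrCharacter_one).resolve_right (by
    rw [dg_eq (n := 1) (by simp)]; exact hr.one_lt.ne' ∘ Nat.dvd_one.1)
  rw [dg_eq (n := 1) (by simp), mul_one] at i
  refine ⟨r, _, hr, i, fun e => M.ne (eq_top_iff.1 (index_eq_one.1 e) |>.antisymm' le_top ▸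
    eq_bot_of_solv_of_perfect inferInstance (index_eq_one.1 e)), fun _ ⟨⟨ψ, c⟩, e⟩ => ?_⟩
  haveI := Fintype.ofFinite ((commutator (G ⧸ K)).comap (QuotientGroup.mk' K))
  obtain ⟨θ, a, o⟩ := exists_irr_under ((commutator (G ⧸ K)).comap (QuotientGroup.mk' K)) c
  obtain ⟨j, j1, j2⟩ := dg_eq_mul' a c o
  exact ⟨j, _, e ▸ j2, index_comap_of_surjective _ s ▸ j1, t.weak s a⟩

theorem pd_syl [hp : Fact p.Prime] (a : Irr G χ) (d : dg χ = p) (z : charCenter χ = ⊥) (P : Sylow p G) :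
    ord (P : Subgroup G) = p := by
  haveI := Fintype.ofFinite G
  haveI := Fintype.ofFinite (P : Subgroup G)
  set Z := (P : Subgroup G) ⊓ cen P with hZ
  haveI := Fintype.ofFinite Z
  have p1 : (P : Subgroup G) ≠ ⊥ := P.ne_bot_of_dvd_card (d ▸ a.dg_dvd)
  have z1 : Z ≠ ⊥ := pgroup_inf_cen_ne_bot' P.isPGroup' P.isPGroup' (le_nrm_self _) p1
  have v : ∀ x ∈ Z, x ≠ 1 → χ x = 0 := fun x hx x1 => (a.eq_zero_or_norm_eq (d ▸ a.deg) x
    (hp.out.coprime_iff_not_dvd.2 fun e => P.not_dvd_index (e.trans (index_dvd_of_le (le_cen1_iff.2 hx.2))))).resolve_right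
      fun e => x1 (mem_bot.1 (z ▸ a.isCharacter.mem_charCenter.2 (by rw [e, a.deg, d, Complex.norm_natCast])))
  have o := card_mul_inner_of_supp v
  obtain ⟨k, hk⟩ := (a.isCharacter.res Z).inner_nat isCharacter_one
  rw [hk, a.deg, d] at o
  have oz : ord Z = p := ((Nat.dvd_prime hp.out).1 ⟨k, by exact_mod_cast o.symm⟩).resolve_left fun e => z1 (card_eq_one.1 e)
  suffices (P : Subgroup G) ≤ cen P by rwa [hZ, inf_eq_left.2 this] at oz
  obtain ⟨j, hj⟩ := IsPGroup.iff_card.1 P.isPGroup'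
  rw [← isComm_iff, isComm_iff']
  intro x hx y hy
  have := (a.isCharacter.res P).eq_deg_of_constituents (g := ⁅(⟨x, hx⟩ : (P : Subgroup G)), ⟨y, hy⟩⁆) fun θ c e => by
    refine c.isCharacter.commutator_of_deg_one (c.isCharacter.dg_eq_one.1 (by_contra fun n => ?_))
      (commutator_mem_commutator (mem_top _) (mem_top _))
    obtain ⟨_ | i, -, ei⟩ := (Nat.dvd_prime_pow hp.out).1 (hj ▸ c.dg_dvd)
    · exact n ei
    obtain rfl := res_eq_of_le a.isCharacter c e (by rw [d, ei]; exact Nat.le_self_pow i.succ_ne_zero p)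
    obtain ⟨⟨w, hw⟩, w1⟩ := ne_bot_iff_exists_ne_one.1 z1
    have := c.isCharacter.mem_charCenter.1 (c.center_le_charCenter (show (⟨w, hw.1⟩ : (P : Subgroup G)) ∈ center _ from
      mem_center_iff.2 fun g => Subtype.ext (mem_cen.1 hw.2 g g.2)))
    exact w1 (Subtype.ext (mem_bot.1 (z ▸ a.isCharacter.mem_charCenter.2 this)))
  exact commutatorElement_eq_one_iff_mul_comm.1 (mem_bot.1 (z ▸ charKer_le_charCenter χ (a.isCharacter.mem_charKer.2 this)))

theorem card_lt_of_vanish (a : Ch G χ) (z : charCenter χ = ⊥) (c : ∀ x ∈ H, ∀ y ∈ H, x * y = y * x) (l : Y ≤ H)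
    (n : Y ≠ ⊥) (v : ∀ x ∈ H, x ∉ Y → χ x = 0) : ord H < ord Y * dg χ := by
  classical
  haveI := Fintype.ofFinite H
  haveI := Fintype.ofFinite (Y.subgroupOf H)
  have h0 := dg_le_inner (fun x y : H => Subtype.ext (c _ x.2 _ y.2)) (a.res H)
  have h1 := congrArg Complex.re ((inner_res_self_eq_iff (Y.subgroupOf H) χ↾H).2 fun g hg => v g g.2 hg)
  have h2 := card_mul_inner_self_re fun g : Y.subgroupOf H => χ g
  obtain ⟨⟨w, hw⟩, w1⟩ := ne_bot_iff_exists_ne_one.1 n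
  have h3 : ∑ g : Y.subgroupOf H, ‖χ g‖ ^ 2 < ∑ _g : Y.subgroupOf H, (dg χ : ℝ) ^ 2 := Finset.sum_lt_sum
    (fun g _ => pow_le_pow_left₀ (norm_nonneg _) (a.norm_le' a.deg g) 2) ⟨⟨⟨w, l hw⟩, hw⟩, Finset.mem_univ _,
      pow_lt_pow_left₀ (lt_of_le_of_ne (a.norm_le' a.deg w) fun e => w1 (Subtype.ext (mem_bot.1
        (z ▸ a.mem_charCenter.2 (by rw [e, a.deg, Complex.norm_natCast]))))) (norm_nonneg _) two_ne_zero⟩
  rw [Finset.sum_const, nsmul_eq_mul, Finset.card_univ, ← Nat.card_eq_fintype_card, ← h2, h1, Complex.mul_re, Complex.natCast_re,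
    Complex.natCast_im, zero_mul, sub_zero,
    ← mul_assoc, ← Nat.cast_mul, card_mul_index, card_subgroupOf_of_le l] at h3
  rw [dg_res] at h0
  have h4 : (ord H : ℝ) * dg χ < ord Y * dg χ * dg χ := by
    rw [mul_assoc, ← sq]; exact lt_of_le_of_lt (by gcongr) h3
  exact_mod_cast lt_of_mul_lt_mul_right h4 (Nat.cast_nonneg _)

theorem pd_cen [hp : Fact p.Prime] (a : Irr G χ) (d : dg χ = p) (z : charCenter χ = ⊥) (P : Sylow p G)
    {x : G} (hx : x ∈ (P : Subgroup G)) (x1 : x ≠ 1) : cen1 x ≤ P := by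
  have o := pd_syl a d z P
  have e : zpowers x = P := eq_of_le_of_card_p o (zpowers_le.2 hx) (by simpa)
  have cP : IsMulCommutative (P : Subgroup G) := e ▸ isComm_zpowers x
  refine (P.is_maximal' (H1B.pgroup_of_forall fun q hq dq => by_contra fun n => ?_) ?_).le
  swap
  · rw [← cen_zpowers, e]; exact isComm_iff.1 cP
  haveI := Fact.mk hq
  obtain ⟨⟨y, hy⟩, oy⟩ := exists_prime_orderOf_dvd_card' q dq
  rw [orderOf_mk] at oy
  have l : (P : Subgroup G) ≤ cen (zpowers y) := by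
    rw [← e, cen_zpowers, zpowers_le]; exact mem_cen1_comm.1 hy
  have c := isComm_iff'.1 (isComm_sup cP (isComm_zpowers y) l)
  obtain ⟨k, hk⟩ := card_subgroup_dvd_card (P : Subgroup G)
  have := card_lt_of_vanish a.isCharacter z c le_sup_right (fun f => hq.ne_one (by
    rw [← oy, orderOf_eq_one_iff, ← zpowers_eq_bot, f])) fun g hg gy =>
      a.eq_zero_of_defect hp.out ((d.trans o.symm) ▸ (P : Subgroup G).index_mul_card) P.not_dvd_index (by_contra fun m => by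
        obtain ⟨u, hu, w, hw, rfl⟩ := (mem_sup_nrm (le_nrm_of_le_cen l)).1 hg
        refine gy (mem_of_pow_cop (hp.out.coprime_iff_not_dvd.2 m) ?_ (by rw [pow_orderOf_eq_one]; exact one_mem _))
        rw [Commute.mul_pow (c u (mem_sup_left hu) w (mem_sup_right hw)),
          show u ^ p = 1 from o ▸ congrArg Subtype.val (pow_card_eq_one' (x := (⟨u, hu⟩ : (P : Subgroup G)))), one_mul]
        exact pow_mem hw p)
  rw [Nat.card_zpowers, oy, d] at this
  exact this.not_ge (Nat.le_of_dvd (card_pos' _) (((Nat.coprime_primes hq hp.out).2 n).mul_dvd_of_dvd_of_dvd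
    (by rw [← oy, ← Nat.card_zpowers]; exact card_dvd_of_le le_sup_right) (o.symm.dvd.trans (card_dvd_of_le le_sup_left))))

/-- exceptional characters for a self-centralizing subgroup of prime order -/
theorem exc_deg [hp : Fact p.Prime] (o : ord P = p) (c : ∀ x ∈ P, x ≠ 1 → cen1 x ≤ P) :
    ∃ q, ∀ χ, Irr G χ → dg χ = q ∨ P ≤ charKer χ ∨ p - 1 ≤ dg χ := by
  classical
  haveI := Fintype.ofFinite G
  haveI := Fintype.ofFinite P
  set N := nrm P with hN
  haveI := Fintype.ofFinite N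
  have l : P ≤ N := le_normalizer
  haveI := Fintype.ofFinite (P.subgroupOf N)
  have cP : ∀ x y : P, x * y = y * x := fun x y => by
    haveI := isCyclic_of_prime_card o
    exact IsCyclic.commGroup.mul_comm x y
  have ti : ∀ x, ∀ a ∈ (P : Set G) \ {1}, x * a * x⁻¹ ∈ (P : Set G) \ {1} → x ∈ N := fun x a ha hb => by
    have e : zpowers a = P := eq_of_le_of_card_p o (zpowers_le.2 ha.1) (by simpa using ha.2)
    refine mem_normalizer_fintype fun y hy => ?_
    obtain ⟨k, rfl⟩ := e.ge hy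
    rw [← conj_zpow]; exact zpow_mem hb.1 k
  let F : (P → ℂ) → N → ℂ := fun θ => indFun (P.subgroupOf N) (toSub N θ)
  have F1 : ∀ θ, Irr P θ → θ ≠ (fun _ => 1) → Irr N (F θ) := fun θ a n =>
    isIrr_indFun_of_inertia_le (a.toSub l) (inertia_le_of_centralizer_le (N := P.subgroupOf N) (fun x hx x1 y hy =>
      c x hx (fun e => x1 (Subtype.ext e)) (mem_cen1.2 (congrArg Subtype.val (mem_cen1.1 hy :)))) (a.toSub l) fun e =>
        n (funext fun x => congrFun e ⟨⟨x, l x.2⟩, x.2⟩))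
  have F2 : ∀ θ, Irr P θ → F θ 1 = (P.subgroupOf N).index := fun θ a => by
    exact (indFun_one _ _).trans ((congrArg _ (a.deg_eq_one_of_comm cP)).trans (mul_one _))
  have F3 : ∀ θ η, Irr P θ → Irr P η → ∀ x : N, (x : G) ∉ (P : Set G) \ {1} → (F θ - F η) x = 0 := fun θ η a b x hx => by
    by_cases e : x = 1
    · rw [e, Pi.sub_apply, F2 θ a, F2 η b, sub_self]
    · have : x ∉ P.subgroupOf N := fun m => hx ⟨m, fun f => e (Subtype.ext f)⟩
      exact sub_eq_zero.2 ((indFun_eq_zero_of_not_mem _ _ this).trans (indFun_eq_zero_of_not_mem _ _ this).symm)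
  have cd : Fintype.card (IrrCharacter P) = p := by
    rw [← o, ← sum_dg_sq, Finset.sum_congr rfl fun θ _ => by
      rw [θ.2.isCharacter.dg_eq_one.2 (θ.2.deg_eq_one_of_comm cP), one_pow]]
    simp
  obtain ⟨⟨θ₀, a₀⟩, n₀⟩ := Fintype.exists_ne_of_one_lt_card (α := IrrCharacter P) (cd.symm ▸ hp.out.one_lt) ⟨_, isIrrCharacter_one⟩
  replace n₀ : θ₀ ≠ fun _ => 1 := fun e => n₀ (Subtype.ext e)
  let ι := {φ : N → ℂ // ∃ θ, Irr P θ ∧ θ ≠ (fun _ => 1) ∧ φ = F θ}
  have I : ∀ φ : ι, Irr N φ.1 := fun ⟨_, θ, a, n, e⟩ => e ▸ F1 θ a n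
  have J : ∀ φ φ' : ι, ip (indFun N (φ.1 - F θ₀)) (indFun N (φ'.1 - F θ₀)) = ip (φ.1 - F θ₀) (φ'.1 - F θ₀) := by
    rintro ⟨_, θ, a, n, rfl⟩ ⟨_, η, b, m, rfl⟩
    exact congrArg Complex.re (inner_indFun_of_TI_set ti
      ((F1 η b m).isClassFunction.sub (F1 θ₀ a₀ n₀).isClassFunction) (F3 _ _ a a₀) (F3 _ _ b a₀))
  obtain ⟨ε, e0, μ, m1, -, m2⟩ := exists_sign_irr_of_gram (⟨F θ₀, θ₀, a₀, n₀, rfl⟩ : ι) (fun φ => indFun N (φ.1 - F θ₀))
    (by simp [indFun_zero]) (fun φ => (show IsGeneralizedCharacter N (φ.1 - F θ₀) from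
      ⟨_, _, (I φ).isCharacter, (F1 θ₀ a₀ n₀).isCharacter, rfl⟩).ind)
    (fun ⟨_, θ, a, n, e⟩ => by subst e; rw [indFun_one, F3 _ _ a a₀ 1 (by simp), mul_zero])
    (fun φ h => by
      have : φ.1 ≠ F θ₀ := fun e => h (Subtype.ext e)
      rw [J, ip_sub_sub_irr (I φ) (F1 θ₀ a₀ n₀) (I φ) (F1 θ₀ a₀ n₀)]; simp [this, this.symm]; norm_num)
    (fun φ φ' h h' h'' => by
      have h1 : φ.1 ≠ F θ₀ := fun e => h (Subtype.ext e)
      have h2 : φ'.1 ≠ F θ₀ := fun e => h' (Subtype.ext e)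
      have h3 : φ.1 ≠ φ'.1 := fun e => h'' (Subtype.ext e)
      rw [J, ip_sub_sub_irr (I φ) (F1 θ₀ a₀ n₀) (I φ') (F1 θ₀ a₀ n₀)]; simp [h1, h2.symm, h3])
  replace e0 : ε ≠ 0 := by rcases e0 with rfl | rfl <;> simp
  refine ⟨dg (μ ⟨F θ₀, θ₀, a₀, n₀, rfl⟩), fun χ a => or_iff_not_imp_left.2 fun dq => or_iff_not_imp_left.2 fun nk => ?_⟩
  choose k hk using fun θ : IrrCharacter P => (a.isCharacter.res P).inner_nat θ.2.isCharacter
  have key : ∀ θ : IrrCharacter P, θ.1 ≠ (fun _ => 1) → k θ = k ⟨θ₀, a₀⟩ := fun ⟨θ, b⟩ n => by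
    have e := m2 ⟨F θ, θ, b, n, rfl⟩
    have e1 := congrFun e 1
    rw [indFun_one, F3 _ _ b a₀ 1 (by simp), mul_zero, Pi.smul_apply, smul_eq_mul, eq_comm, mul_eq_zero,
      or_iff_right e0, Pi.sub_apply, sub_eq_zero] at e1
    have e2 := congrArg (fun f => ⟪χ, f⟫) e
    simp only [H3.inner_smul_right, H3.inner_sub_right, indFun_sub] at e2
    rw [a.inner_of_ne (m1 _) fun f => dq (by rw [f]; exact dg_congr e1), a.inner_of_ne (m1 _) fun f => dq (by rw [← f]), sub_self,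
      mul_zero, sub_eq_zero] at e2
    have e3 : ∀ η : P → ℂ, indFun N (F η) = indFun P η := fun η => indFun_trans_subgroupOf P N l η
    rw [e3, e3, inner_indFun_right _ _ a.isClassFunction, inner_indFun_right _ _ a.isClassFunction,
      hk ⟨θ, b⟩, hk ⟨θ₀, a₀⟩] at e2
    exact_mod_cast e2
  have k0 : k ⟨θ₀, a₀⟩ ≠ 0 := fun e => nk fun x hx => a.isCharacter.mem_charKer.2
    ((a.isCharacter.res P).eq_deg_of_constituents (g := ⟨x, hx⟩) fun θ b o => by
      rw [show θ = fun _ => 1 from by_contra fun n => o (by rw [hk ⟨θ, b⟩, key ⟨θ, b⟩ n, e, Nat.cast_zero])])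
  have := (a.isCharacter.res P).isClassFunction.apply_eq_sum 1
  simp only [hk, fun θ : IrrCharacter P => θ.2.deg_eq_one_of_comm cP, mul_one, OneMemClass.coe_one, a.deg] at this
  have e : dg χ = ∑ θ : IrrCharacter P, k θ := by exact_mod_cast this
  rw [e, ← cd, ← Finset.card_univ, ← Finset.card_erase_of_mem (Finset.mem_univ ⟨_, isIrrCharacter_one⟩),
    Finset.card_eq_sum_ones]
  exact (Finset.sum_le_sum fun θ hθ => key θ (fun f => (Finset.mem_erase.1 hθ).1 (Subtype.ext f)) ▸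
    Nat.pos_of_ne_zero k0).trans (Finset.sum_le_sum_of_subset (Finset.erase_subset _ _))

theorem prime_deg_simple [IsSimpleGroup G] (h : ∀ d ∈ cds G, d = 1 ∨ d.Prime) : Group.IsSolvable G := by
  by_contra s
  have M : MinNA G := ⟨fun e => s (H1B.solv_top.1 (solv_of_comm (isComm_iff'.2 fun x _ y _ => der_eq_bot_iff.1 e x y))),
    fun N n c => (n.eq_bot_or_eq_top.resolve_left c).symm ▸ le_top⟩
  obtain ⟨_, ⟨⟨χ, a⟩, rfl⟩, m⟩ := Set.exists_max_image (cds G) id cds_finite ⟨1, one_mem_cds⟩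
  replace m : ∀ d ∈ cds G, d ≤ dg χ := m
  have p5 := M.five_le s m
  haveI := Fact.mk ((h _ (mem_cds a)).resolve_left (by omega))
  have z : charCenter χ = ⊥ := a.isClassFunction.charCenter_normal.eq_bot_or_eq_top.resolve_right fun e => by
    have := a.isCharacter.dg_eq_one.2 (a.deg_eq_one_of_charCenter e); omega
  let P : Sylow (dg χ) G := default
  obtain ⟨q, k⟩ := exc_deg (pd_syl a rfl z P) fun x => pd_cen a rfl z P
  have := three_der _ G rfl (dg χ) q fun _ ⟨⟨ψ, b⟩, e⟩ => by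
    subst e
    rcases k ψ b with e | e | e
    · exact Or.inr (Or.inr e)
    · exact Or.inl (by_contra fun n => P.ne_bot_of_dvd_card a.dg_dvd (eq_bot_iff.2 (M.faithful b n ▸ e)))
    · refine Or.inr (Or.inl (le_antisymm (m _ (mem_cds b)) (by_contra fun n => ?_)))
      have e1 : dg χ = dg ψ + 1 := by change ¬ dg χ ≤ dg ψ at n; omega
      have o1 := (Fact.out : (dg χ).Prime).eq_two_or_odd
      have o2 := ((h _ (mem_cds b)).resolve_left (by omega)).eq_two_or_odd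
      omega
  exact s ⟨⟨3, this⟩⟩

/-- Isaacs 14.19 -/
theorem prime_deg_solv {G : Type u} [Group G] [Finite G] (h : ∀ d ∈ cds G, d = 1 ∨ d.Prime) : Group.IsSolvable G :=
  isSolvable_of_simple (fun H _ _ => ∀ d ∈ cds H, d = 1 ∨ d.Prime)
    (fun _ _ _ _ _ h _ ⟨θ, e⟩ => by
      obtain ⟨χ, a, d⟩ := exists_over_dvd θ.2
      rw [e] at d
      rcases h _ (mem_cds a) with f | f
      · exact Or.inl (Nat.dvd_one.1 (f ▸ d))
      · exact ((Nat.dvd_prime f).1 d).imp_right fun g => by rwa [g])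
    (fun _ _ _ N _ h d hd => h d (cds_quot N hd)) (fun _ _ _ _ => prime_deg_simple) G h

end H2
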