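import Cfsg.Agent.H2.Cd4
import Cfsg.Agent.H3.Cliff2

/-! Degrees divisible by `p`; irreducible products of Galois conjugates. -/

set_option autoImplicit false
set_option maxSynthPendingDepth 3

open Cfsg H7 H3 Subgroup
open scoped ComplexConjugate commutatorElement

namespace H2

universe u
variable {G Γ : Type*} [Group G] [Group Γ] {H K N P E : Subgroup G} {χ ψ α : G → ℂ} {r b p : ℕ}
variable [Finite G] [Finite Γ]

theorem inv_case [hp : Fact p.Prime] [N.Normal] (t : IsPGroup p N) {l : N →* ℂˣ} (i : inertia (lf l) = ⊤)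
    (h : ∀ ψ, Irr G ψ → Lov l ψ → ¬ p ∣ dg ψ) {β : G → ℂ} (b : Irr G β) (k : ∀ n ∈ N, β n = β 1) : ¬ p ∣ dg β := by
  haveI := Fintype.ofFinite G
  haveI := Fintype.ofFinite N
  obtain ⟨ψ, a, v⟩ := exists_lov i
  obtain ⟨j, hj⟩ := IsPGroup.iff_card.1 t
  obtain ⟨μ, e⟩ := mem_extLin.1 (mem_of_pow_of_pow (extLin N) ((hp.out.coprime_iff_not_dvd.2 (h ψ a v)).pow_left j)
    (by rw [orderOf_dvd_iff_pow_eq_one.1 (hj ▸ orderOf_lin_dvd_card l)]; exact one_mem _)
    (mem_extLin.2 ⟨dt ψ, fun n => by rw [← a.isCharacter.dt_res, v.res, a.deg, (lf_ch l).dt_nsmul, dt_lf]⟩))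
  have := h _ (b.mul_lf μ) fun n x => by
    rw [Pi.mul_apply, Pi.mul_apply, b.isCharacter.mul_of_eq_deg (k n n.2), lf_apply, lf_apply, map_mul, e, Units.val_mul]
    ring
  rwa [dg_mul b.isCharacter (lf_ch μ), dg_lf, mul_one] at this

theorem der_le_of_rel [hp : Fact p.Prime] [N.Normal] (s : H1.PiSep {p} G) (t : IsPGroup p N) (n : N ≠ ⊥)
    (c : ∀ a ∈ N, ∀ b ∈ N, a * b = b * a) (tP : IsPGroup p P) (l : N ≤ P)
    (h : ∀ χ, Irr G χ → p ∣ dg χ → ∀ n ∈ N, χ n = χ 1) : ⁅P, P⁆ ≤ N := by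
  haveI := Fintype.ofFinite G
  haveI := Fintype.ofFinite N
  obtain ⟨g, hg, g1⟩ := SetLike.exists_of_lt (nilp_comm_lt tP.isNilpotent l le_normalizer_of_normal n)
  have cN : ∀ a b : N, a * b = b * a := fun a b => Subtype.ext (c _ a.2 _ b.2)
  haveI : (⁅N, P⁆.subgroupOf N).Normal := ⟨fun x hx y => by rwa [cN y x, mul_inv_cancel_right]⟩
  obtain ⟨θ, a, k, d⟩ := exists_irr_ker_not_mem (⁅N, P⁆.subgroupOf N) (g := ⟨g, hg⟩) g1
  obtain ⟨μ, rfl⟩ := a.isCharacter.exists_lf (a.deg_eq_one_of_comm cN)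
  have pT : P ≤ inertia (lf μ) := fun x hx => mem_inertia'.2 fun y => by
    have := k (⟨x * y * x⁻¹, Normal.conj_mem inferInstance _ y.2 x⟩ * y⁻¹) (by
      rw [mem_subgroupOf, commutator_comm]; exact commutator_mem_commutator hx y.2)
    rw [lf_apply, lf_apply, map_one, Units.val_inj, map_mul, map_inv, mul_inv_eq_one] at this
    exact congrArg Units.val this
  set T := inertia (lf μ) with hT
  have nT : N ≤ T := l.trans pT
  have q := (ito_normal (s.subgroup T |>.quotient (N.subgroupOf T)) fun β b => (inv_case (N := N.subgroupOf T)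
    (t.of_equiv (subgroupOfEquivOfLe nT).symm) (l := μ.comp (subgroupOfEquivOfLe nT).toMonoidHom)
    ((inertia_toSub _ (lf μ) nT).trans (subgroupOf_self _)) (fun ψ u v dv => by
      have o : ⟪fun n : N => ψ ⟨n, nT n.2⟩, lf μ⟫ ≠ 0 := by
        rw [show (fun n : N => ψ ⟨n, nT n.2⟩) = ψ 1 • lf μ from funext fun n => congrFun v.res ⟨⟨n, nT n.2⟩, n.2⟩,
          H3.inner_smul_left, a.inner_self, mul_one]
        exact u.deg_ne_zero
      have w := h _ (isIrr_indFun_inertia a u o) (by rw [dg_ind u.isCharacter]; exact dv.mul_left _)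
      refine o ?_
      rw [← inner_res_indFun_inertia a u o, show (fun n : N => indFun _ ψ n) = indFun _ ψ 1 • fun _ => (1 : ℂ) from
        funext fun n => by simpa using w n n.2, H3.inner_smul_left,
        isIrrCharacter_one.inner_of_ne a fun e => d (by rw [← e]), mul_zero]) b.inflate fun n hn => by
      rw [(QuotientGroup.eq_one_iff n).2 hn]; rfl :))
  obtain ⟨Q, hQ⟩ := ((tP.of_equiv (subgroupOfEquivOfLe pT).symm).map (QuotientGroup.mk' (N.subgroupOf T))).exists_le_sylow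
  refine commutator_le.2 fun x hx y hy => ?_
  have := (q Q).2 _ (hQ ⟨⟨x, pT hx⟩, hx, rfl⟩) _ (hQ ⟨⟨y, pT hy⟩, hy, rfl⟩)
  rw [← commutatorElement_eq_one_iff_mul_comm, ← map_commutatorElement] at this
  exact mem_subgroupOf.1 ((QuotientGroup.eq_one_iff _).1 this)

theorem dl_sylow [hp : Fact p.Prime] (k : ℕ) : ∀ (G : Type u) [Group G] [Finite G], Nat.card G = k →
    H1.PiSep {p} G → ∀ P : Sylow p G,
      derivedSeries (P : Subgroup G) (Nat.card {χ : IrrCharacter G // p ∣ dg χ.1} + 1) = ⊥ := by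
  induction k using Nat.strong_induction_on with
  | _ k ih =>
  intro G _ _ hk s P
  rcases Nat.eq_zero_or_pos (Nat.card {χ : IrrCharacter G // p ∣ dg χ.1}) with z | z
  · rw [z, zero_add, derivedSeries_one, der_eq_bot_iff]
    exact fun a b => Subtype.ext ((ito_normal s (fun χ a d => (Finite.card_eq_zero_iff.1 z).elim ⟨⟨χ, a⟩, d⟩) P).2 _ a.2 _ b.2)
  have nt : (⊤ : Subgroup G) ≠ ⊥ := fun e => by
    obtain ⟨⟨χ, d⟩⟩ := Finite.card_pos_iff.1 z
    exact hp.out.ne_one (Nat.dvd_one.1 (d.trans (χ.2.dg_dvd.trans (by rw [← card_top, e, card_bot]))))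
  have q : ∀ (N : Subgroup G) [N.Normal], N ≠ ⊥ → ∃ j, derivedSeries (P : Subgroup G) (j + 1) ≤ N.subgroupOf P ∧
      j ≤ Nat.card {χ : IrrCharacter G // p ∣ dg χ.1} ∧ ((∃ χ, Irr G χ ∧ p ∣ dg χ ∧ ¬ ∀ n ∈ N, χ n = χ 1) →
        j < Nat.card {χ : IrrCharacter G // p ∣ dg χ.1}) := fun N _ n => by
    have f := QuotientGroup.mk'_surjective N
    have := ih _ (hk ▸ H1.card_quotient_lt n) (G ⧸ N) rfl (s.quotient N) (P.mapSurjective f)
    let F : {χ : IrrCharacter (G ⧸ N) // p ∣ dg χ.1} → {χ : IrrCharacter G // p ∣ dg χ.1} :=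
      fun χ => ⟨⟨_, χ.1.2.inflate⟩, χ.2⟩
    have i : Function.Injective F := fun χ ψ e => Subtype.ext (Subtype.ext (funext fun x => by
      obtain ⟨x, rfl⟩ := f x
      exact congrFun (congrArg (fun y => y.1.1) e) x))
    refine ⟨_, fun x hx => ?_, Nat.card_le_card_of_injective F i, fun ⟨χ, a, d, e⟩ => ?_⟩
    · have m := mem_map_of_mem ((QuotientGroup.mk' N).subgroupMap P) hx
      rw [map_derivedSeries_eq (MonoidHom.subgroupMap_surjective _ _)] at m
      have m' := this.le m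
      exact (QuotientGroup.eq_one_iff (x : G)).1 (congrArg Subtype.val m')
    · haveI := Fintype.ofFinite {χ : IrrCharacter (G ⧸ N) // p ∣ dg χ.1}
      haveI := Fintype.ofFinite {χ : IrrCharacter G // p ∣ dg χ.1}
      rw [Nat.card_eq_fintype_card, Nat.card_eq_fintype_card]
      refine Fintype.card_lt_of_injective_of_notMem F i (b := ⟨⟨χ, a⟩, d⟩) fun ⟨ψ, w⟩ => e fun n hn => ?_
      rw [← show (F ψ).1.1 = χ from congrArg (fun y => y.1.1) w]
      exact congrArg ψ.1.1 ((QuotientGroup.eq_one_iff n).2 hn)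
  obtain ⟨L, _, -, n, t | t⟩ := s.exists_normal_le ⊤ nt
  swap
  · obtain ⟨j, a, b, -⟩ := q L n
    rw [eq_bot_iff]
    refine (derivedSeries_antitone _ (Nat.succ_le_succ b)).trans (a.trans fun x hx => mem_bot.2 (Subtype.ext ?_))
    exact mem_bot.1 ((inf_eq_bot_of_isPGroup P.isPGroup' ((H1.PiNum.compl_singleton_iff hp.out).1 t)).le ⟨x.2, hx⟩)
  replace t := H1.isPGroup_iff_piNum.2 t
  set N := L ⊓ cen L with hN
  have n1 : N ≠ ⊥ := pgroup_inf_cen_ne_bot' t t (le_nrm_self _) n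
  have c : ∀ a ∈ N, ∀ b ∈ N, a * b = b * a := fun a ha b hb => mem_cen.1 hb.2 a ha.1
  have fin : ∀ j, j < Nat.card {χ : IrrCharacter G // p ∣ dg χ.1} →
      derivedSeries (P : Subgroup G) (j + 1) ≤ N.subgroupOf P →
      derivedSeries (P : Subgroup G) (Nat.card {χ : IrrCharacter G // p ∣ dg χ.1} + 1) = ⊥ := fun j a b => by
    rw [eq_bot_iff]
    refine (derivedSeries_antitone _ (Nat.succ_le_succ a)).trans ?_
    rw [derivedSeries_succ]
    exact commutator_le.2 fun x hx y hy => mem_bot.2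
      (commutatorElement_eq_one_iff_mul_comm.2 (Subtype.ext (c _ (b hx) _ (b hy))))
  by_cases e : ∃ χ, Irr G χ ∧ p ∣ dg χ ∧ ¬ ∀ n ∈ N, χ n = χ 1
  · obtain ⟨j, a, -, b⟩ := q N n1
    exact fin j (b e) a
  · refine fin 0 z ?_
    rw [zero_add, derivedSeries_one, subgroupOf, ← map_le_iff_le_comap, map_subtype_commutator]
    exact der_le_of_rel s t.to_inf_left n1 c P.isPGroup' (t.to_inf_left.le_sylow_of_normal P) fun χ a d =>
      by_contra fun f => e ⟨χ, a, d, f⟩

theorem prim_of_gal [Fintype G] (a : Irr G χ) (σ : ℂ →+* ℂ) (h : Irr G (χ * fun g => σ (χ g))) : IsPrimitiveChar χ := by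
  rintro T t θ b rfl
  haveI := Fintype.ofFinite T
  have c := a.gal σ
  rw [← indFun_mul_res T θ c.isClassFunction] at h
  have d := irr_of_mul ((b.mul (c.isCharacter.res T)).isIrr_of_indFun h) b (c.isCharacter.res T)
  have e := d.eq_of_inner_ne_zero ((b.isIrr_of_indFun a).gal σ) (by
    rw [← inner_indFun_right _ _ c.isClassFunction, indFun_gal, c.inner_self]; exact one_ne_zero)
  have f := congrFun e 1
  simp only [OneMemClass.coe_one, indFun_one, map_mul, map_natCast] at f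
  exact t (index_eq_one.1 (by
    exact_mod_cast (mul_eq_right₀ ((_root_.map_ne_zero σ).2 (b.isIrr_of_indFun a).deg_ne_zero)).1 f))

theorem fit_of_gal (a : Irr G χ) (k : charKer χ = ⊥) (σ : ℂ →+* ℂ) (h : Irr G (χ * fun g => σ (χ g))) :
    fittingSubgroup G ≤ center G := by
  haveI := Fintype.ofFinite G
  have z := a.charCenter_eq_center k
  have ab : ∀ A : Subgroup G, A.Normal → (∀ x ∈ A, ∀ y ∈ A, x * y = y * x) → A ≤ center G := fun A n c =>
    z ▸ ((prim_of_gal a σ h).isQuasiPrimitive a).le_charCenter a n fun x hx y hy => by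
      rw [c x hx y hy, mul_inv_cancel_right, mul_inv_cancel]; exact one_mem _
  by_contra c
  have f := QuotientGroup.mk'_surjective (center G)
  set F := (fittingSubgroup G).map (QuotientGroup.mk' (center G)) with hF
  haveI : F.Normal := Subgroup.Normal.map inferInstance _ f
  have n : F ⊓ cen F ≠ ⊥ := nilp_inf_cen_ne_bot (H1.isNilpotent_map _ _) le_rfl le_normalizer fun e => c (by
    rwa [hF, Subgroup.map_eq_bot_iff, QuotientGroup.ker_mk'] at e)
  obtain ⟨⟨x, hx⟩, x1⟩ := ne_bot_iff_exists_ne_one.1 n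
  obtain ⟨x, rfl⟩ := f x
  have xz : x ∉ center G := fun e => x1 (Subtype.ext ((QuotientGroup.eq_one_iff x).2 e))
  set E := (F ⊓ cen F).comap (QuotientGroup.mk' (center G)) with hE
  set S := (cen1 (QuotientGroup.mk' (center G) x)).comap (QuotientGroup.mk' (center G)) with hS
  have mS : ∀ g, g ∈ S ↔ ⁅x, g⁆ ∈ center G := fun g => by
    rw [mem_comap, mem_cen1, eq_comm, ← commutatorElement_eq_one_iff_mul_comm, ← map_commutatorElement]
    exact QuotientGroup.eq_one_iff _
  have xE : x ∈ E := hx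
  have eS : E ≤ S := fun g hg => mem_cen1.2 (mem_cen.1 hx.2 _ hg.1)
  have ez := ab (E ⊓ cen E) inferInstance fun a ha b hb => mem_cen.1 hb.2 a ha.1
  obtain ⟨l, hl⟩ := exists_lin_of_le_charCenter a.deg_ne_zero z.ge
  have li' : ∀ y, l y = 1 → y = 1 := fun y e => Subtype.ext (mem_bot.1 (k ▸ mem_charKer.2 fun g => by
    rw [hl, e, Units.val_one, one_mul]))
  have li := (injective_iff_map_eq_one l).2 li'
  let μ : S →* ℂˣ := l.comp (MonoidHom.mk' (fun g => ⟨⁅x, (g : G)⁆, (mS g).1 g.2⟩) fun g u => Subtype.ext (by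
    have := mem_center_iff.1 ((mS u).1 u.2) (g : G)⁻¹
    simp only [coe_mul, commutatorElement_def] at this ⊢
    calc _ = x * g * x⁻¹ * (x * u * x⁻¹ * (u : G)⁻¹ * (g : G)⁻¹) := by group
      _ = _ := by rw [← this]; group))
  have i := irr_of_inertia_le (l := μ.comp (inclusion eS)) eS (m := μ) (fun _ => rfl) fun g hg => by
    have : x⁻¹ * (g⁻¹ * x * g) ∈ E ⊓ cen E := mem_inf.2 ⟨mul_mem (inv_mem xE) (Normal.conj_mem' inferInstance _ xE g),
      mem_cen.2 fun e he => by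
        have h2 : ⁅x, g * e * g⁻¹⁆ = ⁅x, e⁆ := congrArg Subtype.val (li (a₁ := ⟨_, (mS _).1 (eS
          (Normal.conj_mem inferInstance _ he g))⟩) (a₂ := ⟨_, (mS e).1 (eS he)⟩) (Units.ext (mem_inertia'.1 hg ⟨e, he⟩)))
        have h3 := mem_center_iff.1 ((mS e).1 (eS he)) g
        simp only [commutatorElement_def] at h2 h3
        calc _ = x⁻¹ * g⁻¹ * (g * (x * e * x⁻¹ * e⁻¹)) * e * g⁻¹ * x * g := by group
          _ = _ := by rw [h3, ← h2]; group⟩
    rw [mS, show ⁅x, g⁆ = g * x * (x⁻¹ * (g⁻¹ * x * g)) * (g * x)⁻¹ by rw [commutatorElement_def]; group]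
    exact Normal.conj_mem inferInstance _ (ez this) _
  haveI := Fintype.ofFinite S
  have m1 : ∀ g : S, χ g ≠ 0 → μ g = 1 := fun g e => by_contra fun m => e
    (eq_zero_of_commutator_central a.isClassFunction (y := x) (fun w => m (Units.ext w)) (hl ⟨_, (mS g).1 g.2⟩))
  have key : ∀ φ, Irr G φ → (∀ g, φ g ≠ 0 → χ g ≠ 0) → ⟪φ * fun g => conj (φ g), indFun S (lf μ)⟫ ≠ 0 := fun φ u v => by
    rw [inner_indFun_right _ _ (u.isCharacter.mul u.conj.isCharacter).isClassFunction,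
      show ⟪(φ * fun g => conj (φ g))↾S, lf μ⟫ = ⟪φ↾S, φ↾S⟫ by
        unfold classInner
        refine congrArg _ (Finset.sum_congr rfl fun g _ => ?_)
        by_cases e : φ g = 0
        · simp [e]
        · simp [lf_apply, m1 g (v g e)], Ne, H3.inner_self_eq_zero]
    exact fun e => u.deg_ne_zero (congrFun e 1)
  have c1 := a.gal σ
  have A := a.isCharacter.mul a.conj.isCharacter
  have B := c1.isCharacter.mul c1.conj.isCharacter
  have one : ∀ φ, Irr G φ → ⟪φ * fun g => conj (φ g), fun _ => 1⟫ = 1 := fun φ u => by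
    rw [inner_mul_left]; simpa using u.inner_self
  have e1 : ⟪fun _ => (1 : ℂ), indFun S (lf μ)⟫ = 0 := by
    rw [inner_indFun_right _ _ (isClassFunction_const 1)]
    refine isIrrCharacter_one.inner_of_ne (lf_irr μ) fun e => xz (ez ⟨hx, mem_cen.2 fun g hg => ?_⟩)
    exact (commutatorElement_eq_one_iff_mul_comm.1 (congrArg Subtype.val
      (li' _ (Units.ext (congrFun e ⟨g, eS hg⟩).symm)))).symm
  have A1 := A.sub_of_inner_ne_zero isIrrCharacter_one (by rw [one χ a]; exact one_ne_zero)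
  obtain ⟨j, hj⟩ := nat_le_inner_of_constituent (MonoidHom.id G) A1 i (by
    rw [H3.inner_sub_left, e1, sub_zero]; exact key χ a fun _ e => e) B
  obtain ⟨m, hm⟩ := B.inner_nat i.isCharacter
  have e2 : ⟪χ * fun g => conj (χ g), (fun g => σ (χ g)) * fun g => conj (σ (χ g))⟫ = 1 := by
    refine Eq.trans ?_ h.inner_self
    unfold classInner
    exact congrArg _ (Finset.sum_congr rfl fun g _ => by simp; ring)
  simp only [MonoidHom.id_apply] at hj
  rw [show (fun k => (χ * (fun g => conj (χ g)) - fun _ => 1 : G → ℂ) k) = χ * (fun g => conj (χ g)) - fun _ => 1 from rfl,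
    H3.inner_sub_left, e2, isCharacter_one.inner_comm B, one _ c1, sub_self, i.isCharacter.inner_comm B, hm] at hj
  have : m + j = 0 := by exact_mod_cast hj.symm
  exact key _ c1 (fun g e w => e (by rw [w, map_zero])) (by rw [hm, show m = 0 by omega, Nat.cast_zero])

end H2
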