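import Cfsg.Agent.H1.XS
import Cfsg.Agent.H1.Frob
import Cfsg.Agent.H7.Tk3
import Cfsg.Prelude.Def_MonsterType

/-!
# Extraspecial subgroups: perpendicular subgroups, large extraspecial `2`-subgroups.
-/

namespace H2
open Subgroup Cfsg H7 H1B
open scoped commutatorElement

variable {G : Type*} [Group G] [Finite G] {Q R S T U V W A B K L H P E X : Subgroup G} {p n w : ℕ}
  {a b c g h k q r t u v x y z : G}

omit [Finite G] in
theorem cswap (h : ⁅A, B⁆ ≤ K) : ⁅B, A⁆ ≤ K := commutator_comm A B ▸ h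

section gen
variable [hp : Fact p.Prime]

omit [Finite G] hp in
theorem xs_ord (s : XS p Q z) : ord (zpowers z) = p := (Nat.card_zpowers z).trans s.oz

theorem xs_inner (s : XS p Q z) (ha : A ≤ nrm Q) (hz : A ≤ cen1 z) (k : ⁅A, Q⁆ ≤ zpowers z) :
    A ≤ Q ⊔ cen Q := by
  have c : Q ⊔ A ≤ cen1 z := sup_le (le_cen1_iff.2 s.zc) hz
  have n := (cen_zpowers z ▸ c).trans (cen_le_nrm (zpowers z))
  have := sup_cen_eq (R := Q ⊔ A) s.pgroup le_sup_left (xs_ord s).le (comm_sup_le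
    (le_sup_left.trans n) (le_sup_right.trans n) s.der k) (by rwa [s.ctr, cen_zpowers])
    (sup_le (le_nrm_self Q) ha)
  exact le_sup_right.trans (this.ge.trans (sup_le_sup_left inf_le_right Q))

theorem xs_perp (s : XS p Q z) (hU : U ≤ Q) (hz : z ∈ U) : ord (Q ⊓ cen U) * ord U = p * ord Q := by
  have l := zpowers_le.2 hz
  have h1 := relIndex_cen_le_relIndex (s.pgroup.to_le hU) (xs_ord s).le
    ((commutator_mono le_rfl hU).trans s.der) l (le_cen_symm (s.zle.trans inf_le_right))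
  have h2 := relIndex_cen_le_relIndex s.pgroup (xs_ord s).le ((commutator_mono hU le_rfl).trans s.der)
    (inf_le_left : Q ⊓ cen U ≤ Q) (le_cen_symm inf_le_right)
  rw [← inf_relIndex_right (cen Q), show cen Q ⊓ U = zpowers z from le_antisymm
    (s.ctr ▸ le_inf (inf_le_right.trans hU) inf_le_left) (le_inf (s.zle.trans inf_le_right) l),
    inf_relIndex_left] at h2
  rw [← relIndex_mul_card' l, ← h1.antisymm h2, xs_ord s, ← relIndex_mul_card_inf (cen U) Q, inf_comm]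
  ring

theorem xs_dperp (s : XS p Q z) (hU : U ≤ Q) (hz : z ∈ U) : Q ⊓ cen (Q ⊓ cen U) = U := by
  have h1 := xs_perp s hU hz
  have h2 := xs_perp s (inf_le_left : Q ⊓ cen U ≤ Q) ⟨s.zm, cen_anti hU s.zc⟩
  exact (H7.eq_of_le_of_card_le (le_inf hU (le_cen_symm inf_le_right))
    (Nat.eq_of_mul_eq_mul_right (card_pos' _) (h2.trans (h1.symm.trans (mul_comm _ _)))).le).symm

omit hp in
theorem xs_perp_comm (s : XS p Q z) (ha : A ≤ nrm Q) (hz : A ≤ cen1 z) (hT : T ≤ Q) :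
    T ≤ cen ⁅Q, A⁆ ↔ ⁅A, T⁆ ≤ zpowers z := by
  have k : ⁅⁅T, Q⁆, A⁆ ≤ ⊥ := (commutator_mono ((commutator_mono hT le_rfl).trans s.der) le_rfl).trans
    (comm_eq_bot'.2 (cen_zpowers z ▸ hz)).le
  refine ⟨fun h => s.ctr ▸ le_inf ((commutator_mono le_rfl hT).trans (comm_le_right ha))
    (comm_eq_bot.1 (le_bot_iff.1 (three_subgroups (le_nrm_bot _) (le_nrm_bot _) (le_nrm_bot _) k
      (comm_eq_bot'.2 h).le))), fun h => comm_eq_bot'.1 (le_bot_iff.1 (three_subgroups (le_nrm_bot _)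
        (le_nrm_bot _) (le_nrm_bot _) (comm_eq_bot.2 (h.trans (s.zle.trans inf_le_right))).le k))⟩

theorem xs_mem (s : XS p Q z) (hU : U ≤ Q) (n : Q ≤ nrm U) (h : U ≠ ⊥) : z ∈ U := by
  obtain ⟨y, hy, y1⟩ := exists_ne_one (pgroup_inf_cen_ne_bot' s.pgroup (s.pgroup.to_le hU) n h)
  exact zpowers_le.2 hy.1 ((eq_zpowers_of_card (xs_ord s) (s.ctr.le ⟨hU hy.1, hy.2⟩) y1).le
    (mem_zpowers z))

omit hp in
theorem xs_sub (s : XS p Q z) (hU : U ≤ Q) (hz : z ∈ U) (h : U ⊓ cen U ≤ cen Q) : XS p U z :=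
  ⟨s.sub hU hz, le_antisymm (s.ctr ▸ le_inf (inf_le_left.trans hU) h)
    (zpowers_le.2 ⟨hz, cen_anti hU s.zc⟩)⟩

omit [Finite G] hp in
theorem xs_cj (s : XS p Q z) (g : G) : XS p (cj g Q) (g * z * g⁻¹) := by
  have e : ∀ {x}, x ∈ zpowers z → g * x * g⁻¹ ∈ zpowers (g * z * g⁻¹) := fun h =>
    cj_zpowers g z ▸ H7.conj_mem_cj.2 h
  refine ⟨⟨H7.conj_mem_cj.2 s.zm, (MulEquiv.orderOf_eq (MulAut.conj g) z).trans s.oz,
    cj_cen g Q ▸ H7.conj_mem_cj.2 s.zc, fun a ha b hb => ?_, fun a ha => ?_⟩,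
    by rw [← cj_cen, ← H7.cj_inf, s.ctr, cj_zpowers]⟩
  · obtain ⟨a, h1, rfl⟩ := mem_cj'.1 ha
    obtain ⟨b, h2, rfl⟩ := mem_cj'.1 hb
    exact conjugate_commutatorElement a b g ▸ e (s.comm a h1 b h2)
  · obtain ⟨a, h1, rfl⟩ := mem_cj'.1 ha
    rw [conj_pow]; exact e (s.pow a h1)

/-- abelian subgroups of an extraspecial group are small -/
theorem xs_ab (s : XS p Q z) (hU : U ≤ Q) (c : U ≤ cen U) : ord U * ord U ≤ p * ord Q := by
  have l : U ⊔ zpowers z ≤ Q := sup_le hU (zpowers_le.2 s.zm)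
  rw [← xs_perp s l (mem_sup_right (mem_zpowers z))]
  exact Nat.mul_le_mul (card_le_of_le (le_inf hU (le_cen_sup c
    (le_cen_symm (s.zle.trans (inf_le_right.trans (cen_anti hU))))))) (card_le_of_le le_sup_left)

theorem xs_idx (s : XS p Q z) (hx : x ∈ Q) : ord Q ≤ p * ord (Q ⊓ cen1 x) := by
  have := H1B.relIndex_cen1_le (R := Q) fun r hr => s.comm r hr x hx
  rw [← relIndex_mul_card_inf (cen1 x) Q, inf_comm]
  exact Nat.mul_le_mul_right _ (xs_ord s ▸ this)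

theorem xs_small (s : XS p Q z) (hU : U ≤ Q) (i : ord Q ≤ p * ord U) (c : U ≤ cen U) :
    ord Q ≤ p ^ 3 := by
  have h := Nat.mul_le_mul i i
  have := xs_ab s hU c
  refine Nat.le_of_mul_le_mul_right ?_ (card_pos' Q)
  calc _ ≤ p * p * (ord U * ord U) := h.trans_eq (by ring)
    _ ≤ p * p * (p * ord Q) := Nat.mul_le_mul_left _ this
    _ = _ := by ring

theorem es_map {G' : Type*} [Group G'] [Finite G'] (h : IsExtraspecial p Q) {f : G →* G'}
    (hf : Function.Injective f) : IsExtraspecial p (Q.map f) :=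
  let ⟨_, s, nc⟩ := xs_of h
  (s.map hf).es fun k => nc ((map_le_cen_map_iff hf).1 k)

end gen

theorem xs_quad (s : XS 2 Q z) (ha : a ∈ nrm Q) (a2 : orderOf a = 2) :
    ⁅⁅Q, zpowers a⁆, zpowers a⁆ ≤ zpowers z := by
  have l := comm_le_left (zpowers_le.2 ha)
  refine (le_cmod.1 (commutator_le.2 fun q hq c hc => mem_cmod.2 ⟨s.le_nrm (zpowers_le.2 s.zm)
    (mem_zpowers z) (l (commutator_mem_commutator hq hc)), fun d hd => ?_⟩)).2
  rcases (mem_zp_two a2).1 hd with rfl | rfl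
  · simp
  rcases (mem_zp_two a2).1 hc with rfl | rfl
  · simp
  have e := inv_eq_of_mul_eq_one_left (ord2.1 a2).1
  have : ⁅⁅q, c⁆, c⁆ = ⁅q, c⁆ ^ 2 := by
    calc _ = ⁅q, c⁆ * (c * c) * q * c⁻¹ * q⁻¹ * c⁻¹ := by group
      _ = _ := by rw [(ord2.1 a2).1, sq, commutatorElement_def, e]; group
  exact this ▸ s.pow _ (l (commutator_mem_commutator hq hc))

/-- Aschbacher's conditions (L1)-(L3). -/
structure LX (Q : Subgroup G) (z : G) : Prop extends XS 2 Q z where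
  nc : ¬ Q ≤ cen Q
  cQ : cen Q ≤ Q
  nQ : cen1 z ≤ nrm Q

omit [Finite G] in
theorem nrm_zp_two (hz : orderOf z = 2) : nrm (zpowers z) ≤ cen1 z := fun g hg => by
  rcases (mem_zp_two hz).1 (nconj_mem hg (mem_zpowers z)) with e | e
  · exact absurd (conj_eq_one_iff.1 e) (ord2.1 hz).2
  · exact mem_cen1.2 (mul_inv_eq_iff_eq_mul.1 e)

theorem lx_of (h1 : IsExtraspecial 2 Q) (h2 : cen Q = (center Q).map Q.subtype)
    (h3 : cen ((center Q).map Q.subtype) ≤ nrm Q) : ∃ z, LX Q z ∧ (center Q).map Q.subtype = zpowers z := by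
  obtain ⟨z, s, nc⟩ := xs_of h1
  rw [center_map_subtype, s.ctr] at h2 h3 ⊢
  exact ⟨z, ⟨s, nc, h2 ▸ zpowers_le.2 s.zm, cen_zpowers z ▸ h3⟩, rfl⟩

theorem lx_of' (h1 : IsExtraspecial 2 Q) (h2 : cen Q ≤ Q) (hz : orderOf z = 2) (h3 : Q ≤ cen1 z)
    (h4 : cen1 z ≤ nrm Q) : LX Q z := by
  obtain ⟨y, s, nc⟩ := xs_of h1
  have m := le_cen1_iff.1 h3
  obtain rfl : z = y := ((mem_zp_two s.oz).1 (s.ctr.le ⟨h2 m, m⟩)).resolve_left (ord2.1 hz).2
  exact ⟨s, nc, h2, h4⟩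

theorem lx_of_Fst (h1 : IsExtraspecial 2 Q) (hz : orderOf z = 2) (h : Fst (cen1 z) = Q) : LX Q z := by
  obtain ⟨y, s, nc⟩ := xs_of h1
  have l : Q ≤ cen1 z := h ▸ Fst_le _
  have c : cen1 z ⊓ cen Q ≤ Q := h ▸ cen_Fst_le _
  have m : z ∈ Q := c ⟨self_mem_cen1 z, le_cen1_iff.1 l⟩
  exact lx_of' h1 ((le_inf (cen_le_cen1 m) le_rfl).trans c) hz l (h ▸ le_nrm_Fst _)

namespace LX
variable (s : LX Q z)
include s

omit [Finite G] in
theorem cen_eq : cen Q = zpowers z := (inf_eq_right.2 s.cQ).symm.trans s.ctr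
omit [Finite G] in
theorem le : Q ≤ cen1 z := le_cen1_iff.2 s.zc
omit [Finite G] in
theorem nrm_le : nrm Q ≤ cen1 z := (s.cen_eq ▸ nrm_cen le_rfl).trans (nrm_zp_two s.oz)

omit [Finite G] in
theorem cj (g : G) : LX (cj g Q) (g * z * g⁻¹) :=
  ⟨xs_cj s.toXS g, by rw [← cj_cen, cj_le_cj]; exact s.nc, by rw [← cj_cen, cj_le_cj]; exact s.cQ,
    by rw [← cj_cen1, ← cj_nrm, cj_le_cj]; exact s.nQ⟩

omit [Finite G] in
theorem cj_eq (e : g * z * g⁻¹ = h * z * h⁻¹) : H2.cj g Q = H2.cj h Q := by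
  rw [cj_eq_iff, ← H7.cj_mul, eq_comm]
  refine cj_of_mem_nrm (s.nQ (inv_mem_iff.1 (mem_cen1.2 ?_)))
  calc _ = h⁻¹ * (g * z * g⁻¹) * g := by group
    _ = _ := by rw [e]; group

theorem inner (hz : A ≤ cen1 z) (k : ⁅A, Q⁆ ≤ zpowers z) : A ≤ Q :=
  (xs_inner s.toXS (hz.trans s.nQ) hz k).trans (sup_le le_rfl s.cQ)

theorem odd_bot (o : Odd (ord K)) (n : Q ≤ nrm K) (hz : K ≤ cen1 z) : K = ⊥ := by
  have c := inf_eq_bot_of_isPGroup s.pgroup o.coprime_two_right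
  exact le_bot_iff.1 (c ▸ le_inf ((le_cen_symm (le_cen_of_inf_eq_bot n (hz.trans s.nQ) c)).trans s.cQ)
    le_rfl)

theorem large (h : ∀ K, Odd (ord K) → Q ≤ nrm K → K = ⊥) : IsLargeExtraspecial Q :=
  ⟨s.es s.nc, by rw [center_map_subtype, inf_eq_right.2 s.cQ],
    by rw [center_map_subtype, s.ctr, cen_zpowers]; exact s.nQ, h⟩

theorem le_Op : Q ≤ Op 2 (cen1 z) := H7.le_Op s.le s.nQ s.pgroup

theorem odd_cen (o : Odd (ord K)) (n : z ∈ nrm K) (hK : K ≤ H) (hz : z ∈ Op 2 H) : K ≤ cen1 z := by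
  rw [← cen_zpowers, ← comm_eq_bot, eq_bot_iff,
    ← inf_eq_bot_of_isPGroup (isPGroup_Op 2 H) o.coprime_two_right]
  exact le_inf ((commutator_mono le_rfl (zpowers_le.2 hz)).trans
    (comm_le_right (hK.trans (le_nrm_Opi _ H)))) (comm_le_left (zpowers_le.2 n))

theorem exists_conj (hb : b ∈ Q) (hb' : b ∉ zpowers z) : ∃ v ∈ Q, v * b * v⁻¹ = b * z := by
  obtain ⟨y, hy, e⟩ := s.exists_y hb (s.cen_eq ▸ hb')
  refine ⟨y, hy, ?_⟩
  have c := s.commZ (mem_zpowers z) hb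
  calc _ = ⁅b, y⁆⁻¹ * b := by group
    _ = _ := by rw [e, inv_eq_of_mul_eq_one_left s.z2, c.eq]

theorem large_of (hb : b ∈ Q) (hb' : b ∉ zpowers z) (b2 : b * b = 1) (hz : z ∈ Op 2 (cen1 b)) :
    IsLargeExtraspecial Q := s.large fun K o n => by
  have o' : ∀ X, Odd (ord (K ⊓ X)) := fun X => o.of_dvd_nat (card_dvd_of_le inf_le_left)
  have h1 : K ⊓ cen1 z = ⊥ := s.odd_bot (o' _) (nrm_inf n (s.le.trans (le_nrm_self _))) inf_le_right
  have c : Commute b z := s.commZ (mem_zpowers z) hb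
  have h2 : K ⊓ cen1 b = ⊥ := le_bot_iff.1 (h1 ▸ le_inf inf_le_left (s.odd_cen (o' _)
    (nrm_inf (zpowers_le.2 (n s.zm)) ((zpowers_le.2 (mem_cen1.2 c.symm)).trans (le_nrm_self _))
      (mem_zpowers z)) inf_le_right hz))
  obtain ⟨v, hv, e⟩ := s.exists_conj hb hb'
  have h3 : K ⊓ cen1 (b * z) = ⊥ := by
    rw [← e, ← cj_cen1, ← cj_of_mem_nrm (n hv), ← H7.cj_inf, h2, H7.cj_bot]
  refine le_bot_iff.1 (h3 ▸ le_inf le_rfl fun k hk => mem_cen1.2 (mul_inv_eq_iff_eq_mul.1 ?_).symm)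
  have e1 := H1.inverts_of_fpf_involution (s.z2 ▸ one_mem _) (n s.zm) h1 hk
  have e2 := H1.inverts_of_fpf_involution (b2 ▸ one_mem _) (n hb) h2 (inv_mem hk)
  calc _ = b * (z * k * z⁻¹) * b⁻¹ := by group
    _ = _ := by rw [e1, e2, inv_inv]

theorem syl (hT : IsSylowIn 2 T (cen1 z)) : Q ≤ T ∧ cen T ≤ zpowers z ∧ IsSylowIn 2 T ⊤ := by
  have l := s.le_Op.trans (Op_le_of_sylow hT)
  have c : cen T = zpowers z := le_antisymm (s.cen_eq ▸ cen_anti l)
    (zpowers_le.2 (le_cen1_iff.1 hT.le))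
  refine ⟨l, c.le, syl_of_nrm le_top ?_⟩
  have n : nrm T ≤ cen1 z := (c ▸ nrm_cen le_rfl).trans (nrm_zp_two s.oz)
  rw [top_inf_eq]
  exact hT.mono (le_nrm_self T) n

theorem z_mem (hT : IsPGroup 2 T) (n : Q ≤ nrm T) (h : T ≠ ⊥) : z ∈ T := by
  obtain ⟨y, hy, y1⟩ := exists_ne_one (pgroup_inf_cen_ne_bot' s.pgroup hT n h)
  exact ((mem_zp_two s.oz).1 (s.cen_eq.le hy.2)).resolve_left y1 ▸ hy.1

/-- an element centralizing a subgroup of index two, with a suitable commutator, is inner -/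
theorem mem_of_cen (hx : x ∈ Q) (hx' : x ∉ zpowers z) (x2 : x * x = 1) (hz : a ∈ cen1 z)
    (ha : a ∈ cen (Q ⊓ cen1 x)) : a ∈ zpowers z ⊔ zpowers x := by
  have l : zpowers z ⊔ zpowers x ≤ Q := sup_le (zpowers_le.2 s.zm) (zpowers_le.2 hx)
  have e : Q ⊓ cen (zpowers z ⊔ zpowers x) = Q ⊓ cen1 x := by
    rw [cen_sup, cen_zpowers, cen_zpowers, ← inf_assoc, inf_eq_left.2 s.le]
  have d0 := xs_dperp s.toXS l (mem_sup_left (mem_zpowers z))
  rw [e] at d0
  refine d0.le ⟨zpowers_le.1 (s.inner (zpowers_le.2 hz) (comm_zpowers_le ?_ fun v hv => ?_)), ha⟩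
  · exact cen_le_nrm _ (cen_zpowers z ▸ hz)
  have m : ⁅a, v⁆ ∈ zpowers z ⊔ zpowers x := d0.le ⟨comm_le_right (zpowers_le.2 (s.nQ hz))
    (commutator_mem_commutator (mem_zpowers a) hv), le_cen_symm ((xs_perp_comm s.toXS
      (zpowers_le.2 (s.nQ hz)) (zpowers_le.2 hz) inf_le_left).2
        ((comm_eq_bot.2 (zpowers_le.2 ha)).le.trans bot_le))
      (cswap le_rfl (commutator_mem_commutator (mem_zpowers a) hv))⟩
  have ox := ord2.2 ⟨x2, fun e => hx' (e ▸ one_mem _)⟩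
  obtain ⟨c, hc, d, hd, e1⟩ := (mem_sup_nrm' ((zpowers_le.2 hx).trans (s.le_nrm (zpowers_le.2 s.zm)
    (mem_zpowers z)))).1 m
  rcases (mem_zp_two ox).1 hd with rfl | rfl
  · rwa [← e1, mul_one]
  exfalso
  have hc' := s.zle hc
  have k : a * v * a⁻¹ = c * d * v := by rw [e1]; group
  have h1 : a * (v * v) * a⁻¹ = v * v := conj_eq_of_mem_cen (cen_zpowers z ▸ hz) (sq v ▸ s.pow v hv)
  have h2 : v * d = d * v := by
    have c2 : c * c = 1 := by
      rcases (mem_zp_two s.oz).1 hc with rfl | rfl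
      exacts [mul_one 1, s.z2]
    have : c * d * v * (c * d * v) = v * v := by rw [← k, ← h1]; group
    rw [show c * d * v * (c * d * v) = c * (d * v * c) * d * v by group,
      mem_cen.1 hc'.2 _ (mul_mem hx hv), ← mul_assoc, c2, one_mul, mul_left_inj] at this
    calc v * d = d * (d * v * d) := by rw [← mul_assoc, ← mul_assoc, x2, one_mul]
      _ = _ := by rw [this]
  have := conj_eq_of_mem_cen ha ⟨hv, mem_cen1.2 h2⟩
  rw [k, mul_eq_right, mul_eq_one_iff_eq_inv, inv_eq_of_mul_eq_one_left x2] at this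
  exact hx' (this ▸ hc)

/-- symmetry of orthogonality -/
theorem sym (hx : g * z * g⁻¹ ∈ Q) (nc : ¬ Q ⊓ cen1 (g * z * g⁻¹) ≤ cen (Q ⊓ cen1 (g * z * g⁻¹))) :
    z ∈ H2.cj g Q := by
  by_contra hz
  have s' := s.cj g
  set x := g * z * g⁻¹ with hxe
  set R := H2.cj g Q
  have xz : x ∉ zpowers z := fun e => nc (inf_le_left.trans (le_cen_symm ?_))
  swap
  · rcases (mem_zp_two s.oz).1 e with e | e
    · exact absurd e s'.z1
    · exact absurd (e ▸ s'.zm) hz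
  have zx : z ∈ cen1 x := mem_cen1.2 (s.commZ (mem_zpowers z) hx).symm
  have nx : cen1 x ≤ nrm (zpowers x) := (cen_zpowers x).ge.trans (cen_le_nrm _)
  have k : ∀ r ∈ R, ⁅z, r⁆ ∈ zpowers x → r ∈ cen1 z := fun r hr e => by
    rcases (mem_zp_two s'.oz).1 e with e | e
    · exact mem_cen1.2 (commutatorElement_eq_one_iff_mul_comm.1 e).symm
    obtain ⟨v, hv, e'⟩ := s.exists_conj hx xz
    have e1 : r * z * r⁻¹ = x * z := by
      calc _ = z⁻¹⁻¹ * (z⁻¹ * r * z⁻¹⁻¹ * r⁻¹) := by group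
        _ = _ := by
          rw [inv_eq_of_mul_eq_one_left s.z2, ← commutatorElement_def, e,
            inv_eq_of_mul_eq_one_left s.z2, mem_cen1.1 zx]
    have e2 : r * x * r⁻¹ = x := conj_eq_of_mem_cen (cen_zpowers x ▸ s'.le hr) (mem_zpowers x)
    have e3 : v * z * v⁻¹ = z := conj_eq_of_mem_cen (cen_zpowers z ▸ s.le hv) (mem_zpowers z)
    have e4 : v * r * v * z * (v * r * v)⁻¹ = x := by
      calc _ = v * (r * (v * z * v⁻¹) * r⁻¹) * v⁻¹ := by group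
        _ = v * (x * z) * v⁻¹ := by rw [e3, e1]
        _ = (v * x * v⁻¹) * (v * z * v⁻¹) := by group
        _ = _ := by rw [e', e3, mul_assoc, s.z2, mul_one]
    have e5 : v * r * v * x * (v * r * v)⁻¹ = z := by
      calc _ = v * (r * (v * x * v⁻¹) * r⁻¹) * v⁻¹ := by group
        _ = v * ((r * x * r⁻¹) * (r * z * r⁻¹)) * v⁻¹ := by rw [e']; group
        _ = _ := by rw [e1, e2, ← mul_assoc x, s'.z2, one_mul, e3]
    have := H7.conj_mem_cj (g := v * r * v).2 hx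
    rw [e5, s.cj_eq e4] at this
    exact absurd this hz
  set P := Q ⊓ cen1 x
  have nR : P ≤ nrm R := inf_le_right.trans s'.nQ
  have i : Q ⊓ R ≤ zpowers x := by
    by_contra i
    have n : P ≤ nrm (Q ⊓ R) := nrm_inf (inf_le_left.trans (le_nrm_self Q)) nR
    have l : Q ⊓ R ≤ P := inf_le_inf_left Q s'.le
    have c : Q ⊓ R ≤ cen P := comm_eq_bot.1 (le_bot_iff.1 fun y hy => by
      rcases (mem_zp_two s.oz).1 ((commutator_mono inf_le_left inf_le_left).trans s.der hy) with e | e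
      · exact e
      · exact absurd (e ▸ (comm_le_left n hy).2) hz)
    obtain ⟨y, hy, hy'⟩ := SetLike.not_le_iff_exists.1 i
    obtain ⟨a, ha, b, hb, rfl⟩ := (mem_sup_nrm' ((zpowers_le.2 hx).trans (s.le_nrm
      (zpowers_le.2 s.zm) (mem_zpowers z)))).1 (s.mem_of_cen hx xz s'.z2 (s.le hy.1) (c hy))
    rcases (mem_zp_two s.oz).1 ha with rfl | rfl
    · exact hy' (by rwa [one_mul])
    · exact hz ((mul_mem_cancel_right (zpowers_le.2 s'.zm hb)).1 hy.2)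
  have h1 : ⁅P, R ⊓ cen1 z⁆ ≤ zpowers x := le_trans (le_inf ((commutator_mono inf_le_left le_rfl).trans
    (comm_le_left (inf_le_right.trans s.nQ))) ((commutator_mono le_rfl inf_le_left).trans
      (comm_le_right nR))) i
  have zR := zpowers_le.2 (s'.nQ zx)
  have h2 : ⁅R, zpowers z⁆ ≤ R ⊓ cen1 z := le_inf (comm_le_left zR) fun y hy => k y (comm_le_left zR hy)
    (cswap (xs_quad s'.toXS (s'.nQ zx) s.oz) (commutator_mem_commutator (mem_zpowers z) hy))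
  have h3 : ⁅R, P⁆ ≤ R ⊓ cen1 z := le_inf (comm_le_left nR) fun y hy => k y (comm_le_left nR hy)
    ((xs_perp_comm s'.toXS zR (zpowers_le.2 zx) (comm_le_left nR)).1 ((le_cen_symm
      ((xs_perp_comm s'.toXS nR inf_le_right inf_le_left).2 h1)).trans (cen_anti h2))
      (commutator_mem_commutator (mem_zpowers z) hy))
  have h4 : ⁅⁅R, P⁆, P⁆ ≤ zpowers x := (commutator_mono h3 le_rfl).trans (cswap h1)
  have h5 := three_subgroups (inf_le_right.trans nx) (inf_le_right.trans nx) (s'.le.trans nx)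
    (by rwa [commutator_comm P R]) h4
  have zP : z ∈ ⁅P, P⁆ := by
    obtain ⟨y, hy, y1⟩ := exists_ne_one (H := ⁅P, P⁆) fun e => nc (comm_eq_bot.1 e)
    exact ((mem_zp_two s.oz).1 ((commutator_mono inf_le_left inf_le_left).trans s.der hy)).resolve_left
      y1 ▸ hy
  exact hz (zpowers_le.1 (s'.inner (zpowers_le.2 zx) ((commutator_mono (zpowers_le.2 zP) le_rfl).trans h5)))

theorem sym_w (hw : 2 ≤ w) (o : ord Q = 2 ^ (2 * w + 1)) (hx : g * z * g⁻¹ ∈ Q) : z ∈ H2.cj g Q :=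
  s.sym hx fun c => (Nat.pow_lt_pow_right one_lt_two (by omega : 3 < 2 * w + 1)).not_ge
    (o ▸ xs_small s.toXS inf_le_left (xs_idx s.toXS hx) c)

theorem pg_of_small (hx : x ∈ Q) (hx' : x ∉ zpowers z) (x2 : x * x = 1) (o : ord Q ≤ 2 ^ 3) :
    IsPGroup 2 (cen1 z) := by
  obtain ⟨y, hy, e, y2⟩ := s.exists_d8 hx (s.cen_eq ▸ hx') x2
  have m := mul_mem hx hy
  have w2 : x * y * (x * y) = z := by rw [s.xy_sq hx hy e, x2, y2, one_mul, one_mul]
  have o4 : orderOf (x * y) = 2 ^ (1 + 1) := orderOf_eq_prime_pow (by rw [pow_one, sq, w2]; exact s.z1)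
    (by rw [pow_add, pow_mul, pow_one, sq, sq, w2, s.z2])
  have nx : x ∉ zpowers (x * y) := fun h => s.z1 (e.symm.trans (commutatorElement_eq_one_iff_mul_comm.2
    (by simpa [mul_assoc] using (comm_zpowers (Commute.refl (x * y)) h).eq)))
  have i : (zpowers (x * y)).relIndex Q = 2 := by
    have := relIndex_mul_card' (zpowers_le.2 m)
    have h1 : (zpowers (x * y)).relIndex Q ≠ 1 := fun h => nx (relIndex_eq_one.1 h hx)
    have := H7.relIndex_pos (zpowers (x * y)) Q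
    rw [Nat.card_zpowers, o4] at *
    omega
  refine H7.pgroup_of_forall fun g hg co => ?_
  have n := s.nQ hg
  have c := s.cen_eq.le (cen_of_fix_cyc s.pgroup m i n (Nat.coprime_two_right.1 co) ?_)
  · rcases (mem_zp_two s.oz).1 c with e | e
    · exact e
    · rw [e, s.oz] at co; norm_num at co
  by_contra k
  obtain ⟨j, hj⟩ := (mul_mem_iff_of_relIndex_two i (nconj_mem n m) hx).2 (iff_of_false k nx)
  have e1 : x * (x * y) * x⁻¹ = (x * y)⁻¹ := by
    rw [← mul_assoc, x2, one_mul, mul_inv_rev, inv_eq_of_mul_eq_one_left y2]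
  have e2 := inverts_zpow e1 j
  have e3 : g * (x * y) * g⁻¹ * (g * (x * y) * g⁻¹) = z := by
    rw [conj_mul, w2]; exact conj_eq_of_mem_cen (cen_zpowers z ▸ hg) (mem_zpowers z)
  dsimp only at hj
  rw [hj] at e2
  refine s.z1 (e3.symm.trans ?_)
  generalize g * (x * y) * g⁻¹ = u at e2
  rw [mul_inv_rev, ← mul_assoc, mul_inv_cancel_right, inv_eq_of_mul_eq_one_left x2,
    mul_right_inj] at e2
  exact mul_eq_one_iff_eq_inv.2 e2

end LX

theorem lg_of (h : IsLargeExtraspecial Q) : ∃ z, LX Q z ∧ (center Q).map Q.subtype = zpowers z :=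
  lx_of h.1 h.2.1 h.2.2.1

theorem lg_of' (h : IsLargeExtraspecial Q) (e : (center Q).map Q.subtype = zpowers z) : LX Q z := by
  obtain ⟨y, s, e'⟩ := lg_of h
  obtain rfl := zp_inj s.oz (by rw [← Nat.card_zpowers, ← e, e', xs_ord s.toXS]) (e'.symm.trans e)
  exact s

end H2
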