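import Cfsg.Agent.H2.LX1

/-!
# Large extraspecial `2`-subgroups: two orthogonal conjugates of the central involution.
-/

namespace H2
open Subgroup Cfsg H7 H1B
open scoped commutatorElement

variable {G : Type*} [Group G] [Finite G] {Q Q' R S T U V W A B K L H N P E X : Subgroup G} {p n w : ℕ}
  {a b c g k q r t u v x y z : G}

theorem s3hom (hW : ord W ≤ 4) : ∃ ψ : ↥(nrm W) →* Equiv.Perm (Fin 3), kr ψ = cen W := by
  classical
  haveI := Fintype.ofFinite W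
  obtain ⟨ι⟩ : Nonempty ({w : W // w ≠ 1} ↪ Fin 3) := Function.Embedding.nonempty_of_card_le (by
    rw [Fintype.card_subtype_compl, Fintype.card_subtype_eq, ← Nat.card_eq_fintype_card,
      Fintype.card_fin]; omega)
  let φ : MulAut W →* Equiv.Perm {w : W // w ≠ 1} := MonoidHom.mk'
    (fun α => Equiv.Perm.subtypePerm α.toEquiv fun w => by simp) fun α β => Equiv.ext fun _ => rfl
  have hφ : Function.Injective φ := (injective_iff_map_eq_one φ).2 fun α h => MulEquiv.ext fun w => by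
    by_cases c : w = 1
    · simp [c]
    exact congrArg Subtype.val (Equiv.congr_fun h ⟨w, c⟩)
  refine ⟨((Equiv.Perm.viaEmbeddingHom ι).comp φ).comp (act W), ?_⟩
  rw [← kr_act]; ext x
  rw [mem_kr, mem_kr]
  refine and_congr_right fun hx => ?_
  rw [ev_eq hx, ev_eq hx]
  exact (((Equiv.Perm.viaEmbeddingHom_injective ι).comp hφ).eq_iff' (by simp))

theorem card_braid (a2 : a * a = 1) (b2 : b * b = 1) (e : a * b * a = b * a * b) :
    ord (zpowers a ⊔ zpowers b) ≤ 6 := by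
  have ia := inv_eq_of_mul_eq_one_left a2
  have t3 : (a * b) ^ 3 = 1 := by
    calc _ = a * b * a * (b * a * b) := by simp only [pow_succ, pow_zero, one_mul, mul_assoc]
      _ = a * b * (a * a) * b * a := by rw [← e]; group
      _ = _ := by rw [a2, mul_one, mul_assoc a b b, b2, mul_one, a2]
  have n : a ∈ nrm (zpowers (a * b)) := mem_nrm_of_cj_le (by
    rw [cj_zpowers, zpowers_le, ← mul_assoc, a2, one_mul, ← inv_eq_of_mul_eq_one_left b2, ← mul_inv_rev,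
      inv_eq_of_mul_eq_one_left b2]
    exact inv_mem (mem_zpowers _))
  have := Nat.le_of_dvd (Nat.mul_pos (card_pos' _) two_pos)
    (H1.card_sup_zpowers_dvd (n := 2) n (by rw [sq, a2]; exact one_mem _))
  refine (card_le_of_le (sup_le le_sup_right (zpowers_le.2 ?_))).trans (this.trans ?_)
  · simpa using mul_mem (inv_mem (mem_sup_right (S := zpowers (a * b)) (mem_zpowers a)))
      (mem_sup_left (mem_zpowers (a * b)))
  · rw [Nat.card_zpowers]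
    exact Nat.mul_le_mul_right 2 (orderOf_le_of_pow_eq_one three_pos t3)

theorem LX.mul_mem (s : LX Q z) (hx : x ∈ Q) (ha : a ∈ Q) (hb : b ∈ Q) (ha' : a ∉ cen1 x)
    (hb' : b ∉ cen1 x) : a * b ∈ cen1 x := by
  have k : ∀ a ∈ Q, a ∉ cen1 x → ⁅x, a⁆ = z := fun a ha ha' =>
    ((mem_zp_two s.oz).1 (s.comm x hx a ha)).resolve_left fun e =>
      ha' (mem_cen1.2 (commutatorElement_eq_one_iff_mul_comm.1 e).symm)
  refine mem_cen1.2 (commutatorElement_eq_one_iff_mul_comm.1 ?_).symm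
  rw [s.comm_mul hx ha hb, k a ha ha', k b hb hb', s.z2]

/-- two orthogonal conjugate involutions with their extraspecial groups -/
structure PR (Q Q' : Subgroup G) (z x : G) : Prop where
  s : LX Q z
  hx : x ∈ Q
  hz : z ∈ Q'
  ne : x ≠ z
  conj : ∃ g, g * z * g⁻¹ = x ∧ cj g Q = Q'

theorem LX.pr (s : LX Q z) (hw : 2 ≤ w) (o : ord Q = 2 ^ (2 * w + 1)) (hx : g * z * g⁻¹ ∈ Q)
    (ne : g * z * g⁻¹ ≠ z) : PR Q (H2.cj g Q) z (g * z * g⁻¹) :=
  ⟨s, hx, s.sym_w hw o hx, ne, g, rfl, rfl⟩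

namespace PR
variable (h : PR Q Q' z x)
include h

omit [Finite G] in
theorem symm : PR Q' Q x z := by
  obtain ⟨g, rfl, rfl⟩ := h.conj
  exact ⟨h.s.cj g, h.hz, h.hx, h.ne.symm, g⁻¹, by group, H7.cj_inv_cj g Q⟩

theorem nz : x ∉ zpowers z := fun e => ((mem_zp_two h.s.oz).1 e).elim h.symm.s.z1 h.ne

theorem large : IsLargeExtraspecial Q := h.s.large_of h.hx h.nz h.symm.s.z2 (h.symm.s.le_Op h.hz)

omit [Finite G] in
theorem VQ : zpowers z ⊔ zpowers x ≤ Q := sup_le (zpowers_le.2 h.s.zm) (zpowers_le.2 h.hx)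

theorem nV : Q ≤ nrm (zpowers z ⊔ zpowers x) := h.s.le_nrm h.VQ (mem_sup_left (mem_zpowers z))

theorem nV' : Q' ≤ nrm (zpowers z ⊔ zpowers x) := sup_comm (zpowers x) _ ▸ h.symm.nV

theorem cm : Commute x z := h.s.commZ (mem_zpowers z) h.hx

omit h [Finite G] in
theorem cenV : cen (zpowers z ⊔ zpowers x) = cen1 z ⊓ cen1 x := by
  rw [cen_sup, cen_zpowers, cen_zpowers]

theorem memV (hy : y ∈ zpowers z ⊔ zpowers x) : y = 1 ∨ y = z ∨ y = x ∨ y = x * z := by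
  obtain ⟨a, ha, b, hb, rfl⟩ := (mem_sup_nrm' ((zpowers_le.2 h.hx).trans (h.s.le_nrm
    (zpowers_le.2 h.s.zm) (mem_zpowers z)))).1 hy
  rcases (mem_zp_two h.s.oz).1 ha with rfl | rfl <;>
    rcases (mem_zp_two h.symm.s.oz).1 hb with rfl | rfl <;> simp [h.cm.eq]

theorem cardV : ord (zpowers z ⊔ zpowers x) = 4 :=
  (card_sup_zp (h.s.le_nrm (zpowers_le.2 h.s.zm) (mem_zpowers z) h.hx) (h.symm.s.z2 ▸ one_mem _)
    h.nz).trans (by rw [xs_ord h.s.toXS])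

theorem idx6 (h1 : Q ≤ N) (h2 : Q' ≤ N) (n : N ≤ nrm (zpowers z ⊔ zpowers x)) :
    (cen (zpowers z ⊔ zpowers x)).relIndex N = 6 := by
  have oz := h.s.oz
  have ox := h.symm.s.oz
  obtain ⟨v, hv, e⟩ := h.s.exists_conj h.hx h.nz
  obtain ⟨v', hv', e'⟩ := h.symm.s.exists_conj h.hz h.symm.nz
  have oc : ∀ g y : G, orderOf y = 2 → orderOf (g * y * g⁻¹) = 2 := fun g y k =>
    (MulEquiv.orderOf_eq (MulAut.conj g) y).trans k
  have o3 : orderOf (x * z) = 2 := e ▸ oc v x ox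
  have k : ∀ g ∈ N, ∀ y ∈ zpowers z ⊔ zpowers x, y ≠ 1 → cj g (zpowers y) = zpowers z ∨
      cj g (zpowers y) = zpowers x ∨ cj g (zpowers y) = zpowers (x * z) := fun g hg y hy y1 => by
    rw [cj_zpowers]
    rcases h.memV (nconj_mem (n hg) hy) with e | e | e | e
    exacts [absurd (conj_eq_one_iff.1 e) y1, Or.inl (by rw [e]), Or.inr (Or.inl (by rw [e])),
      Or.inr (Or.inr (by rw [e]))]
  have fx : ∀ g y : G, orderOf y = 2 → (g ∈ cen1 y ↔ cj g (zpowers y) = zpowers y) := fun g y o =>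
    ⟨fun k => cj_of_mem_nrm (cen_le_nrm _ (cen_zpowers y ▸ k)), fun k => nrm_zp_two o (cj_eq_self_iff.1 k)⟩
  refine ((three_idx (X := zpowers z) (Y := zpowers x) (W := zpowers (x * z))
    (fun k => h.ne (zp_inj oz ox k).symm) (fun k => h.symm.s.z1 (mul_eq_right.1 (zp_inj oz o3 k).symm))
    (fun k => h.s.z1 (mul_eq_left.1 (zp_inj ox o3 k).symm)) (fun g hg U hU => ?_) (h1 hv)
    ((fx _ _ oz).1 (h.s.le hv)) (by rw [cj_zpowers, e]) fun g _ => ?_).resolve_left fun k => ?_).1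
  · rcases hU with rfl | rfl | rfl
    exacts [k g hg _ (mem_sup_left (mem_zpowers z)) h.s.z1,
      k g hg _ (mem_sup_right (mem_zpowers x)) h.symm.s.z1,
      k g hg _ (mul_mem (mem_sup_right (mem_zpowers x)) (mem_sup_left (mem_zpowers z))) (ord2.1 o3).2]
  · rw [cenV, mem_inf, fx _ _ oz, fx _ _ ox]
  · have := mem_cen1.1 (nrm_zp_two oz (k.2 (h2 hv')))
    rw [this, mul_inv_cancel_right] at e'
    exact h.symm.s.z1 (left_eq_mul.1 e')

theorem cQ : ⁅cen1 z ⊓ cen1 x, Q⁆ ≤ Q ⊓ cen1 x :=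
  le_inf (comm_le_right (inf_le_left.trans h.s.nQ))
    ((comm_le_left (by rw [← cenV]; exact nrm_cen h.nV)).trans inf_le_right)

theorem RC : Q' ⊓ cen1 z ⊔ Q ⊓ cen1 x ≤ cen1 z ⊓ cen1 x :=
  sup_le (le_inf inf_le_right (inf_le_left.trans h.symm.s.le)) (inf_le_inf_right _ h.s.le)

theorem nR : Q ⊔ Q' ≤ nrm (Q' ⊓ cen1 z ⊔ Q ⊓ cen1 x) :=
  sup_le (le_nrm_of_comm_le' h.RC (h.cQ.trans le_sup_right))
    (le_nrm_of_comm_le' h.RC ((inf_comm (cen1 x) _ ▸ h.symm.cQ).trans le_sup_left))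

theorem cX : ⁅cen1 z ⊓ cen1 x, Q ⊔ Q'⁆ ≤ Q' ⊓ cen1 z ⊔ Q ⊓ cen1 x :=
  comm_sup_le' (le_sup_left.trans h.nR) (le_sup_right.trans h.nR) (h.cQ.trans le_sup_right)
    ((inf_comm (cen1 x) _ ▸ h.symm.cQ).trans le_sup_left)

omit [Finite G] h in
theorem RX : Q' ⊓ cen1 z ⊔ Q ⊓ cen1 x ≤ Q ⊔ Q' :=
  sup_le (inf_le_left.trans le_sup_right) (inf_le_left.trans le_sup_left)

theorem im_le {G' : Type*} [Group G'] {D : Subgroup G} {f : D →* G'} (l : Q ≤ D)
    (k : Q ⊓ cen1 x ≤ kr f) (hv : v ∈ Q) (hv' : v ∉ cen1 x) :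
    im f Q ≤ zpowers (ev f v) ∧ ev f v * ev f v = 1 := by
  have e : ∀ a ∈ Q, a ∉ cen1 x → ev f a * ev f v = 1 := fun a ha ha' => by
    rw [← ev_mul (l ha) (l hv), ev_eq_one_iff (l (mul_mem ha hv))]
    exact k ⟨mul_mem ha hv, h.s.mul_mem h.hx ha hv ha' hv'⟩
  refine ⟨fun y hy => ?_, e v hv hv'⟩
  obtain ⟨a, ha, rfl⟩ := (mem_im_of_le l).1 hy
  by_cases c : a ∈ cen1 x
  · rw [(ev_eq_one_iff (l ha)).2 (k ⟨ha, c⟩)]; exact one_mem _
  · rw [eq_inv_of_mul_eq_one_left (e a ha c)]; exact inv_mem (mem_zpowers _)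

theorem R_eq : Q' ⊓ cen1 z ⊔ Q ⊓ cen1 x = (Q ⊔ Q') ⊓ cen (zpowers z ⊔ zpowers x) := by
  obtain ⟨v, hv, e⟩ := h.s.exists_conj h.hx h.nz
  obtain ⟨v', hv', e'⟩ := h.symm.s.exists_conj h.hz h.symm.nz
  have n : v ∉ cen1 x := fun k => h.s.z1 (left_eq_mul.1
    ((conj_eq_of_mem_cen (cen_zpowers x ▸ k) (mem_zpowers x)).symm.trans e))
  have n' : v' ∉ cen1 z := fun k => h.symm.s.z1 (left_eq_mul.1
    ((conj_eq_of_mem_cen (cen_zpowers z ▸ k) (mem_zpowers z)).symm.trans e'))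
  have nR := h.nR
  set R := Q' ⊓ cen1 z ⊔ Q ⊓ cen1 x
  have l := le_sup_left.trans nR
  have l' := le_sup_right.trans nR
  obtain ⟨a1, a2⟩ := h.im_le (f := qm R) l (by rw [kr_qm]; exact le_sup_right) hv n
  obtain ⟨b1, b2⟩ := h.symm.im_le (f := qm R) l' (by rw [kr_qm]; exact le_sup_left) hv' n'
  have m : v⁻¹ * (v' * v * v'⁻¹) * v ∈ Q' := by
    obtain ⟨g, rfl, rfl⟩ := h.conj
    rw [← mem_cj, ← H7.cj_mul, h.s.cj_eq (h := v') (by
      rw [e', ← h.cm.eq, ← e]; group)]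
    exact H7.conj_mem_cj.2 hv
  have m' : v⁻¹ * (v' * v * v'⁻¹) * v ∉ cen1 z := fun k => by
    have k1 := (mul_mem_cancel_left (inv_mem (h.s.le hv))).1 (by simpa only [mul_assoc] using k)
    have k2 : v' * v * v'⁻¹ ∈ cen1 z := by
      simpa only [mul_assoc, mul_inv_cancel, mul_one] using mul_mem k1 (inv_mem (h.s.le hv))
    have k3 : v' * v * v'⁻¹ ∈ cj v' (cen1 z) := H7.conj_mem_cj.2 (h.s.le hv)
    rw [cj_cen1, e'] at k3
    have k4 : v' * v * v'⁻¹ ∈ cen1 x := mem_cen1.2 (mul_left_cancel (a := z) (by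
      rw [← mul_assoc, ← mem_cen1.1 k2, mul_assoc _ z, mem_cen1.1 k3, mul_assoc]))
    have c := h.symm.s.le hv'
    exact n (by simpa only [mul_assoc, inv_mul_cancel_left, inv_mul_cancel, mul_one] using
      Subgroup.mul_mem _ (Subgroup.mul_mem _ (inv_mem c) k4) c)
  have k := (ev_eq_one_iff (f := qm R) (l' (mul_mem m hv'))).2 (by
    rw [kr_qm]; exact mem_sup_left ⟨mul_mem m hv', h.symm.s.mul_mem h.hz m hv' m' n'⟩)
  rw [ev_mul (l' m) (l' hv'), ev_mul (mul_mem (inv_mem (l hv)) (nconj_mem (le_nrm_self _ (l' hv'))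
    (l hv))) (l hv), ev_mul (inv_mem (l hv)) (nconj_mem (le_nrm_self _ (l' hv')) (l hv)),
    ev_conj (l' hv') (l hv), ev_inv (l hv), inv_eq_of_mul_eq_one_left b2] at k
  have c := (card_le_of_le ((im_sup l l').le.trans (sup_le_sup a1 b1))).trans (card_braid a2 b2 (by
    generalize ev (qm R) v = a at *
    generalize ev (qm R) v' = b at *
    calc _ = a * (a⁻¹ * (b * a * b) * a * b) * (b * a) := by rw [k]; group
      _ = b * a * b * a * (b * b) * a := by group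
      _ = _ := by rw [b2, mul_one, mul_assoc, a2, mul_one]))
  rw [card_im nR, kr_qm] at c
  refine H7.eq_of_le_of_card_le (le_inf RX (by rw [cenV]; exact h.RC))
    (Nat.le_of_mul_le_mul_left ?_ (by omega : 0 < 6))
  have := relIndex_mul_card_inf (cen (zpowers z ⊔ zpowers x)) (Q ⊔ Q')
  rw [h.idx6 le_sup_left le_sup_right (sup_le h.nV h.nV'), inf_comm] at this
  rw [this, ← relIndex_mul_card' RX]
  exact Nat.mul_le_mul_right _ c

theorem pR : IsPGroup 2 (Q' ⊓ cen1 z ⊔ Q ⊓ cen1 x : Subgroup G) :=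
  isPGroup_sup (nrm_inf (inf_le_right.trans h.s.nQ) ((inf_le_left.trans h.symm.s.le).trans
    (le_nrm_self _))) (h.symm.s.pgroup.to_le inf_le_left) (h.s.pgroup.to_le inf_le_left)

theorem R_Op : Q' ⊓ cen1 z ⊔ Q ⊓ cen1 x = Op 2 (Q ⊔ Q') := by
  refine le_antisymm (H7.le_Op RX h.nR h.pR) (h.R_eq ▸ le_inf (Opi_le _ _) (le_cen_symm ?_))
  have n := sup_le h.nV h.nV'
  have pV := h.s.pgroup.to_le h.VQ
  have k := pgroup_inf_cen_ne_bot' (isPGroup_Op 2 (Q ⊔ Q')) pV ((Opi_le _ _).trans n) fun e =>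
    h.s.z1 (mem_bot.1 (e.le (mem_sup_left (mem_zpowers z))))
  have n' := nrm_inf n (nrm_cen (le_nrm_Opi {2} (Q ⊔ Q')))
  exact sup_le (zpowers_le.2 (h.s.z_mem (pV.to_le inf_le_left) (le_sup_left.trans n') k).2)
    (zpowers_le.2 (h.symm.s.z_mem (pV.to_le inf_le_left) (le_sup_right.trans n') k).2)

theorem nrmV : nrm (zpowers z ⊔ zpowers x) = (Q ⊔ Q') ⊔ cen (zpowers z ⊔ zpowers x) := by
  have l := sup_le (sup_le h.nV h.nV') (cen_le_nrm _)
  refine (H7.eq_of_le_of_card_le l ?_).symm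
  rw [← relIndex_mul_card' (cen_le_nrm _), ← relIndex_mul_card' (le_sup_right (a := Q ⊔ Q')),
    h.idx6 h.nV h.nV' le_rfl, h.idx6 (le_sup_left.trans le_sup_left) (le_sup_right.trans le_sup_left) l]

theorem s3 : ∃ _ : ((Q' ⊓ cen1 z ⊔ Q ⊓ cen1 x).subgroupOf (Q ⊔ Q')).Normal,
    Nonempty (↥(Q ⊔ Q') ⧸ (Q' ⊓ cen1 z ⊔ Q ⊓ cen1 x).subgroupOf (Q ⊔ Q') ≃* Equiv.Perm (Fin 3)) := by
  obtain ⟨ψ, hψ⟩ := s3hom h.cardV.le
  have n := sup_le h.nV h.nV'
  have e : (ψ.comp (inclusion n)).ker = (Q' ⊓ cen1 z ⊔ Q ⊓ cen1 x).subgroupOf (Q ⊔ Q') := by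
    rw [h.R_eq, inf_subgroupOf_left, ← hψ]; ext y
    rw [mem_subgroupOf, ← ev_eq_one_iff (n y.2), ev_eq (n y.2)]; rfl
  haveI := normal_subgroupOf h.nR
  refine ⟨this, ⟨(QuotientGroup.quotientMulEquivOfEq e.symm).trans
    (QuotientGroup.quotientKerEquivOfSurjective _ (MonoidHom.range_eq_top.1
      (eq_top_of_card_eq _ ?_)))⟩⟩
  rw [← index_ker, e, h.R_eq, inf_subgroupOf_left, Nat.card_perm, Nat.card_fin]
  exact h.idx6 le_sup_left le_sup_right n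

omit [Finite G] in
theorem AB : (Q' ⊓ cen1 z) ⊓ (Q ⊓ cen1 x) = Q ⊓ Q' :=
  le_antisymm (le_inf (inf_le_right.trans inf_le_left) (inf_le_left.trans inf_le_left))
    (le_inf (le_inf inf_le_right (inf_le_left.trans h.s.le))
      (le_inf inf_le_left (inf_le_right.trans h.symm.s.le)))

omit [Finite G] in
theorem VE : zpowers z ⊔ zpowers x ≤ Q ⊓ Q' := le_inf h.VQ (sup_comm (zpowers x) _ ▸ h.symm.VQ)

omit [Finite G] in
theorem ER : Q ⊓ Q' ≤ Q' ⊓ cen1 z ⊔ Q ⊓ cen1 x := h.AB.ge.trans (inf_le_left.trans le_sup_left)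

theorem ZR : (Q' ⊓ cen1 z ⊔ Q ⊓ cen1 x) ⊓ cen (Q' ⊓ cen1 z ⊔ Q ⊓ cen1 x) = zpowers z ⊔ zpowers x :=
  le_antisymm (fun _ ha => h.s.mem_of_cen h.hx h.nz h.symm.s.z2 (h.RC ha.1).1 (cen_anti le_sup_right ha.2))
    (le_inf (h.VE.trans h.ER) (le_cen_symm (by rw [cenV]; exact h.RC)))

theorem XE : ⁅Q ⊔ Q', Q ⊓ Q'⁆ ≤ zpowers z ⊔ zpowers x :=
  comm_sup_le h.nV h.nV' (((commutator_mono le_rfl inf_le_left).trans h.s.der).trans le_sup_left)
    (((commutator_mono le_rfl inf_le_right).trans h.symm.s.der).trans le_sup_right)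

theorem inf_zp : zpowers z ⊓ zpowers x = ⊥ := le_bot_iff.1 fun y hy => by
  rcases (mem_zp_two h.symm.s.oz).1 hy.2 with e | e
  exacts [e, absurd (e ▸ hy.1) h.nz]

theorem eaE : EA 2 (Q ⊓ Q') := ea_iff.2 ⟨comm_eq_bot.1 (le_bot_iff.1 (h.inf_zp ▸ le_inf
  ((commutator_mono inf_le_left inf_le_left).trans h.s.der)
  ((commutator_mono inf_le_right inf_le_right).trans h.symm.s.der))),
  fun a ha => mem_bot.1 (h.inf_zp.le ⟨h.s.pow a ha.1, h.symm.s.pow a ha.2⟩)⟩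

theorem nE : Q' ⊓ cen1 z ⊔ Q ⊓ cen1 x ≤ nrm (Q ⊓ Q') :=
  h.RC.trans (nrm_inf (inf_le_left.trans h.s.nQ) (inf_le_right.trans h.symm.s.nQ))

theorem RR : ⁅Q' ⊓ cen1 z ⊔ Q ⊓ cen1 x, Q' ⊓ cen1 z ⊔ Q ⊓ cen1 x⁆ ≤ Q ⊓ Q' := by
  have a := le_sup_left.trans h.nE
  have b := le_sup_right.trans h.nE
  have c : ⁅Q' ⊓ cen1 z, Q ⊓ cen1 x⁆ ≤ Q ⊓ Q' := le_inf
    ((commutator_mono inf_le_right inf_le_left).trans (comm_le_right h.s.nQ))
    ((commutator_mono inf_le_left inf_le_right).trans (comm_le_left h.symm.s.nQ))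
  exact comm_sup_le a b (comm_sup_le' a b (((commutator_mono inf_le_left inf_le_left).trans
    h.symm.s.der).trans (le_sup_right.trans h.VE)) c) (comm_sup_le' a b (cswap c)
      (((commutator_mono inf_le_left inf_le_left).trans h.s.der).trans (le_sup_left.trans h.VE)))

theorem sqR (hy : y ∈ Q' ⊓ cen1 z ⊔ Q ⊓ cen1 x) : y ^ 2 ∈ Q ⊓ Q' := by
  obtain ⟨a, ha, b, hb, rfl⟩ := (mem_sup_nrm (nrm_inf (inf_le_right.trans h.s.nQ)
    ((inf_le_left.trans h.symm.s.le).trans (le_nrm_self _)))).1 hy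
  have : (a * b) ^ 2 = a ^ 2 * ⁅a⁻¹, b⁆ * b ^ 2 := by simp only [sq, commutatorElement_def]; group
  exact this ▸ mul_mem (mul_mem (h.VE (mem_sup_right (h.symm.s.pow a ha.1))) (h.RR
    (commutator_mem_commutator (inv_mem (mem_sup_left ha)) (mem_sup_right hb))))
      (h.VE (mem_sup_left (h.s.pow b hb.1)))

end PR

omit [Finite G] in
theorem closure_two : Subgroup.closure ({a, b} : Set G) = zpowers a ⊔ zpowers b := by
  rw [zpowers_eq_closure, zpowers_eq_closure, ← Subgroup.closure_union]; rfl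

omit [Finite G] in
theorem mem_ucs_two (ha : a ∈ R) (h : ⁅R, E⁆ ≤ cen R) (hE : a ∈ E) :
    (⟨a, ha⟩ : R) ∈ Subgroup.upperCentralSeries R 2 :=
  Subgroup.mem_upperCentralSeries_succ_iff.2 fun y => by
    rw [Subgroup.upperCentralSeries_one, mem_center_iff]
    exact fun g => Subtype.ext (mem_cen.1 (cswap h (commutator_mem_commutator hE y.2)) g g.2)

end H2
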