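import Cfsg.Agent.H2.LX2
import Cfsg.Agent.H1.LS1

/-!
# Groups with a large extraspecial `2`-subgroup: the normal closure of the central involution.
-/

namespace H2
open Subgroup Cfsg H7 H1B
open scoped commutatorElement

variable {G : Type*} [Group G] [Finite G] {Q Q' R S T U V W A B K L H M N P E X : Subgroup G} {p n w : ℕ}
  {a b c d g k q r t u v x y z : G}

omit [Finite G] in
theorem split_eq (h : L ⊓ cen L = ⊥) (ha : a ∈ L) (hb : b ∈ L) (hc : c ∈ cen L) (hd : d ∈ cen L)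
    (e : a * c = b * d) : a = b := by
  have : b⁻¹ * a = d * c⁻¹ := by rw [eq_mul_inv_iff_mul_eq, mul_assoc, e, inv_mul_cancel_left]
  exact (inv_mul_eq_one.1 (mem_bot.1 (h.le ⟨L.mul_mem (inv_mem hb) ha,
    this ▸ (cen L).mul_mem hd (inv_mem hc)⟩))).symm

theorem qs_big (h : QS L) (hP : IsSylowIn 2 P L) (k : ∀ s ∈ P, ∀ t ∈ P, s ≠ 1 → t ≠ 1 → s = t) :
    False := by
  have c : nrm P ≤ cen P := fun g hg => mem_cen.2 fun t ht => by
    by_cases e : t = 1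
    · simp [e]
    exact (mul_inv_eq_iff_eq_mul.1 (k _ (nconj_mem hg ht) t ht (fun e' => e (conj_eq_one_iff.1 e')) e)).symm
  have e := (H7.npc_burnside hP (inf_le_right.trans c)).sup hP
  have o := h.Op'_le_cen h.two_dvd
  exact h.not_le_cen (e.ge.trans (sup_le o (e ▸ le_cen_sup (le_cen_symm (o.trans (cen_anti hP.le)))
    ((le_nrm_self P).trans c))))

namespace LX
variable (s : LX Q z)
include s

theorem mem_of_large (hl : IsLargeExtraspecial Q) (n : Q ≤ nrm N) (h : N ≠ ⊥) : z ∈ N := by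
  obtain ⟨T, hT, l⟩ := exists_isSylowIn_ge s.pgroup (le_sup_left (b := N))
  have t := hT.inf_normal (sup_le n (le_nrm_self N))
  rw [inf_eq_right.2 (le_sup_right (a := Q))] at t
  refine (s.z_mem t.isPGroup (nrm_inf (l.trans (le_nrm_self T)) n) fun e => h (hl.2.2.2 N ?_ n)).2
  exact Nat.odd_iff.2 (Nat.two_dvd_ne_zero.1 (syl_bot_iff.1 (e ▸ t)))

theorem not_comp (hK : IsComp K ⊤) : ¬ K ≤ cen1 z := fun h =>
  hK.qs.not_le_solv (haveI := s.pgroup.isNilpotent; (inferInstance : Group.IsSolvable Q))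
    ((hK.le_or_cen_of_nrm le_top (h.trans s.nQ)).elim id fun k => k.trans s.cQ)

theorem struct (hl : IsLargeExtraspecial Q) (hM : M = normalClosure {z}) :
    (M ≤ cen M ∧ Fst ⊤ = Op 2 (⊤ : Subgroup G)) ∨ (M = Fst ⊤ ∧ QS M ∧ M ⊓ cen M = ⊥) ∨
    (M = Fst ⊤ ∧ ∃ L u, u ∈ Q ∧ QS L ∧ L ⊓ cen L = ⊥ ∧ H2.cj u L ≤ cen L ∧ L ⊔ H2.cj u L = M ∧
      ∃ y ∈ L, z = y * (u * y * u⁻¹) ∧ IsSylowIn 2 (L ⊓ cen1 y) L ∧
        (∀ a ∈ L ⊓ cen1 y, a ^ 2 ∈ zpowers y) ∧ Q ≠ Op 2 (cen1 z)) := by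
  have mM : ∀ N : Subgroup G, ⊤ ≤ nrm N → z ∈ N → M ≤ N := fun N n hz =>
    haveI := normalizer_eq_top_iff.1 (top_le_iff.1 n)
    hM ▸ normalClosure_le_normal (Set.singleton_subset_iff.2 hz)
  have zM : z ∈ M := hM ▸ subset_normalClosure rfl
  have nM : ⊤ ≤ nrm M := hM ▸ le_nrm_of_normal ⊤ _
  have o' : Op' 2 (⊤ : Subgroup G) = ⊥ := hl.2.2.2 _ (Nat.coprime_two_right.1 (coprime_Op' 2 ⊤))
    (le_top.trans (le_nrm_Opi _ ⊤))
  by_cases o : Op 2 (⊤ : Subgroup G) = ⊥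
  swap
  · have n := nrm_inf (le_nrm_Opi {2} (⊤ : Subgroup G)) (nrm_cen (le_nrm_Opi {2} ⊤))
    have m := s.z_mem ((isPGroup_Op 2 ⊤).to_le inf_le_left) (le_top.trans n)
      (pgroup_inf_cen_ne_bot' (isPGroup_Op 2 ⊤) (isPGroup_Op 2 ⊤) (le_nrm_self _) o)
    have l := mM _ n m
    exact Or.inl ⟨l.trans (inf_le_right.trans (cen_anti (l.trans inf_le_left))), Fst_eq_Op_of
      (Lay_eq_bot_iff.2 fun K hK => s.not_comp hK (hK.le_Lay.trans ((Lay_le_cen_Op 2 ⊤).trans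
        (cen_le_cen1 m.1)))) o'⟩
  have eF : Fst (⊤ : Subgroup G) = Lay ⊤ := by
    rw [Fst, Fit_eq_Op o', o]; simp
  have l1 : Lay (⊤ : Subgroup G) ≠ ⊥ := eF ▸ Fst_ne_bot fun e => s.z1 (mem_bot.1 (e.le (mem_top z)))
  have zL := s.mem_of_large hl (le_top.trans (le_nrm_Lay ⊤)) l1
  have eM : M = Lay ⊤ := le_antisymm (mM _ (le_nrm_Lay ⊤) zL) (Lay_le_iff.2 fun K hK =>
    (hK.le_or_cen (SN.of_normal le_top nM)).resolve_right fun k => s.not_comp hK (k.trans (cen_le_cen1 zM)))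
  obtain ⟨L, hL⟩ := exists_isComp l1
  have cL : L ⊓ cen L = ⊥ := le_bot_iff.1 (o ▸ hL.center_le_Op o')
  have cp : ∀ g : G, IsComp (H2.cj g L) ⊤ := fun g => hL.cj_of_mem_nrm (le_nrm_self _ (mem_top g))
  have tr : ∀ K, IsComp K ⊤ → ∃ v ∈ Q, H2.cj v L = K := fun K hK => by
    by_contra! c
    have l : K ≤ cen (⨆ v ∈ Q, H2.cj v L) :=
      le_cen_symm (iSup₂_le fun v hv => (cp v).cen_of_ne hK (c v hv))
    have n : Q ≤ nrm (⨆ v ∈ Q, H2.cj v L) := fun g hg => mem_nrm_of_cj_le (by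
      rw [H7.cj_le_iff]
      refine iSup₂_le fun v hv => ?_
      rw [← H7.cj_le_iff, ← H7.cj_mul]
      exact le_iSup₂_of_le (f := fun v (_ : v ∈ Q) => H2.cj v L) _ (Subgroup.mul_mem _ hg hv) le_rfl)
    have := s.mem_of_large hl (nrm_cen n) fun e => hK.qs.not_le_cen ((e ▸ l).trans bot_le)
    exact s.not_comp hL (le_cen1_iff.2 (cen_anti (le_iSup₂_of_le (f := fun v (_ : v ∈ Q) => H2.cj v L)
      1 (one_mem _) (H7.cj_one L).ge) this))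
  refine Or.inr ?_
  by_cases n : Q ≤ nrm L
  · have e : M = L := eM.trans (le_antisymm (Lay_le_iff.2 fun K hK => by
      obtain ⟨v, hv, rfl⟩ := tr K hK
      exact (cj_of_mem_nrm (n hv)).le) hL.le_Lay)
    exact Or.inl ⟨eM.trans eF.symm, e ▸ hL.qs, e ▸ cL⟩
  obtain ⟨u, hu, hu'⟩ := SetLike.not_le_iff_exists.1 n
  have cn : ∀ g : G, g ∉ nrm L → H2.cj g L ≤ cen L := fun g hg =>
    (cp g).cen_of_ne hL fun e => hg (cj_eq_self_iff.1 e)
  have sq : ∀ v ∈ Q, v * v ∈ nrm L := fun v hv =>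
    zpowers_le.2 (hL.Lay_le_nrm zL) (sq v ▸ s.pow v hv)
  obtain ⟨T, hT⟩ := exists_isSylowIn 2 (cen1 z)
  have t := syl_sn (s.syl hT).2.2 hL.sn
  have tl : T ⊓ L ≤ L ⊓ cen1 z := le_inf inf_le_right (inf_le_left.trans hT.le)
  have big : (∀ a ∈ L ⊓ cen1 z, ∀ b ∈ L ⊓ cen1 z, a ≠ 1 → b ≠ 1 → a = b) → False := fun k =>
    qs_big hL.qs t fun a ha b hb => k a (tl ha) b (tl hb)
  have mq : ∀ a ∈ L ⊓ cen1 z, ⁅a, u⁆ ∈ Q := fun a ha =>
    comm_le_right (zpowers_le.2 (s.nQ ha.2)) (commutator_mem_commutator (mem_zpowers a)  hu)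
  have mc : ∀ a ∈ L, u * a * u⁻¹ ∈ cen L := fun a ha => cn u hu' (H7.conj_mem_cj.2 ha)
  have eq : ∀ a, ⁅a, u⁆ = a * (u * a⁻¹ * u⁻¹) := fun a => by group
  have two : ∀ v ∈ Q, H2.cj v L = L ∨ H2.cj v L = H2.cj u L := fun v hv => by
    by_contra! c
    have c1 : v ∉ nrm L := fun k => c.1 (cj_of_mem_nrm k)
    have c2 : v * u ∉ nrm L := fun k => c.2 (by
      conv_lhs => rw [← cj_of_mem_nrm k]
      rw [← H7.cj_mul, ← mul_assoc, H7.cj_mul]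
      exact cj_of_mem_nrm (zpowers_le.2 ((cp u).Lay_le_nrm zL) (pow_two v ▸ s.pow v hv)))
    have k : ∀ a ∈ L ⊓ cen1 z, a ≠ 1 → z * a ∈ cen L := fun a ha a1 => by
      have m : ⁅v, ⁅a, u⁆⁆ * a ∈ cen L := by
        have m1 := Subgroup.mul_mem _ (Subgroup.mul_mem _ (cn v c1 (H7.conj_mem_cj.2 ha.1))
          (cn _ c2 (H7.conj_mem_cj.2 (inv_mem ha.1)))) (mc a ha.1)
        convert m1 using 1
        group
      rcases (mem_zp_two s.oz).1 (s.comm v hv _ (mq a ha)) with e | e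
      · exact absurd (mem_bot.1 (cL.le ⟨ha.1, by rwa [e, one_mul] at m⟩)) a1
      · exact e ▸ m
    exact big fun a ha b hb a1 b1 => split_eq cL ha.1 hb.1 (inv_mem (k a ha a1)) (inv_mem (k b hb b1))
      (by group)
  have eL : L ⊔ H2.cj u L = M := eM ▸ le_antisymm (sup_le hL.le_Lay (cp u).le_Lay)
    (Lay_le_iff.2 fun K hK => by
      obtain ⟨v, hv, rfl⟩ := tr K hK
      rcases two v hv with e | e
      exacts [e.le.trans le_sup_left, e.le.trans le_sup_right])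
  obtain ⟨y, hy, y', hy', e⟩ := (mem_sup_nrm' ((cn u hu').trans (cen_le_nrm L))).1 (eL.ge zM)
  have c' := cn u hu' hy'
  have e1 : y' = u * y * u⁻¹ := by
    have m : u * y' * u⁻¹ ∈ L := by
      rw [← cj_of_mem_nrm (sq u hu), H7.cj_mul]; exact H7.conj_mem_cj.2 hy'
    have e2 : y * y' = u * y' * u⁻¹ * (u * y * u⁻¹) := by
      rw [mem_cen.1 (mc y hy) _ m, conj_mul, e]
      exact (conj_eq_of_mem_cen (cen_zpowers z ▸ s.le hu) (mem_zpowers z)).symm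
    rw [← split_eq cL hy m c' (mc y hy) e2] at e2
    exact mul_left_cancel e2
  have eP : L ⊓ cen1 y = L ⊓ cen1 z := Subgroup.ext fun a => and_congr_right fun ha => by
    show a ∈ cen1 y ↔ a ∈ cen1 z
    rw [mem_cen1, mem_cen1, ← e, mul_assoc y, ← mem_cen.1 c' a ha, ← mul_assoc, ← mul_assoc, mul_left_inj]
  have dich : ∀ a ∈ L, ∀ c ∈ cen L, a * c ∈ zpowers z → a = 1 ∨ a = y := fun a ha c hc m =>
    ((mem_zp_two s.oz).1 m).imp (fun k => split_eq cL ha (one_mem _) hc (one_mem _) (k.trans (mul_one 1).symm))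
      fun k => split_eq cL ha hy hc c' (k.trans e.symm)
  have sqr : ∀ a ∈ L, ∀ c ∈ cen L, a * c ∈ Q → a ^ 2 = 1 ∨ a ^ 2 = y := fun a ha c hc m =>
    dich _ (pow_mem ha 2) _ (pow_mem hc 2) (by
      rw [← Commute.mul_pow (mem_cen.1 hc a ha)]; exact s.pow _ m)
  have sq' : ∀ a ∈ L ⊓ cen1 z, a ^ 2 = 1 ∨ a ^ 2 = y := fun a ha =>
    sqr a ha.1 _ (mc _ (inv_mem ha.1)) (eq a ▸ mq a ha)
  have y2 : y ^ 2 = 1 := split_eq cL (pow_mem hy 2) (one_mem _) (pow_mem c' 2) (one_mem _) (by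
    rw [← Commute.mul_pow (mem_cen.1 c' y hy), e, mul_one, pow_two, s.z2])
  have pP : IsPGroup 2 (L ⊓ cen1 z : Subgroup G) := H7.isPGroup_iff_mem.2 fun a ha => ⟨2, by
    rcases sq' a ha with k | k <;> rw [pow_two 2, pow_mul, k]
    exacts [one_pow 2, y2]⟩
  refine Or.inr ⟨eM.trans eF.symm, L, u, hu, hL.qs, cL, cn u hu', eL, y, hy, e1 ▸ e.symm,
    eP ▸ t.eq_of_le pP tl inf_le_left ▸ t, fun a ha => ?_, fun eO => big fun a ha b hb a1 b1 => ?_⟩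
  · rcases sq' a (eP.le ha) with k | k <;> rw [k]
    exacts [one_mem _, mem_zpowers y]
  · have l := eO ▸ le_Op_of_sn (hL.sn.inf_of_le (le_top (a := cen1 z))) pP
    have k : ∀ a ∈ L ⊓ cen1 z, a ≠ 1 → a = y := fun a ha a1 =>
      (dich a ha.1 _ (mc _ (inv_mem ha.1)) (eq a ▸ s.comm a (l ha) u hu)).resolve_left a1
    rw [k a ha a1, k b hb b1]

theorem simple (hl : IsLargeExtraspecial Q) (hO : Q = Op 2 (cen1 z))
    (hM : cen1 z ≤ normalClosure {z}) : IsSimpleGroup G := by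
  rcases s.struct hl rfl with h | h | ⟨-, L, u, -, -, -, -, -, y, -, -, -, -, h⟩
  · exact absurd ((s.le.trans hM).trans (h.1.trans (cen_anti (s.le.trans hM)))) s.nc
  swap
  · exact absurd hO h
  obtain ⟨T, hT⟩ := exists_isSylowIn 2 (cen1 z)
  obtain ⟨l, c, t⟩ := s.syl hT
  have e : normalClosure {z} = (⊤ : Subgroup G) := top_le_iff.1 fun g _ => by
    obtain ⟨n, hn, k⟩ := (t.mono (hT.le.trans hM) le_top).frattini (le_nrm_of_normal ⊤ _ (mem_top g))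
    exact (mul_mem_cancel_left hn).1 (hM (nrm_zp_two s.oz
      (le_antisymm c (zpowers_le.2 (le_cen1_iff.1 hT.le)) ▸ nrm_cen le_rfl k)))
  haveI := h.2.1.simple h.2.2
  exact (((MulEquiv.subgroupCongr e).trans topEquiv).symm).isSimpleGroup

end LX

omit [Finite G] in
theorem commutator_mem_of (ha : a ∈ H) (hb : b ∈ H) : ⁅a, b⁆ ∈ H :=
  mul_mem (mul_mem (mul_mem ha hb) (inv_mem ha)) (inv_mem hb)

section quot
variable {G' : Type*} [Group G'] [Finite G'] {D : Subgroup G} {f : D →* G'}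

omit [Finite G] [Finite G'] in
theorem ev_mem_zp (hz : z ∈ D) (hd : d ∈ D) : ev f d ∈ zpowers (ev f z) ↔ d ∈ zpowers z ⊔ kr f := by
  rw [← im_zpowers hz, ← im_sup_kr (zpowers_le.2 hz), ev_mem_im_iff hd le_sup_right]

omit [Finite G] [Finite G'] in
theorem cen1_ev_le (hf : Function.Surjective f) (hz : z ∈ D)
    (h1 : ∀ d ∈ D, ⁅d, z⁆ ∈ kr f → ∃ c ∈ nrm R, c ∈ D ∧ ev f c = ev f d) :
    cen1 (ev f z) ≤ nrm (im f R) := fun y hy => by
  obtain ⟨d, rfl⟩ := hf y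
  obtain ⟨c, hc, -, e⟩ := h1 d d.2 (by
    rw [← ev_eq_one_iff (commutator_mem_of d.2 hz), ev_comm d.2 hz, ev_coe]
    exact commutatorElement_eq_one_iff_mul_comm.2 (mem_cen1.1 hy))
  rw [← ev_coe, ← e]
  exact im_le_nrm f le_rfl (ev_mem_im hc)

theorem large_im (hf : Function.Surjective f) (hR : R ≤ D) (hS : S ≤ D) (s : SQ 2 R z) (s' : SQ 2 S x)
    (hx : x ∈ R) (hz : z ∈ S) (hx' : x ∉ zpowers z ⊔ kr f) (hz' : z ∉ kr f)
    (h1 : ∀ d ∈ D, ⁅d, z⁆ ∈ kr f → ∃ c ∈ nrm R, c ∈ D ∧ ev f c = ev f d)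
    (h1' : ∀ d ∈ D, ⁅d, x⁆ ∈ kr f → ∃ c ∈ nrm S, c ∈ D ∧ ev f c = ev f d)
    (h2 : ∀ d ∈ D, (∀ r ∈ R, ⁅d, r⁆ ∈ kr f) → d ∈ zpowers z ⊔ kr f) :
    IsLargeExtraspecial (im f R) := by
  have zD := hR s.zm
  have e : ∀ {y}, y ∈ zpowers z → ev f y ∈ zpowers (ev f z) := fun h => im_zpowers (f := f) zD ▸ ev_mem_im h
  have t : SQ 2 (im f R) (ev f z) := ⟨ev_mem_im s.zm, ord2.2 ⟨by rw [← ev_mul zD zD, s.z2, ev_one],
    fun k => hz' ((ev_eq_one_iff zD).1 k)⟩, le_cen1_iff.1 (im_le_cen1 f zD (le_cen1_iff.2 s.zc)),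
    fun a ha b hb => by
      obtain ⟨a, h3, rfl⟩ := (mem_im_of_le hR).1 ha
      obtain ⟨b, h4, rfl⟩ := (mem_im_of_le hR).1 hb
      exact ev_comm (f := f) (hR h3) (hR h4) ▸ e (s.comm a h3 b h4), fun a ha => by
      obtain ⟨a, h3, rfl⟩ := (mem_im_of_le hR).1 ha
      exact ev_pow (f := f) (hR h3) 2 ▸ e (s.pow a h3)⟩
  have c : cen (im f R) ≤ zpowers (ev f z) := fun y hy => by
    obtain ⟨d, rfl⟩ := hf y
    rw [← ev_coe, ev_mem_zp zD d.2]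
    refine h2 d d.2 fun r hr => ?_
    rw [← ev_eq_one_iff (commutator_mem_of d.2 (hR hr)), ev_comm d.2 (hR hr), ev_coe]
    exact commutatorElement_eq_one_iff_mul_comm.2 (mem_cen.1 hy _ (ev_mem_im hr)).symm
  have nx : ev f x ∉ zpowers (ev f z) := fun k => hx' ((ev_mem_zp zD (hR hx)).1 k)
  have l : LX (im f R) (ev f z) := ⟨⟨t, le_antisymm (inf_le_right.trans c) t.zle⟩,
    fun k => nx (c (k (ev_mem_im hx))), c.trans (zpowers_le.2 t.zm), cen1_ev_le hf zD h1⟩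
  exact l.large_of (ev_mem_im hx) nx (by rw [← ev_mul (hR hx) (hR hx), s'.z2, ev_one])
    (H7.le_Op (im_le_cen1 f (hR hx) (le_cen1_iff.2 s'.zc)) (cen1_ev_le hf (hR hx) h1')
      (isPGroup_im f s'.pgroup) (ev_mem_im hz))

end quot

theorem sq_conj (s : SQ 2 R z) (hb : b ∈ R) (hb' : b ∉ cen R) : ∃ v ∈ R, v * b * v⁻¹ = b * z := by
  obtain ⟨y, hy, e⟩ := s.exists_y hb hb'
  refine ⟨y, hy, ?_⟩
  calc _ = ⁅b, y⁆⁻¹ * b := by group
    _ = _ := by rw [e, inv_eq_of_mul_eq_one_left s.z2, (s.commZ (mem_zpowers z) hb).eq]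

theorem sq_conj' (s : SQ 2 R z) (s' : SQ 2 S x) (hx : x ∈ R) (hz : z ∈ S) (hx' : x ∉ cen R)
    (hz' : z ∉ cen S) : ∃ y ∈ R ⊔ S, y * x * y⁻¹ = z := by
  obtain ⟨v, hv, e⟩ := sq_conj s hx hx'
  obtain ⟨u, hu, e'⟩ := sq_conj s' hz hz'
  refine ⟨u⁻¹ * v, Subgroup.mul_mem _ (inv_mem (mem_sup_right hu)) (mem_sup_left hv), ?_⟩
  calc _ = u⁻¹ * (v * x * v⁻¹) * u := by group
    _ = _ := by rw [e, (s.commZ (mem_zpowers z) hx).eq, ← e']; group

theorem xs_cen_odd (s : XS 2 Q z) (hA : A ≤ nrm Q) (hz : A ≤ cen1 z) (o : Odd (ord A)) :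
    XS 2 (Q ⊓ cen A) z := by
  have c : Cop A Q := ⟨hA, coprime_of_isPGroup s.pgroup o.coprime_two_right,
    Or.inr (haveI := s.pgroup.isNilpotent; inferInstance)⟩
  have k : Q ⊓ cen A ≤ cen ⁅Q, A⁆ := (xs_perp_comm s hA hz inf_le_left).2
    ((comm_eq_bot'.2 inf_le_right).le.trans bot_le)
  exact xs_sub s inf_le_left ⟨s.zm, le_cen1_iff.1 hz⟩
    (le_trans (le_cen_sup (inf_le_left.trans k) inf_le_right) (cen_anti c.comm_sup_cen.ge))

theorem mem_four (oz : orderOf z = 2) (ot : orderOf t = 2) (c : t ∈ cen1 z)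
    (hy : y ∈ zpowers z ⊔ zpowers t) : y = 1 ∨ y = z ∨ y = t ∨ y = t * z := by
  obtain ⟨a, ha, b, hb, rfl⟩ := (mem_sup_nrm' ((zpowers_le.2 (cen_zpowers z ▸ c)).trans
    (cen_le_nrm _))).1 hy
  rcases (mem_zp_two oz).1 ha with rfl | rfl <;> rcases (mem_zp_two ot).1 hb with rfl | rfl <;>
    simp [mem_cen1.1 c]

theorem LX.quot_t (s : LX Q z) (ht : t ∈ Q) (ot : orderOf t = 2) (nc : ¬ IsConj z t) :
    (∀ d, ⁅d, z⁆ ∈ zpowers t → d ∈ cen1 z) ∧ t ∉ zpowers z ∧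
      ∀ x, IsConj z x → x ≠ z → x ∉ zpowers z ⊔ zpowers t := by
  have n : t ∉ zpowers z := fun k => ((mem_zp_two s.oz).1 k).elim (ord2.1 ot).2 fun e => nc (e ▸ IsConj.refl _)
  obtain ⟨v, -, e⟩ := s.exists_conj ht n
  have k : ¬ IsConj z (t * z) := fun k => nc (k.trans (_root_.isConj_iff.2 ⟨v, e⟩).symm)
  refine ⟨fun d hd => ?_, n, fun x c ne m => ?_⟩
  · rcases (mem_zp_two ot).1 hd with e' | e'
    · exact mem_cen1.2 (commutatorElement_eq_one_iff_mul_comm.1 e')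
    · exact absurd (_root_.isConj_iff.2 ⟨d, by rw [← e']; group⟩) k
  · rcases mem_four s.oz ot (s.le ht) m with rfl | rfl | rfl | rfl
    exacts [s.z1 (isConj_one_left.1 c), ne rfl, nc c, k c]

end H2
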