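import Cfsg.Agent.H8.Sm1
import Cfsg.Agent.H2.LX3

/-!
# Self-centralizing elements of prime order.
-/

namespace H2
open Subgroup Cfsg H7 H1B

variable {G : Type*} [Group G] [Finite G] {p : ℕ} [hp : Fact p.Prime] {z : G}

theorem syl_of_cen1 (hz : orderOf z = p) (hC : cen1 z = zpowers z) : IsSylowIn p (zpowers z) ⊤ := by
  have pz := isPGroup_zpowers_of_orderOf hz
  refine isSylowIn_of_maximal pz le_top fun Q hQ l _ => ?_
  obtain ⟨y, hy, y1⟩ := exists_ne_one (pgroup_inf_cen_ne_bot' hQ hQ (le_nrm_self Q) fun e =>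
    hp.out.ne_one (hz.symm.trans (orderOf_eq_one_iff.2 (mem_bot.1 (e.le (l (mem_zpowers z)))))))
  have := eq_zpowers_of_card ((Nat.card_zpowers z).trans hz)
    (hC.le (cen_le_cen1 (l (mem_zpowers z)) hy.2)) y1
  rw [← hC, ← cen_zpowers, this, cen_zpowers]
  exact le_cen1_iff.2 hy.2

theorem cls_mul_nrm (hz : orderOf z = p) (hC : cen1 z = zpowers z) :
    (ConjClasses.mk '' {x : G | orderOf x = p}).ncard * ord (nrm (zpowers z)) = p * (p - 1) := by
  classical
  haveI := Fintype.ofFinite G
  have t := syl_of_cen1 hz hC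
  have oz := (Nat.card_zpowers z).trans hz
  have h := H8.sum_card_centralizer (S := {x : G | orderOf x = p}) fun x hx y c => by
    obtain ⟨g, rfl⟩ := _root_.isConj_iff.1 c
    exact (MulEquiv.orderOf_eq (MulAut.conj g) x).trans hx
  rw [Finset.sum_congr rfl (g := fun _ => p) fun x hx => ?_, Finset.sum_const, smul_eq_mul,
    ← Set.ncard_coe_finset, Finset.coe_filter_univ] at h
  · have k := H8.ncard_order_prime t.toSylowTop oz
    have e := t.toSylowTop.card_eq_index_normalizer
    change _ = (nrm (zpowers z)).index at e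
    change Set.ncard {x : G | orderOf x = p} * p = _ at h
    rw [k, ← (nrm (zpowers z)).index_mul_card, ← e] at h
    exact Nat.eq_of_mul_eq_mul_left (Nat.card_pos (α := Sylow p G)) (by linarith)
  have hx := (Finset.mem_filter.1 hx).2
  obtain ⟨g, -, l⟩ := t.exists_cj_le (isPGroup_zpowers_of_orderOf hx) le_top
  rw [← cen_zpowers, ← H7.card_cj g, cj_cen, H7.eq_of_le_of_card_le l (by
    rw [H7.card_cj, oz, Nat.card_zpowers]; exact hx.ge), cen_zpowers, hC, oz]

end H2
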