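import Cfsg.Agent.H2.Ms1
import Cfsg.Agent.H7.FTc

/-!
# Coprime operator groups given as external actions.
-/

namespace H2
open Subgroup Cfsg H7 H1B
open H1 (sdL sdR)

variable {A G : Type*} [Group A] [Group G] [Finite A] [Finite G] [MulDistribMulAction A G]

/-- invariance under the operator group -/
def XInv (A : Type*) [Group A] [MulDistribMulAction A G] (H : Subgroup G) : Prop :=
  ∀ a : A, ∀ x ∈ H, a • x ∈ H

omit [Finite A] in
theorem xinv_iff {H : Subgroup G} :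
    XInv A H ↔ sdR (MulDistribMulAction.toMulAut A G) ⊤ ≤ nrm (sdL (MulDistribMulAction.toMulAut A G) H) :=
  ⟨fun h => H1.sdR_le_normalizer_sdL_of_mem fun a _ => h a, fun h a x hx => by
    rw [← H1.sdR_le_normalizer_sdL.1 h a trivial]; exact ⟨x, hx, rfl⟩⟩

omit [Finite A] [Finite G] in
theorem xinv_char (H : Subgroup G) [h : H.Characteristic] : XInv A H := fun a _ hx =>
  characteristic_iff_le_comap.1 h (MulDistribMulAction.toMulAut A G a) hx

omit [Finite A] in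
theorem XInv.sup {H K : Subgroup G} (h : XInv A H) (k : XInv A K) : XInv A (H ⊔ K) :=
  xinv_iff.2 (by rw [sdL, Subgroup.map_sup]; exact nrm_sup (xinv_iff.1 h) (xinv_iff.1 k))

theorem xcop (h : (Nat.card A).Coprime (Nat.card G)) :
    Cop (sdR (MulDistribMulAction.toMulAut A G) ⊤) (sdL (MulDistribMulAction.toMulAut A G) ⊤) :=
  cop_ft (H1.sdR_le_normalizer_top _) (by rwa [H1.card_sdL_top, H1.card_sdR_top])

theorem exists_xinv_syl (h : (Nat.card A).Coprime (Nat.card G)) (p : ℕ) [Fact p.Prime] :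
    ∃ P : Subgroup G, IsSylowIn p P ⊤ ∧ XInv A P := by
  obtain ⟨P, hP, n⟩ := (xcop h).exists_syl p
  obtain ⟨P, rfl⟩ : ∃ M', sdL _ M' = P := ⟨_, H1.sdL_comap hP.le⟩
  refine ⟨P, ⟨le_top, hP.isPGroup.of_equiv (H1.sdLEquiv _ P).symm, ?_⟩, xinv_iff.2 n⟩
  rw [← relIndex_map_map_of_injective P ⊤ (SemidirectProduct.inl_injective (φ := MulDistribMulAction.toMulAut A G))]
  exact hP.not_dvd

omit [Finite A] in
theorem exists_max_xinv {L : Subgroup G} (h : L ≠ ⊤) (k : XInv A L) :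
    ∃ M, L ≤ M ∧ M ≠ ⊤ ∧ XInv A M ∧ ∀ N, M < N → XInv A N → N = ⊤ := by
  obtain ⟨M, a, b⟩ := exists_maximal_of_wellFoundedGT (fun M => L ≤ M ∧ M ≠ ⊤ ∧ XInv A M) ⟨L, le_rfl, h, k⟩
  exact ⟨M, a.1, a.2.1, a.2.2, fun N l i => by_contra fun n => l.not_ge (b ⟨a.1.trans l.le, n, i⟩ l.le)⟩

theorem xmaschke (h : (Nat.card A).Coprime (Nat.card G)) {p : ℕ} [hp : Fact p.Prime] (hG : IsPGroup p G)
    {L : Subgroup G} (l : frattini G ≤ L) (k : XInv A L) :
    ∃ K, XInv A K ∧ K ⊓ L = frattini G ∧ K ⊔ L = ⊤ := by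
  let φ := MulDistribMulAction.toMulAut A G
  have pK : IsPGroup p (sdL φ ⊤) := (hG.to_subgroup ⊤).map _
  have e : sdL φ (frattini G) = Phi (sdL φ ⊤) := by
    rw [← Phi_top, sdL, sdL, ← im_top, ← im_top, im_Phi_of_pgroup (hG.to_subgroup ⊤) le_rfl]
  have c := xcop h
  have n := le_nrm_Phi (sdL φ ⊤)
  have m : sdL φ L ≤ sdL φ ⊤ := H1.sdL_le_sdL.2 le_top
  have V := ea_im_of_Phi_le pK n (kr_qm _).ge
  haveI := V.1
  obtain ⟨W, a, b, d⟩ := H1.maschke hp.out V.2 (im_le_nrm _ c.norm) (im_le_nrm _ (xinv_iff.1 k))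
    (im_mono _ m) ((c.right m (xinv_iff.1 k)).im _).cop
  have w : W ≤ im (qm (Phi (sdL φ ⊤))) (sdL φ ⊤) := le_sup_right.trans d.le
  have pl : Phi (sdL φ ⊤) ≤ sdL φ L := e ▸ H1.sdL_le_sdL.2 l
  have q := pre_im_of_le (f := qm (Phi (sdL φ ⊤))) (m.trans n) ((kr_qm _).le.trans pl)
  have t := pre_im_of_le (f := qm (Phi (sdL φ ⊤))) n ((kr_qm _).le.trans (Phi_le _))
  obtain ⟨K, hK⟩ : ∃ K, sdL φ K = pre (qm (Phi (sdL φ ⊤))) W :=
    ⟨_, H1.sdL_comap ((pre_mono _ w).trans t.le)⟩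
  refine ⟨K, xinv_iff.2 (hK ▸ le_nrm_pre (nrm_Phi c.norm) a), H1.sdL_injective (φ := φ) ?_,
    H1.sdL_injective (φ := φ) ?_⟩
  · rw [sdL, map_inf _ _ _ SemidirectProduct.inl_injective, e]
    change sdL φ K ⊓ sdL φ L = _
    rw [hK, ← q, ← pre_inf, inf_comm, b]
    exact kr_qm _
  · rw [sdL, Subgroup.map_sup]
    change sdL φ K ⊔ sdL φ L = _
    rw [hK, ← q, ← pre_sup (w.trans (im_le_dom _ _)) (im_le_dom _ _), sup_comm, d, t]

end H2
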