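import Cfsg.Agent.H2.Ms2
import Cfsg.Agent.H1.U1

/-!
# Lifting Sylow intersections; generalized quaternion central quotients.
-/

namespace H2
open Subgroup Cfsg H7 H1B
open scoped commutatorElement

variable {G : Type*} [Group G] [Finite G] {p : ℕ} [hp : Fact p.Prime]

theorem lift_syl_inter (H : Subgroup G) [H.Normal] {S T : Sylow p (G ⧸ H)} (ne : S ≠ T) :
    ∃ S' T' : Sylow p G, S' ≠ T' ∧ (S : Subgroup (G ⧸ H)) ⊓ T ≤
      ((S' : Subgroup G) ⊓ T').map (QuotientGroup.mk' H) := by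
  have t : im (res (QuotientGroup.mk' H) ⊤) ⊤ = ⊤ := by
    rw [im_top, ← MonoidHom.range_eq_map, QuotientGroup.range_mk']
  have k : ∀ {B : Subgroup (G ⧸ H)} {R}, IsPGroup p B → IsSylowIn p R (pre (res (QuotientGroup.mk' H) ⊤) B) →
      R.map (QuotientGroup.mk' H) = B := fun hB hR => by
    have := syl_im hR le_top (res (QuotientGroup.mk' H) ⊤)
    rw [im_pre_of_le (t.ge.trans' le_top), im_top] at this
    exact (this.eq_of_le hB this.le le_rfl).symm
  obtain ⟨R, hR⟩ := H2.exists_isSylowIn p (pre (res (QuotientGroup.mk' H) ⊤) ((S : Subgroup (G ⧸ H)) ⊓ T))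
  have l : ∀ U : Sylow p (G ⧸ H), (S : Subgroup (G ⧸ H)) ⊓ T ≤ U → ∃ U' : Sylow p G, R ≤ U' ∧
      (U' : Subgroup G).map (QuotientGroup.mk' H) = U := fun U h => by
    obtain ⟨Q, hQ, l⟩ := H2.exists_isSylowIn_ge hR.isPGroup (hR.le.trans (pre_mono _ h))
    exact ⟨(hQ.trans le_top (by
      rw [relIndex_pre le_rfl, t]; exact (sylow_isSylowIn_top U).not_dvd)).toSylowTop, l, k U.2 hQ⟩
  obtain ⟨S', a, b⟩ := l S inf_le_left
  obtain ⟨T', c, d⟩ := l T inf_le_right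
  exact ⟨S', T', fun e => ne (Sylow.ext (by rw [← b, e, d])),
    (k S.2.to_inf_left hR).ge.trans (map_mono (le_inf a c))⟩

omit hp in
/-- generators of a `2`-group with generalized quaternion quotient -/
theorem quat_gens (hG : IsPGroup 2 G) (D : Subgroup G) [D.Normal] (hc : ¬ IsMulCommutative (G ⧸ D))
    (hu : ∃! x : G ⧸ D, orderOf x = 2) : ∃ (a b : G) (n : ℕ), H1B.MX (⊤ : Subgroup (G ⧸ D)) a 1 n ∧
      (b : G ⧸ D) ∉ zpowers (a : G ⧸ D) ∧ (∀ c : G ⧸ D, c ∉ zpowers (a : G ⧸ D) → c * c = a ^ 2 ^ (n + 1)) ∧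
      zpowers a ⊔ zpowers b ⊔ D = ⊤ ∧ ∃ d ∈ D, b * a * b⁻¹ = a⁻¹ * d := by
  obtain ⟨z, -, hz⟩ := hu
  haveI := Fact.mk Nat.prime_two
  rcases mx_of_ui ((hG.to_quotient D).to_subgroup ⊤) (fun s _ t _ s1 t1 s2 t2 _ =>
    (hz s (orderOf_eq_prime s2 s1)).trans (hz t (orderOf_eq_prime t2 t1)).symm) with h | ⟨a, n, h, k⟩
  · haveI : IsCyclic (G ⧸ D) := isCyclic_of_surjective (topEquiv (G := G ⧸ D)) topEquiv.surjective
    exact absurd IsCyclic.isMulCommutative hc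
  obtain ⟨b, -, hb⟩ := h.ex
  obtain ⟨a, rfl⟩ := QuotientGroup.mk_surjective a
  obtain ⟨b, rfl⟩ := QuotientGroup.mk_surjective b
  refine ⟨a, b, n, h, hb, fun c => k c trivial, ?_, a * (b * a * b⁻¹), (QuotientGroup.eq_one_iff _).1 ?_, by group⟩
  · have := comap_map_eq (QuotientGroup.mk' D) (zpowers a ⊔ zpowers b)
    rwa [Subgroup.map_sup, MonoidHom.map_zpowers, MonoidHom.map_zpowers, QuotientGroup.ker_mk',
      QuotientGroup.mk'_apply, QuotientGroup.mk'_apply, h.eq_sup trivial hb, comap_top, eq_comm] at this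
  · rw [QuotientGroup.mk_mul, QuotientGroup.mk_mul, QuotientGroup.mk_mul, QuotientGroup.mk_inv, h.inv _ trivial hb]
    simp

end H2
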