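import Cfsg.Agent.H2.TrF
import Cfsg.Agent.H2.FS10
import Cfsg.Agent.H1.Two9

/-! Simplicity of 2-fusion systems on dihedral, quasi-dihedral and wreathed groups. -/

set_option autoImplicit false

namespace H2
open Subgroup Cfsg Cfsg.FusionSystem H7 H1B
open scoped commutatorElement

variable {G : Type*} [Group G] [Finite G]

theorem simple_of_inv (S : Sylow 2 G) (hG : pResidual 2 G = ⊤) (h0 : (S : Subgroup G) ≠ ⊥)
    (h1 : ∀ s t : G, orderOf s = 2 → orderOf t = 2 → IsConj s t)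
    (h2 : ∀ N : Subgroup G, (S : Subgroup G) ≤ nrm N → (∀ t ∈ (S : Subgroup G), orderOf t = 2 → t ∈ N) →
      ⁅(S : Subgroup G), (S : Subgroup G)⁆ ≤ N)
    (h3 : IsPGroup 2 (MulAut (S : Subgroup G))) : (groupFusionSystem (S : Subgroup G)).IsSimple 2 := by
  have sat := group_saturated S
  have pS := S.isPGroup'
  have hA : (groupFusionSystem (S : Subgroup G)).autGroup S ≤ Inn (S : Subgroup G) := by
    have s := sat_sylow_top pS sat
    exact (s.eq_of_le (h3.to_subgroup _) s.le le_rfl).le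
  refine simple_of_Inn sat h0 (fun T hT => ?_) hA
  by_cases e : T = ⊥
  · exact .inl e
  right
  have TS := (stronglyClosed_iff.1 hT).1
  obtain ⟨t, ht⟩ := exists_prime_orderOf_dvd_card' 2 (dvd_card_of_ne_bot (pS.to_le TS) e)
  have all : ∀ s ∈ (S : Subgroup G), orderOf s = 2 → s ∈ T := fun s hs os => by
    obtain ⟨g, rfl⟩ := _root_.isConj_iff.1 (h1 t s ((orderOf_coe t).trans ht) os)
    exact ((isGF_group _).sc_iff.1 hT).2 t t.2 g trivial hs
  have c := h2 T (sc_le_normalizer hT) all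
  refine le_antisymm TS (le_trans ?_ (focal_le_of_sc pS sat hT c fun f hf x hx => ?_))
  · rw [(isGF_group _).focal_eq (sylow_isSylowIn_top S)]
    exact le_inf le_rfl (sylow_le_commutator_of_pResidual_eq_top hG S)
  · obtain ⟨α, a1, a2⟩ := hf.exists_aut fun x hx => hf.mem hx
    obtain ⟨s, hs, e⟩ := mem_Inn.1 (hA a1)
    rw [← a2 x hx, e x hx]
    exact c (inv_mul_conj_mem_commutator hx hs)

theorem simple_of_dih (S : Sylow 2 G) (hG : pResidual 2 G = ⊤) {a : G} {n : ℕ} (h : Dih S a n) :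
    (groupFusionSystem (S : Subgroup G)).IsSimple 2 := by
  have s := sylow_isSylowIn_top S
  obtain ⟨b, hb, hba⟩ := h.1.ex
  have c : ∀ x, orderOf x = 2 → IsConj (a ^ 2 ^ (n + 1)) x := by
    rcases h.cases s with h1 | h1 | h1
    · exact h1.2
    · rw [hG, index_top] at h1; omega
    · have := inf_res_eq_bot s h1.1
      rw [hG, inf_top_eq] at this
      exact absurd (this ▸ hb : b ∈ (⊥ : Subgroup G)) fun e => hba (mem_bot.1 e ▸ one_mem _)
  refine simple_of_inv S hG (fun e => hba (mem_bot.1 (e ▸ hb : b ∈ (⊥ : Subgroup G)) ▸ one_mem _))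
    (fun u v hu hv => (c u hu).symm.trans (c v hv)) (fun N hN all => ?_) ?_
  · rw [h.1.der]
    exact h.1.B_le_of_normal (h.1.le.trans hN) hb hba
      (all b hb (ord2.2 ⟨h.2 b hb hba, fun e => hba (e ▸ one_mem _)⟩))
  · by_contra hA
    obtain ⟨a', w, t⟩ := h.1.top
    obtain ⟨-, ⟨e⟩⟩ := t.aut_q8 hA
    exact h.no_q8 le_rfl e

theorem simple_of_qd (S : Sylow 2 G) (hG : pResidual 2 G = ⊤) (hS : IsQuasiDihedral (S : Subgroup G)) :
    (groupFusionSystem (S : Subgroup G)).IsSimple 2 := by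
  have s := sylow_isSylowIn_top S
  obtain ⟨a, n, hn, h⟩ := mx_of_qd' hS
  obtain ⟨t, ht, hta, h2, -⟩ := h.exists_t rfl
  have c := fun x hx => (h.qd_inv ht hta h2 s (x := x) hx).elim id (h.both ht hta h2 s hn hG).1.trans
  refine simple_of_inv S hG (fun e => hta (mem_bot.1 (e ▸ ht : t ∈ (⊥ : Subgroup G)) ▸ one_mem _))
    (fun u v hu hv => (c u hu).symm.trans (c v hv)) (fun N hN all => ?_) ?_
  · rw [h.der]
    exact h.B_le_of_normal (h.le.trans hN) ht hta (all t ht (ord2.2 ⟨h2, fun e => hta (e ▸ one_mem _)⟩))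
  · by_contra hA
    obtain ⟨a', w, t⟩ := h.top
    have := (t.aut_q8 hA).1
    omega

theorem simple_of_wr (S : Sylow 2 G) (hG : pResidual 2 G = ⊤) (hS : IsWreathed (S : Subgroup G)) :
    (groupFusionSystem (S : Subgroup G)).IsSimple 2 := by
  have s := sylow_isSylowIn_top S
  obtain ⟨x, y, z, n, h⟩ := H1B.wr_of hS
  obtain ⟨c1, c2⟩ := h.both s hG
  have c := fun t ht => (h.inv_cases' s (t := t) ht).elim id (Or.rec c1.trans (c1.trans c2).trans)
  refine simple_of_inv S hG (fun e => h.zU (mem_bot.1 (e ▸ h.zm : z ∈ (⊥ : Subgroup G)) ▸ one_mem _))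
    (fun u v hu hv => (c u hu).symm.trans (c v hv)) (fun N _ all => ?_) ?_
  · rw [h.der]
    exact (le_sup_left.trans le_sup_left).trans (h.Om_le all)
  · by_contra hA
    rcases h.centric le_rfl inf_le_left hA with e | ⟨s, -, e⟩
    · exact h.zU (e ▸ h.zm)
    · have := h.card
      rw [e, card_cj, h.cardV] at this
      have := Nat.pow_right_injective le_rfl this
      omega

theorem syl_equiv {K H : Type*} [Group K] [Group H] [Finite K] [Finite H] (ι : K →* H)
    (inj : Function.Injective ι) (Z : Subgroup H) [Z.Normal] (hZ : Odd (Nat.card Z)) {m : ℕ} (hm : Odd m)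
    (hi : Nat.card H = Nat.card K * m) (S : Sylow 2 (H ⧸ Z)) :
    ∃ P : Sylow 2 K, Nonempty ((P : Subgroup K) ≃* (S : Subgroup (H ⧸ Z))) := by
  obtain ⟨P⟩ : Nonempty (Sylow 2 K) := inferInstance
  have s1 := (sylow_isSylowIn_top P).map ι
  have i : ((⊤ : Subgroup K).map ι).index = m := by
    have := ((⊤ : Subgroup K).map ι).card_mul_index
    rw [card_map_of_injective inj, card_top, hi] at this
    exact Nat.eq_of_mul_eq_mul_left Nat.card_pos this
  have s2 := (s1.trans le_top (by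
    rw [relIndex_top_right, i, ← even_iff_two_dvd, Nat.not_even_iff_odd]; exact hm)).map (QuotientGroup.mk' Z)
  rw [map_top_of_surjective _ (QuotientGroup.mk'_surjective _)] at s2
  obtain ⟨g, -, e⟩ := s2.exists_cj_eq (sylow_isSylowIn_top S)
  have inj' : Function.Injective ((QuotientGroup.mk' Z).domRestrict ((P : Subgroup K).map ι)) := by
    rw [← MonoidHom.ker_eq_bot_iff, MonoidHom.ker_domRestrict, QuotientGroup.ker_mk', subgroupOf_eq_bot]
    exact disjoint_iff.2 (inf_eq_bot_of_coprime (coprime_of_isPGroup s1.isPGroup (Nat.coprime_two_right.2 hZ)))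
  exact ⟨P, ⟨((P : Subgroup K).equivMapOfInjective ι inj).trans ((MonoidHom.ofInjective inj').trans
    ((MulEquiv.subgroupCongr (MonoidHom.domRestrict_range _ _)).trans ((cjEquiv g _).trans
      (MulEquiv.subgroupCongr e))))⟩⟩

theorem pRes_top_of_simple [IsSimpleGroup G] (h : Nat.card G ≠ 2) : pResidual 2 G = ⊤ := by
  refine pResidual_two_eq_top_iff.2 fun M e => ?_
  rcases IsSimpleGroup.eq_bot_or_eq_top_of_normal M (normal_of_index_eq_two e) with rfl | rfl
  · exact h (index_bot.symm.trans e)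
  · simp at e

/-- the embedding `g ↦ diag (g, det g ⁻¹)` -/
noncomputable def emb3 (F : Type*) [Field F] : GL (Fin 2) F →* Matrix.SpecialLinearGroup (Fin 3) F where
  toFun g := ⟨!![g.val 0 0, g.val 0 1, 0; g.val 1 0, g.val 1 1, 0; 0, 0, g.val.det⁻¹], by
    have := g.det_ne_zero
    rw [Matrix.det_fin_three]
    simp only [Matrix.det_fin_two] at this ⊢
    simp
    field_simp⟩
  map_one' := by
    ext i j
    fin_cases i <;> fin_cases j <;> simp
  map_mul' g h := by
    apply Subtype.ext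
    refine Eq.trans ?_ (Matrix.SpecialLinearGroup.coe_mul _ _).symm
    ext i j
    fin_cases i <;> fin_cases j <;> simp [Matrix.mul_apply, Fin.sum_univ_succ, mul_comm]

theorem emb3_inj (F : Type*) [Field F] : Function.Injective (emb3 F) := fun g h e => by
  have e' : ∀ i j, (emb3 F g).1 i j = (emb3 F h).1 i j := fun i j => by rw [e]
  ext i j
  fin_cases i <;> fin_cases j
  · exact e' 0 0
  · exact e' 0 1
  · exact e' 1 0
  · exact e' 1 1

theorem emb3_val {F : Type*} [Field F] (g : GL (Fin 2) F) : (emb3 F g).1 =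
    !![g.val 0 0, g.val 0 1, 0; g.val 1 0, g.val 1 1, 0; 0, 0, g.val.det⁻¹] := rfl

theorem dih_quot {H : Type*} [Group H] [Finite H] {P Z : Subgroup H} [Z.Normal] {a : H} {n : ℕ}
    (h : H1B.MX P a 1 (n + 1)) (h2 : ∀ b ∈ P, b ∉ zpowers a → b * b = a ^ 2 ^ (n + 2))
    (hZ : Z = zpowers (a ^ 2 ^ (n + 2))) : Dih (P.map (QuotientGroup.mk' Z)) (a : H ⧸ Z) n := by
  have Za : Z ≤ zpowers a := hZ ▸ zp_pow_le a _
  have cZ : Nat.card Z = 2 := by rw [hZ, Nat.card_zpowers, h.z_ord]
  have c : ∀ X : Subgroup H, Z ≤ X → Nat.card X = 2 * Nat.card (X.map (QuotientGroup.mk' Z)) := fun X hX => by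
    rw [← card_mul_relIndex hX, cZ, ← relIndex_ker, QuotientGroup.ker_mk']
  have out : ∀ b ∈ P, b ∉ zpowers a → (b : H ⧸ Z) ∉ zpowers (a : H ⧸ Z) := fun b _ hb e => by
    have : b ∈ ((zpowers a).map (QuotientGroup.mk' Z)).comap (QuotientGroup.mk' Z) := by
      rw [MonoidHom.map_zpowers]; exact e
    rw [comap_map_eq, QuotientGroup.ker_mk', sup_eq_left.2 Za] at this
    exact hb this
  obtain ⟨b, hb, hba⟩ := h.ex
  refine ⟨H1B.MX.of_gen (b := (b : H ⧸ Z)) ⟨a, h.mem, rfl⟩ ?_ ?_ ⟨b, hb, rfl⟩ (out b hb hba) ?_ (.inl rfl), ?_⟩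
  · have := c _ Za
    rw [MonoidHom.map_zpowers, Nat.card_zpowers, Nat.card_zpowers, h.orda, pow_succ' 2 (n + 2)] at this
    exact (Nat.eq_of_mul_eq_mul_left two_pos this).symm
  · have := c _ (Za.trans h.le)
    rw [h.card, pow_succ' 2 (n + 3)] at this
    exact (Nat.eq_of_mul_eq_mul_left two_pos this).symm
  · simpa using congrArg (QuotientGroup.mk' Z) (h.inv b hb hba)
  · rintro _ ⟨x, hx, rfl⟩ hxa
    rw [← map_mul, h2 x hx fun e => hxa (by
      obtain ⟨k, rfl⟩ := e; exact ⟨k, by simp⟩)]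
    exact (QuotientGroup.eq_one_iff _).2 (hZ ▸ mem_zpowers _)

end H2
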