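import Cfsg.Agent.H2.LX3

/-!
# The centralizer of a transvection over the field with two elements.
-/

namespace H2
open Subgroup Cfsg H7 H1B Matrix
open scoped commutatorElement

variable {ι F : Type*} [Fintype ι] [DecidableEq ι] [Field F] {i j k l : ι}
  {g h : SpecialLinearGroup ι F}

/-- the elementary transvection -/
abbrev tv (hij : i ≠ j) : SpecialLinearGroup ι F := SpecialLinearGroup.transvection hij 1

theorem tv_apply (hij : i ≠ j) (a b : ι) :
    (tv hij : SpecialLinearGroup ι F) a b = (1 : Matrix ι ι F) a b + single i j 1 a b := rfl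

theorem mem_cen_tv (h2 : ∀ a : F, a = 0 ∨ a = 1) (hij : i ≠ j) : g ∈ cen1 (tv hij) ↔
    (∀ a, g a i = (1 : Matrix ι ι F) a i) ∧ ∀ b, g j b = (1 : Matrix ι ι F) j b := by
  have e : g ∈ cen1 (tv hij) ↔ ∀ a b, (if j = b then g a i else 0) = if i = a then g j b else 0 := by
    refine mem_cen1.trans (Subtype.ext_iff.trans ?_)
    change g.1 * (1 + single i j 1) = (1 + single i j 1) * g.1 ↔ _
    rw [mul_add, add_mul, mul_one, one_mul, add_right_inj, ← Matrix.ext_iff]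
    refine forall₂_congr fun a b => ?_
    simp [mul_apply, single_apply, ite_and]
  rw [e]
  refine ⟨fun k => ?_, fun k a b => ?_⟩
  · have k1 : ∀ a, a ≠ i → g a i = 0 := fun a ha => by simpa [ha.symm] using k a j
    have k2 : ∀ b, b ≠ j → g j b = 0 := fun b hb => by simpa [hb.symm, eq_comm] using k i b
    have k3 : g i i = 1 := (h2 _).resolve_left fun e => one_ne_zero (g.2.symm.trans
      (det_eq_zero_of_column_eq_zero i fun a => by
        by_cases c : a = i
        exacts [c ▸ e, k1 a c]))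
    have k4 : g j j = 1 := by simpa [k3, eq_comm] using k i j
    refine ⟨fun a => ?_, fun b => ?_⟩
    · by_cases c : a = i
      exacts [by rw [c, k3, one_apply_eq], by rw [k1 a c, one_apply_ne c]]
    · by_cases c : b = j
      exacts [by rw [c, k4, one_apply_eq], by rw [k2 b c, one_apply_ne' c]]
  · rw [k.1, k.2, one_apply, one_apply]
    by_cases c : j = b <;> by_cases d : i = a <;> simp [c, d, eq_comm]

theorem det_one_of (h2 : ∀ a : F, a = 0 ∨ a = 1) {A B : Matrix ι ι F} (h : A * B = 1) : A.det = 1 :=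
  (h2 _).resolve_left fun e => by simpa [e] using congrArg det h

theorem sum_three (hij : i ≠ j) (f : ι → F) :
    ∑ m, f m = f i + f j + ∑ m : {k // k ≠ i ∧ k ≠ j}, f m := by
  rw [← Finset.add_sum_erase _ _ (Finset.mem_univ i), ← Finset.add_sum_erase _ _
    (Finset.mem_erase.2 ⟨hij.symm, Finset.mem_univ j⟩), add_assoc,
    Finset.sum_subtype (p := fun k => k ≠ i ∧ k ≠ j) _ (by simp [and_comm])]

/-- the action on the middle section -/
def rho0 (h2 : ∀ a : F, a = 0 ∨ a = 1) (hij : i ≠ j) :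
    cen1 (tv hij : SpecialLinearGroup ι F) →* Matrix {k // k ≠ i ∧ k ≠ j} {k // k ≠ i ∧ k ≠ j} F where
  toFun g := of fun a b => g.1 a b
  map_one' := by ext a b; simp [one_apply, Subtype.ext_iff]
  map_mul' g h := by
    ext a b
    change (g.1.1 * h.1.1) a b = _
    rw [mul_apply, mul_apply, sum_three hij, ((mem_cen_tv h2 hij).1 g.2).1,
      ((mem_cen_tv h2 hij).1 h.2).2, one_apply_ne a.2.1, one_apply_ne' b.2.2]
    simp

/-- the action on the middle section -/
def rho (h2 : ∀ a : F, a = 0 ∨ a = 1) (hij : i ≠ j) :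
    cen1 (tv hij : SpecialLinearGroup ι F) →* SpecialLinearGroup {k // k ≠ i ∧ k ≠ j} F where
  toFun g := ⟨rho0 h2 hij g, det_one_of h2 (B := rho0 h2 hij g⁻¹) (by rw [← map_mul, mul_inv_cancel, map_one])⟩
  map_one' := Subtype.ext (map_one _)
  map_mul' g h := Subtype.ext (map_mul _ g h)

theorem mem_kr_rho (h2 : ∀ a : F, a = 0 ∨ a = 1) (hij : i ≠ j) : g ∈ kr (rho h2 hij) ↔
    (∀ a, g a i = (1 : Matrix ι ι F) a i) ∧ (∀ b, g j b = (1 : Matrix ι ι F) j b) ∧
      ∀ a b, a ≠ i → b ≠ j → g a b = (1 : Matrix ι ι F) a b := by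
  rw [mem_kr, ← and_assoc, ← mem_cen_tv h2 hij]
  refine and_congr_right fun hg => ?_
  rw [ev_eq hg]
  refine Subtype.ext_iff.trans (Matrix.ext_iff.symm.trans ?_)
  refine ⟨fun k a b ha hb => ?_, fun k a b => (k a b a.2.1 b.2.2).trans (by simp [one_apply, Subtype.ext_iff])⟩
  by_cases c : a = j
  · exact c ▸ ((mem_cen_tv h2 hij).1 hg).2 b
  by_cases d : b = i
  · exact d ▸ ((mem_cen_tv h2 hij).1 hg).1 a
  exact (k ⟨a, ha, c⟩ ⟨b, d, hb⟩).trans (by simp [one_apply, Subtype.ext_iff])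

theorem two_eq_zero_of (h2 : ∀ a : F, a = 0 ∨ a = 1) : (1 : F) + 1 = 0 :=
  (h2 _).resolve_right (by simp)

theorem mem_zp_tv (h2 : ∀ a : F, a = 0 ∨ a = 1) (hij : i ≠ j)
    (h : ∀ a b, a ≠ i ∨ b ≠ j → g a b = (1 : Matrix ι ι F) a b) : g ∈ zpowers (tv hij) := by
  have k : ∀ c : F, g i j = c → g.1 = 1 + single i j c := fun c e => Matrix.ext fun a b => by
    by_cases d : a = i ∧ b = j
    · rw [d.1, d.2, Matrix.add_apply, one_apply_ne hij, single_apply_same, zero_add]; exact e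
    · rw [Matrix.add_apply, single_apply_of_ne _ _ _ _ _ (by tauto), add_zero]; exact h a b (by tauto)
  rcases h2 (g i j) with e | e
  · rw [show g = 1 from Subtype.ext (by simpa using k 0 e)]; exact one_mem _
  · rw [show g = tv hij from Subtype.ext (k 1 e)]; exact mem_zpowers _

theorem tv_mem_row (h2 : ∀ a : F, a = 0 ∨ a = 1) (hij : i ≠ j) (hik : i ≠ k) :
    tv hik ∈ kr (rho h2 hij) := (mem_kr_rho h2 hij).2
  ⟨fun a => by simp [tv_apply, single_apply, hik.symm], fun b => by simp [tv_apply, single_apply, hij],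
    fun a b ha _ => by simp [tv_apply, single_apply, ha.symm]⟩

theorem tv_mem_col (h2 : ∀ a : F, a = 0 ∨ a = 1) (hij : i ≠ j) (hkj : k ≠ j) :
    tv hkj ∈ kr (rho h2 hij) := (mem_kr_rho h2 hij).2
  ⟨fun a => by simp [tv_apply, single_apply, hij.symm], fun b => by simp [tv_apply, single_apply, hkj],
    fun a b _ hb => by simp [tv_apply, single_apply, hb.symm]⟩

theorem tv_ord (h2 : ∀ a : F, a = 0 ∨ a = 1) (hij : i ≠ j) :
    orderOf (tv hij : SpecialLinearGroup ι F) = 2 := ord2.2 ⟨by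
  rw [tv, ← SpecialLinearGroup.transvection_add, two_eq_zero_of h2,
    SpecialLinearGroup.transvection_coeff_zero], fun e => by
      simpa [tv_apply, one_apply_ne hij] using congrArg (fun g : SpecialLinearGroup ι F => g i j) e⟩

theorem tv_not_mem (h2 : ∀ a : F, a = 0 ∨ a = 1) (hij : i ≠ j) (hik : i ≠ k) (hjk : j ≠ k) :
    (tv hik : SpecialLinearGroup ι F) ∉ zpowers (tv hij) := fun m => by
  rcases (mem_zp_two (tv_ord h2 hij)).1 m with e | e
  · exact (ord2.1 (tv_ord h2 hik)).2 e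
  · simpa [tv_apply, single_apply, hjk] using congrArg (fun g : SpecialLinearGroup ι F => g i k) e

theorem sq_mem_tv (h2 : ∀ a : F, a = 0 ∨ a = 1) (hij : i ≠ j) (hg : g ∈ kr (rho h2 hij)) :
    g ^ 2 ∈ zpowers (tv hij) := by
  obtain ⟨h3, h4, h5⟩ := (mem_kr_rho h2 hij).1 hg
  refine mem_zp_tv h2 hij fun a b c => ?_
  have e : (g ^ 2).1 = 1 + (g.1 - 1) * (g.1 - 1) + ((1 : F) + 1) • (g.1 - 1) := by
    change g.1 ^ 2 = _
    rw [add_smul, one_smul]; noncomm_ring
  change (g ^ 2).1 a b = _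
  rw [e, two_eq_zero_of h2, zero_smul, add_zero, Matrix.add_apply, mul_apply, Finset.sum_eq_zero, add_zero]
  intro m _
  rw [Matrix.sub_apply, Matrix.sub_apply, mul_eq_zero, sub_eq_zero, sub_eq_zero]
  rcases c with c | c
  · by_cases d : m = j
    exacts [Or.inr (d ▸ h4 b), Or.inl (h5 a m c d)]
  · by_cases d : m = i
    exacts [Or.inl (d ▸ h3 a), Or.inr (h5 m b d c)]

theorem cen_kr_rho (h2 : ∀ a : F, a = 0 ∨ a = 1) (hij : i ≠ j) :
    cen (kr (rho h2 hij)) ≤ zpowers (tv hij) := fun _ hg => mem_zp_tv h2 hij fun a b c => c.elim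
  (fun c => ((mem_cen_tv h2 c.symm).1 (cen_le_cen1 (tv_mem_row h2 hij c.symm) hg)).2 b)
  fun c => ((mem_cen_tv h2 c).1 (cen_le_cen1 (tv_mem_col h2 hij c) hg)).1 a

theorem lx_tv [Finite F] (h2 : ∀ a : F, a = 0 ∨ a = 1) (hij : i ≠ j) (hik : i ≠ k) (hjk : j ≠ k) :
    LX (kr (rho h2 hij)) (tv hij) := by
  have c := cen_kr_rho h2 hij
  have m := tv_mem_row h2 hij hij
  have zc := le_cen1_iff.1 (kr_le (rho h2 hij))
  refine ⟨⟨⟨m, tv_ord h2 hij, zc, fun a ha b hb => ?_, fun a => sq_mem_tv h2 hij⟩,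
    le_antisymm (inf_le_right.trans c) (zpowers_le.2 ⟨m, zc⟩)⟩,
    fun e => tv_not_mem h2 hij hik hjk (c (e (tv_mem_row h2 hij hik))), c.trans (zpowers_le.2 m),
    le_nrm_kr _⟩
  rw [show ⁅a, b⁆ = a ^ 2 * (a⁻¹ * b) ^ 2 * (b ^ 2)⁻¹ by simp only [pow_two, commutatorElement_def]; group]
  exact mul_mem (mul_mem (sq_mem_tv h2 hij ha) (sq_mem_tv h2 hij (mul_mem (inv_mem ha) hb)))
    (inv_mem (sq_mem_tv h2 hij hb))

theorem large_tv [Finite F] (h2 : ∀ a : F, a = 0 ∨ a = 1) (hij : i ≠ j) (hik : i ≠ k) (hjk : j ≠ k) :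
    IsLargeExtraspecial (kr (rho h2 hij)) :=
  (lx_tv h2 hij hik hjk).large_of (tv_mem_row h2 hij hik) (tv_not_mem h2 hij hik hjk)
    (ord2.1 (tv_ord h2 hik)).1 ((lx_tv h2 hik hij hjk.symm).le_Op (tv_mem_row h2 hik hij))

theorem Op_sl [Finite F] (h2 : ∀ a : F, a = 0 ∨ a = 1) : Op 2 (⊤ : Subgroup (SpecialLinearGroup ι F)) = ⊥ := by
  rcases isEmpty_or_nonempty ι with _ | _
  · exact (eq_bot_iff_forall _).2 fun g _ => Subtype.ext (Subsingleton.elim _ _)
  set N := Op 2 (⊤ : Subgroup (SpecialLinearGroup ι F))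
  have cF : Nat.card F = 2 := Nat.card_eq_two_iff.2 ⟨0, 1, zero_ne_one, Set.eq_univ_of_forall h2⟩
  obtain ⟨v, hv, v0⟩ := (isPGroup_Op 2 ⊤ : IsPGroup 2 N).exists_fixed_point_of_prime_dvd_card_of_fixed_point
    (ι → F) (by rw [Nat.card_fun, cF]; exact dvd_pow_self 2 Nat.card_pos.ne')
    (a := 0) fun g => smul_zero g
  have f : ∀ (g : SpecialLinearGroup ι F) (w : ι → F), (∀ n ∈ N, n • w = w) → ∀ n ∈ N, n • g • w = g • w :=
    fun g w hw n hn => by
      have := hw _ (nconj_mem (le_nrm_Opi _ ⊤ (mem_top g⁻¹)) hn)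
      rwa [mul_smul, mul_smul, inv_inv, inv_smul_eq_iff] at this
  obtain ⟨a, ha⟩ := Function.ne_iff.1 v0.symm
  have s : ∀ (w : ι → F) (a b : ι), (∀ n ∈ N, n • w = w) → w a = 1 → b ≠ a →
      ∀ n ∈ N, n • (Pi.single b 1 : ι → F) = Pi.single b 1 := fun w a b hw e hb n hn => by
    have := f (tv hb) w hw n hn
    rwa [show (tv hb : SpecialLinearGroup ι F) • w = w + Pi.single b 1 by
      change (1 + single b a 1) *ᵥ w = _
      rw [add_mulVec, one_mulVec, single_mulVec, e, mul_one]; rfl, smul_add, hw n hn, add_right_inj] at this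
  have s1 := fun b => s v a b (fun n hn => hv ⟨n, hn⟩) ((h2 _).resolve_left ha)
  refine (eq_bot_iff_forall _).2 fun n hn => Subtype.ext (Matrix.ext fun x b => ?_)
  suffices n • (Pi.single b 1 : ι → F) = Pi.single b 1 by
    simpa [Pi.single_apply, one_apply] using congrFun (show n.1 *ᵥ _ = _ from this) x
  by_cases c : b = a
  swap
  · exact s1 b c n hn
  by_cases d : ∀ y, y = b
  · haveI : Subsingleton ι := ⟨fun x y => (d x).trans (d y).symm⟩
    rw [Subsingleton.elim n 1, one_smul]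
  obtain ⟨y, hy⟩ := not_forall.1 d
  exact s _ y b (s1 y (c ▸ hy)) (Pi.single_eq_same _ _) (Ne.symm hy) n hn

/-- the block embedding -/
def sig0 (i j : ι) : Matrix {k // k ≠ i ∧ k ≠ j} {k // k ≠ i ∧ k ≠ j} F →* Matrix ι ι F :=
  (reindexAlgEquiv F F (Equiv.sumCompl fun k => k ≠ i ∧ k ≠ j)).toMonoidHom.comp
    ⟨⟨fun A => fromBlocks A 0 0 1, fromBlocks_one⟩, fun A B => by simp [fromBlocks_multiply]⟩

theorem sig0_apply (A : Matrix {k // k ≠ i ∧ k ≠ j} {k // k ≠ i ∧ k ≠ j} F) (a b : ι) : sig0 i j A a b =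
    if h : (a ≠ i ∧ a ≠ j) ∧ b ≠ i ∧ b ≠ j then A ⟨a, h.1⟩ ⟨b, h.2⟩ else (1 : Matrix ι ι F) a b := by
  change fromBlocks A 0 0 1 ((Equiv.sumCompl _).symm a) ((Equiv.sumCompl _).symm b) = _
  have e1 := @Equiv.sumCompl_symm_apply_of_pos _ (fun k => k ≠ i ∧ k ≠ j) _
  have e2 := @Equiv.sumCompl_symm_apply_of_neg _ (fun k => k ≠ i ∧ k ≠ j) _
  by_cases c : a ≠ i ∧ a ≠ j <;> by_cases d : b ≠ i ∧ b ≠ j
  · rw [e1 c, e1 d, dif_pos ⟨c, d⟩]; rfl
  · rw [e1 c, e2 d, dif_neg (by tauto),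
      one_apply_ne (by rintro rfl; tauto)]; rfl
  · rw [e2 c, e1 d, dif_neg (by tauto),
      one_apply_ne (by rintro rfl; tauto)]; rfl
  · rw [e2 c, e2 d, dif_neg (by tauto)]
    simp [one_apply]

/-- the block embedding -/
def sig (h2 : ∀ a : F, a = 0 ∨ a = 1) (i j : ι) :
    SpecialLinearGroup {k // k ≠ i ∧ k ≠ j} F →* SpecialLinearGroup ι F where
  toFun g := ⟨sig0 i j g, det_one_of h2 (B := sig0 i j (g⁻¹).1) (by
    rw [← map_mul]; exact (congrArg (fun x : Matrix.SpecialLinearGroup _ F => sig0 i j x.1)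
      (mul_inv_cancel g)).trans (map_one _))⟩
  map_one' := Subtype.ext (map_one (sig0 i j))
  map_mul' g h := Subtype.ext (map_mul (sig0 i j) g.1 h.1)

theorem sig_mem (h2 : ∀ a : F, a = 0 ∨ a = 1) (hij : i ≠ j) (A) : sig h2 i j A ∈ cen1 (tv hij) :=
  (mem_cen_tv h2 hij).2 ⟨fun a => (sig0_apply _ _ _).trans (dif_neg (by simp)),
    fun a => (sig0_apply _ _ _).trans (dif_neg (by simp))⟩

theorem rho_sig (h2 : ∀ a : F, a = 0 ∨ a = 1) (hij : i ≠ j) (A) : ev (rho h2 hij) (sig h2 i j A) = A :=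
  (ev_eq (sig_mem h2 hij A)).trans (Subtype.ext (Matrix.ext fun a b =>
    (sig0_apply _ _ _).trans (dif_pos ⟨a.2, b.2⟩)))

theorem Op_cen_tv [Finite F] (h2 : ∀ a : F, a = 0 ∨ a = 1) (hij : i ≠ j) (hik : i ≠ k) (hjk : j ≠ k) :
    Op 2 (cen1 (tv hij)) = kr (rho h2 hij) := by
  refine le_antisymm ((im_eq_bot_iff (Opi_le _ _)).1 (le_bot_iff.1 ((H7.le_Op le_top ?_
    (isPGroup_im _ (isPGroup_Op 2 _))).trans (Op_sl h2).le))) (lx_tv h2 hij hik hjk).le_Op
  exact le_trans (fun A _ => rho_sig h2 hij A ▸ ev_mem_im (sig_mem h2 hij A)) (im_le_nrm _ (le_nrm_Opi _ _))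

theorem sig_compl (h2 : ∀ a : F, a = 0 ∨ a = 1) (hij : i ≠ j) : (sig h2 i j).range ≤ cen1 (tv hij) ∧
    kr (rho h2 hij) ⊓ (sig h2 i j).range = ⊥ ∧ kr (rho h2 hij) ⊔ (sig h2 i j).range = cen1 (tv hij) ∧
    Function.Injective (sig h2 i j) := by
  have l : (sig h2 i j).range ≤ cen1 (tv hij) := by rintro _ ⟨A, rfl⟩; exact sig_mem h2 hij A
  refine ⟨l, (eq_bot_iff_forall _).2 ?_, le_antisymm (sup_le (kr_le _) l) fun g hg => ?_,
    fun A B e => by rw [← rho_sig h2 hij A, e, rho_sig]⟩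
  · rintro _ ⟨h, A, rfl⟩
    rw [← rho_sig h2 hij A, (mem_kr.1 h).2, map_one]
  · exact (mul_mem_cancel_right (mem_sup_right (inv_mem (MonoidHom.mem_range.2 ⟨_, rfl⟩)))).1 (mem_sup_left
      ((ev_eq_iff' hg (sig_mem h2 hij _)).1 (rho_sig h2 hij _).symm))

/-- the row group -/
def rowG (i : ι) : Subgroup (SpecialLinearGroup ι F) where
  carrier := {g | ∀ a, a ≠ i → ∀ b, g a b = (1 : Matrix ι ι F) a b}
  one_mem' _ _ _ := rfl
  mul_mem' {g h} hg hh a ha b := by
    change (g.1 * h.1) a b = _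
    rw [mul_apply, Finset.sum_congr rfl fun m _ => congrArg (· * h.1 m b) (hg a ha m), ← mul_apply, one_mul]
    exact hh a ha b
  inv_mem' {g} hg a ha b := by
    have := congrArg (fun x : SpecialLinearGroup ι F => x a b) (mul_inv_cancel g)
    change (g.1 * (g⁻¹).1) a b = _ at this
    rwa [mul_apply, Finset.sum_congr rfl fun m _ => congrArg (· * (g⁻¹).1 m b) (hg a ha m), ← mul_apply,
      one_mul] at this

theorem rowG_eq (hg : g ∈ rowG i) : g.1 = updateRow 1 i (g i) := Matrix.ext fun a b => by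
  by_cases c : a = i
  · rw [c, updateRow_self]
  · rw [updateRow_ne c]; exact hg a c b

theorem det_row (v : ι → F) : det (updateRow 1 i v) = v i := by
  have := det_updateRow_sum (1 : Matrix ι ι F) i v
  rwa [det_one, smul_eq_mul, mul_one, show ∑ k, v k • (1 : Matrix ι ι F) k = v from funext fun b => by
    simp [Finset.sum_apply, one_apply]] at this

theorem rowG_ii (hg : g ∈ rowG i) : g i i = 1 := (det_row _).symm.trans (rowG_eq hg ▸ g.2)

theorem rowG_le (h2 : ∀ a : F, a = 0 ∨ a = 1) (hij : i ≠ j) : rowG i ≤ kr (rho h2 hij) := fun g hg =>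
  (mem_kr_rho h2 hij).2 ⟨fun a => by
    by_cases c : a = i
    exacts [by rw [c, rowG_ii hg, one_apply_eq], hg a c i], hg j hij.symm, fun a b ha _ => hg a ha b⟩

theorem card_rowG [Finite F] : ord (rowG i : Subgroup (SpecialLinearGroup ι F)) =
    Nat.card F ^ (Fintype.card ι - 1) := by
  rw [show Fintype.card ι - 1 = Nat.card {a // a ≠ i} by simp, ← Nat.card_fun]
  refine Nat.card_eq_of_bijective (fun g a => g.1 i a) ⟨fun g h e => Subtype.ext (Subtype.ext
    (Matrix.ext fun a b => ?_)), fun v => ⟨⟨⟨updateRow 1 i fun a => if h : a = i then 1 else v ⟨a, h⟩,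
      (det_row _).trans (dif_pos rfl)⟩, fun a ha b => congrFun (updateRow_ne ha) b⟩,
      funext fun a => (congrFun updateRow_self a.1).trans (dif_neg a.2)⟩⟩
  by_cases c : a = i
  swap
  · exact (g.2 a c b).trans (h.2 a c b).symm
  by_cases d : b = i
  · rw [c, d]; exact (rowG_ii g.2).trans (rowG_ii h.2).symm
  · exact c ▸ congrFun e ⟨b, d⟩

theorem ea_rowG (h2 : ∀ a : F, a = 0 ∨ a = 1) : EA 2 (rowG i : Subgroup (SpecialLinearGroup ι F)) := by
  have k : ∀ g ∈ (rowG i : Subgroup (SpecialLinearGroup ι F)), g ^ 2 = 1 := fun g hg =>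
    Subtype.ext (Matrix.ext fun a b => by
      by_cases c : a = i
      swap
      · exact pow_mem hg 2 a c b
      by_cases d : b = i
      · rw [c, d]; exact (rowG_ii (pow_mem hg 2)).trans (one_apply_eq i).symm
      change (g.1 ^ 2) a b = (1 : Matrix ι ι F) a b
      rw [c, pow_two, mul_apply, ← Finset.add_sum_erase _ _ (Finset.mem_univ i), rowG_ii hg,
        Finset.sum_eq_single b (fun m hm e => by rw [hg m (Finset.mem_erase.1 hm).1, one_apply_ne e, mul_zero])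
          (by simp [d]), hg b d, one_apply_eq, one_apply_ne' d, mul_comm, ← mul_add, two_eq_zero_of h2,
        mul_zero])
  refine ea_iff.2 ⟨fun a ha => mem_cen.2 fun b hb => (commutatorElement_eq_one_iff_mul_comm.1 ?_).symm, k⟩
  rw [show ⁅a, b⁆ = a ^ 2 * (a⁻¹ * b) ^ 2 * (b ^ 2)⁻¹ by simp only [pow_two, commutatorElement_def]; group,
    k a ha, k b hb, k _ (mul_mem (inv_mem ha) hb)]
  simp

theorem card_kr_rho [Finite F] (h2 : ∀ a : F, a = 0 ∨ a = 1) (hij : i ≠ j) (hik : i ≠ k) (hjk : j ≠ k)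
    {n : ℕ} (hn : Fintype.card ι = n + 2) : ord (kr (rho h2 hij)) = 2 ^ (2 * n + 1) := by
  have cF : Nat.card F = 2 := Nat.card_eq_two_iff.2 ⟨0, 1, zero_ne_one, Set.eq_univ_of_forall h2⟩
  have m : ∀ {k} (h : i ≠ k), tv h ∈ (rowG i : Subgroup (SpecialLinearGroup ι F)) := fun h a ha b => by
    simp [tv_apply, single_apply, ha.symm]
  have := xs_perp (lx_tv h2 hij hik hjk).toXS (rowG_le h2 hij) (m hij)
  rw [show kr (rho h2 hij) ⊓ cen (rowG i) = rowG i from le_antisymm (fun g hg a ha =>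
    ((mem_cen_tv h2 ha.symm).1 (cen_le_cen1 (m ha.symm) hg.2)).2) (le_inf (rowG_le h2 hij)
      (ea_rowG h2).le_cen), card_rowG, cF, hn] at this
  refine Nat.eq_of_mul_eq_mul_left two_pos (this.symm.trans ?_)
  rw [show n + 2 - 1 = n + 1 from rfl]; ring

/-- reindexing special linear groups -/
def slRe {κ : Type*} [Fintype κ] [DecidableEq κ] (e : ι ≃ κ) :
    SpecialLinearGroup ι F ≃* SpecialLinearGroup κ F where
  toFun g := ⟨reindex e e g.1, (det_reindex_self e g.1).trans g.2⟩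
  invFun g := ⟨reindex e.symm e.symm g.1, (det_reindex_self e.symm g.1).trans g.2⟩
  left_inv g := Subtype.ext ((reindex e e).left_inv g.1)
  right_inv g := Subtype.ext ((reindex e e).right_inv g.1)
  map_mul' g h := Subtype.ext (map_mul (reindexAlgEquiv F F e) g.1 h.1)

omit [DecidableEq ι] in
theorem mid_equiv (hij : i ≠ j) {n : ℕ} (hn : Fintype.card ι = n + 2) :
    Nonempty ({k // k ≠ i ∧ k ≠ j} ≃ Fin n) := by
  classical
  refine ⟨Fintype.equivFinOfCardEq ?_⟩
  rw [Fintype.card_subtype, show (Finset.univ.filter fun k => k ≠ i ∧ k ≠ j) = {i, j}ᶜ by ext; simp,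
    Finset.card_compl, Finset.card_pair hij, hn]; rfl

theorem zmod_two (a : ZMod 2) : a = 0 ∨ a = 1 := by revert a; decide

end H2
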