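import Mathlib

/-! Wielandt's theorem on `k`-homogeneous groups. -/

set_option autoImplicit false

namespace H2.Wie

open Finset
open scoped Pointwise

theorem not_dvd_choose {p a k : ℕ} (hp : p.Prime) (h : p ^ a ∣ k) :
    ¬ p ∣ (k + (p ^ a - 1)).choose (p ^ a - 1) := by
  have hq : 0 < p ^ a := pow_pos hp.pos a
  have h0 : (k + (p ^ a - 1)).choose (p ^ a - 1) ≠ 0 := (Nat.choose_pos (by omega)).ne'
  rw [hp.dvd_iff_one_le_factorization h0, Nat.factorization_choose' hp (Nat.lt_succ_self _),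
    not_le, Nat.lt_one_iff, card_eq_zero, filter_eq_empty_iff]
  intro i _
  rw [not_le]
  have hi : 0 < p ^ i := pow_pos hp.pos i
  rcases le_total i a with hia | hia
  · rw [Nat.mod_eq_zero_of_dvd ((pow_dvd_pow p hia).trans h)]
    exact Nat.mod_lt _ hi
  · have h1 : p ^ a ∣ p ^ i := pow_dvd_pow p hia
    have h2 : p ^ a ∣ k % p ^ i := (Nat.dvd_mod_iff h1).2 h
    have h3 : k % p ^ i < p ^ i := Nat.mod_lt _ hi
    have h4 := Nat.le_of_dvd (by omega) (Nat.dvd_sub h1 h2)
    have h5 := Nat.mod_le (p ^ a - 1) (p ^ i)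
    omega

variable {α : Type*} [DecidableEq α]

theorem card_ext {S L : Finset α} (h : S ⊆ L) :
    #{T ∈ powersetCard (#S + 1) L | S ⊆ T} = #L - #S := by
  rw [← card_sdiff_of_subset h]
  symm
  refine card_bij (fun x _ => insert x S) ?_ ?_ ?_
  · intro x hx
    rw [mem_sdiff] at hx
    simp only [mem_filter, mem_powersetCard]
    exact ⟨⟨insert_subset hx.1 h, card_insert_of_notMem hx.2⟩, subset_insert _ _⟩
  · intro x hx y _ e
    have : x ∈ insert y S := e ▸ mem_insert_self x S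
    exact (mem_insert.1 this).resolve_right (mem_sdiff.1 hx).2
  · intro T hT
    simp only [mem_filter, mem_powersetCard] at hT
    obtain ⟨x, hx, e⟩ := (exists_eq_insert_iff.2 ⟨hT.2, hT.1.2.symm⟩ : ∃ a ∉ S, insert a S = T)
    exact ⟨x, mem_sdiff.2 ⟨hT.1.1 (e ▸ mem_insert_self x S), hx⟩, e⟩

theorem double_count (good : Finset α → Prop) [DecidablePred good] (j u : ℕ)
    (hu : ∀ T : Finset α, #T = j + 1 → #{S ∈ powersetCard j T | good S} = u) (L : Finset α) :
    (#L).choose (j + 1) * u = #{S ∈ powersetCard j L | good S} * (#L - j) := by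
  have := sum_card_bipartiteAbove_eq_sum_card_bipartiteBelow
    (s := powersetCard (j + 1) L) (t := {S ∈ powersetCard j L | good S}) (fun T S => S ⊆ T)
  rw [sum_const_nat (m := u), sum_const_nat (m := #L - j), card_powersetCard] at this
  · exact this
  · intro S hS
    simp only [mem_filter, mem_powersetCard] at hS
    rw [bipartiteBelow, ← hS.1.2, card_ext hS.1.1]
  · intro T hT
    rw [mem_powersetCard] at hT
    rw [← hu T hT.2, bipartiteAbove]
    congr 1
    ext S
    simp only [mem_filter, mem_powersetCard]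
    exact ⟨fun h => ⟨⟨h.2, h.1.1.2⟩, h.1.2⟩, fun h => ⟨⟨⟨h.1.1.trans hT.1, h.1.2⟩, h.2⟩, h.1.1⟩⟩

theorem wielandt [Fintype α] (G : Subgroup (Equiv.Perm α)) {k : ℕ} (hk : 2 ≤ k)
    (hG : MulAction.IsPretransitive G (Set.powersetCard α k))
    (hq : ∀ q : ℕ, IsPrimePow q → q ∣ k → k + q - 1 ≤ Fintype.card α) :
    MulAction.IsPretransitive G (Set.powersetCard α (k - 1)) := by
  classical
  obtain ⟨j, rfl⟩ : ∃ j, k = j + 1 := ⟨k - 1, by omega⟩
  refine ⟨fun A B => ?_⟩
  have hn : j + 1 ≤ Fintype.card α := by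
    have h1 := Nat.minFac_prime (show j + 1 ≠ 1 by omega)
    have := hq _ h1.isPrimePow (Nat.minFac_dvd _)
    have := h1.two_le
    omega
  let good : Finset α → Prop := fun S => ∃ g : G, g • (A : Finset α) = S
  have ext : ∀ S : Finset α, #S = j → ∃ T, S ⊆ T ∧ #T = j + 1 := fun S hS => by
    obtain ⟨T, h1, -, h2⟩ := exists_subsuperset_card_eq (subset_univ S) (n := j + 1) (by omega)
      (by simpa using hn)
    exact ⟨T, h1, h2⟩
  obtain ⟨T₀, hAT, hT₀⟩ := ext A A.2
  set u := #{S ∈ powersetCard j T₀ | good S} with hud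
  have hu : ∀ T : Finset α, #T = j + 1 → #{S ∈ powersetCard j T | good S} = u := by
    intro T hT
    obtain ⟨g, hg⟩ := hG.exists_smul_eq ⟨T, hT⟩ ⟨T₀, hT₀⟩
    have hg' : g • T = T₀ := congrArg Subtype.val hg
    refine card_bij' (fun S _ => g • S) (fun S _ => g⁻¹ • S) ?_ ?_ (by simp) (by simp)
    · intro S hS
      simp only [mem_filter, mem_powersetCard] at hS ⊢
      obtain ⟨⟨h1, h2⟩, h, rfl⟩ := hS
      exact ⟨⟨hg' ▸ smul_finset_subset_smul_finset h1, by rw [card_smul_finset, h2]⟩,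
        g * h, mul_smul _ _ _⟩
    · intro S hS
      simp only [mem_filter, mem_powersetCard] at hS ⊢
      obtain ⟨⟨h1, h2⟩, h, rfl⟩ := hS
      refine ⟨⟨?_, by rw [card_smul_finset, h2]⟩, g⁻¹ * h, mul_smul _ _ _⟩
      rw [← inv_smul_smul g T, hg']
      exact smul_finset_subset_smul_finset h1
  have hdvd : j + 1 ∣ u := by
    rw [Nat.dvd_iff_prime_pow_dvd_dvd]
    intro p a hp hpa
    rcases Nat.eq_zero_or_pos a with rfl | ha
    · simp
    have hpos : 0 < p ^ a := pow_pos hp.pos a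
    obtain ⟨L, -, hL⟩ := exists_subset_card_eq (s := (univ : Finset α)) (n := j + 1 + (p ^ a - 1))
      (by have := hq _ (hp.isPrimePow.pow ha.ne') hpa; rw [card_univ]; omega)
    have h1 := double_count good j u hu L
    rw [hL, show j + 1 + (p ^ a - 1) - j = p ^ a by omega, Nat.choose_symm_add] at h1
    refine Nat.Coprime.dvd_of_dvd_mul_left ?_ (Dvd.intro_left _ h1.symm)
    exact Nat.Coprime.pow_left _ ((Nat.Prime.coprime_iff_not_dvd hp).2 (not_dvd_choose hp hpa))
  have hupos : 0 < u := card_pos.2 ⟨A, by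
    simp only [mem_filter, mem_powersetCard]
    exact ⟨⟨hAT, A.2⟩, 1, one_smul _ _⟩⟩
  obtain ⟨T, hBT, hT⟩ := ext B B.2
  have hfull : {S ∈ powersetCard j T | good S} = powersetCard j T := by
    refine eq_of_subset_of_card_le (filter_subset _ _) ?_
    rw [hu T hT, card_powersetCard, hT, Nat.choose_succ_self_right]
    exact Nat.le_of_dvd hupos hdvd
  have hB : (B : Finset α) ∈ {S ∈ powersetCard j T | good S} := by
    rw [hfull, mem_powersetCard]; exact ⟨hBT, B.2⟩
  obtain ⟨g, hg⟩ := (mem_filter.1 hB).2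
  exact ⟨g, Subtype.ext hg⟩

end H2.Wie
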